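import Cfsg.Agent.H556.HallSLRow
import Cfsg.Agent.LieClassical.SUBasic

/-!
# `P(z)` for `PSU` in cross characteristic (helper556)
-/

set_option autoImplicit false

namespace Cfsg.Agent.H556.HallSURow

open Module Matrix Cfsg Cfsg.Agent.H167.OP Cfsg.Agent.H170.HL Cfsg.Agent.H556.HallRowAbs
open Cfsg.Agent.H556.HallSLRow Cfsg.Agent.LieClassical.HermBasic

variable {F : Type*} [Field F] [Fintype F] {n q : ℕ} {K : Type*} [Group K]

/-- the hermitian form as a sesquilinear map -/
def frm (hF : Fintype.card F = q ^ 2) (n : ℕ) :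
    (Fin n → F) →ₗ[F] (Fin n → F) →ₛₗ[(conj hF : F →+* F)] F :=
  LinearMap.mk₂'ₛₗ (RingHom.id F) (conj hF : F →+* F) (hermForm n F q)
    (fun u u' v => herm_add_left u u' v) (fun c u v => herm_smul_left c u v)
    (fun u v v' => herm_add_right hF u v v') (fun c u v => herm_smul_right c u v)

theorem frm_apply (hF : Fintype.card F = q ^ 2) (u v : Fin n → F) :
    frm hF n u v = hermForm n F q u v := rfl

/-- the lower bound in unitary groups -/
theorem lb_VE (hF : Fintype.card F = q ^ 2) [Finite K] (ρ : Representation F K (Fin n → F))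
    (hiso : ∀ g u v, hermForm n F q (ρ g u) (ρ g v) = hermForm n F q u v) {r : ℕ}
    (hr : r.Prime) (hrF : (r : F) ≠ 0) {D E : Subgroup K} (hED : E ≤ D)
    (hab : ∀ a ∈ D, ∀ b ∈ D, a * b = b * a) (hexp : ∀ a ∈ D, a ^ r = 1) (hV : VE ρ E D ≠ ⊥) :
    orderOf (-(q : ZMod r)) ≤ finrank F (VE ρ E D) := by
  have hcD := card_ne_zero_of_exp (F := F) hr hrF hexp
  have hcE := card_ne_zero_of_exp (F := F) (D := E) hr hrF (fun a ha => hexp a (hED ha))
  obtain ⟨d, hd, w, hw, hdw⟩ := exists_act ρ hcD hV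
  -- the projection
  let P : Module.End F (Fin n → F) := avg ρ E - avg ρ D
  have hPV : ∀ u, P u ∈ VE ρ E D := by
    intro u
    refine ⟨fun e he => ?_, ?_⟩
    · show ρ e (avg ρ E u - avg ρ D u) = avg ρ E u - avg ρ D u
      rw [map_sub, map_avg ρ E he, map_avg ρ D (hED he)]
    · have h4 : avg ρ D (avg ρ D u) = avg ρ D u := avg_fixed ρ D hcD (fun e he => map_avg ρ D he u)
      have h5 : avg ρ D (avg ρ E u) = avg ρ D u := by
        classical
        have : Fintype E := Fintype.ofFinite E
        rw [avg_apply ρ E, map_smul, map_sum]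
        have : ∀ e : E, avg ρ D (ρ e u) = avg ρ D u := fun e => avg_map ρ D (hED e.2) u
        rw [Finset.sum_congr rfl (fun e _ => this e), Finset.sum_const, Finset.card_univ,
          ← Nat.cast_smul_eq_nsmul F, smul_smul, ← Nat.card_eq_fintype_card,
          inv_mul_cancel₀ hcE, one_smul]
      show avg ρ D (avg ρ E u - avg ρ D u) = 0
      rw [map_sub, h5, h4, sub_self]
  have hPid : ∀ u ∈ VE ρ E D, P u = u := by
    intro u hu
    show avg ρ E u - avg ρ D u = u
    rw [hu.2, avg_fixed ρ E hcE hu.1, sub_zero]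
  have hadj : ∀ u v, hermForm n F q (P u) v = hermForm n F q u (P v) := by
    intro u v
    have h1 := avg_adj ρ (frm hF n) hiso E u v
    have h2 := avg_adj ρ (frm hF n) hiso D u v
    show frm hF n (avg ρ E u - avg ρ D u) v = frm hF n u (avg ρ E v - avg ρ D v)
    rw [map_sub, LinearMap.sub_apply, map_sub, h1, h2]
  have horth : ∀ u ∈ VE ρ E D, ∀ v, hermForm n F q u (v - P v) = 0 := by
    intro u hu v
    rw [← hPid u hu, hadj, map_sub, hPid _ (hPV v), sub_self, herm_zero_right hF]
  have horth' : ∀ u ∈ VE ρ E D, ∀ v, hermForm n F q (v - P v) u = 0 := by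
    intro u hu v
    rw [← hPid u hu, ← hadj, map_sub, hPid _ (hPV v), sub_self, herm_zero_left]
  have hVinv : ∀ u ∈ VE ρ E D, ρ d u ∈ VE ρ E D := fun u hu => VE_inv ρ hED hab hd hu
  -- the element acting on `V_E` only
  let A : Module.End F (Fin n → F) := ρ d * P + (1 - P)
  have hA : ∀ u, A u = ρ d (P u) + (u - P u) := fun u => rfl
  have hAV : ∀ u ∈ VE ρ E D, A u = ρ d u := by
    intro u hu
    rw [hA, hPid u hu, sub_self, add_zero]
  have hA0 : ∀ u, A (u - P u) = u - P u := by
    intro u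
    rw [hA, map_sub, hPid _ (hPV u), sub_self, map_zero, zero_add, sub_zero]
  have hpowV : ∀ (i : ℕ), ∀ u ∈ VE ρ E D, (A ^ i) u = ρ (d ^ i) u ∧ ρ (d ^ i) u ∈ VE ρ E D := by
    intro i
    induction i with
    | zero => intro u hu; rw [pow_zero, pow_zero, one_ap, Module.End.one_apply]; exact ⟨rfl, hu⟩
    | succ i ih =>
      intro u hu
      obtain ⟨h1, h2⟩ := ih u hu
      rw [pow_succ', Module.End.mul_apply, pow_succ', mul_ap, h1, hAV _ h2]
      exact ⟨rfl, hVinv _ h2⟩
  have hpow0 : ∀ (i : ℕ) u, (A ^ i) (u - P u) = u - P u := by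
    intro i
    induction i with
    | zero => intro u; rw [pow_zero, Module.End.one_apply]
    | succ i ih => intro u; rw [pow_succ', Module.End.mul_apply, ih, hA0]
  have h1 : A ^ r = 1 := by
    apply LinearMap.ext
    intro u
    have h2 : u = P u + (u - P u) := by abel
    rw [Module.End.one_apply]
    conv_lhs => rw [h2]
    rw [map_add, (hpowV r _ (hPV u)).1, hpow0, hexp d hd, one_ap]
    abel
  have h2 : A ≠ 1 := by
    intro h
    apply hdw
    rw [← hAV w hw, h, Module.End.one_apply]
  have h3 : ∀ u v, hermForm n F q (A u) (A v) = hermForm n F q u v := by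
    intro u v
    have e1 : hermForm n F q (A u) (A v) = hermForm n F q (P u) (P v) +
        hermForm n F q (u - P u) (v - P v) := by
      rw [hA, hA, herm_add_left, herm_add_right hF, herm_add_right hF, hiso,
        horth _ (hVinv _ (hPV u)), horth' _ (hVinv _ (hPV v)), add_zero, zero_add]
    have e2 : hermForm n F q u v = hermForm n F q (P u) (P v) +
        hermForm n F q (u - P u) (v - P v) := by
      have h4 : u = P u + (u - P u) := by abel
      have h5 : v = P v + (v - P v) := by abel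
      conv_lhs => rw [h4, h5]
      rw [herm_add_left, herm_add_right hF, herm_add_right hF, horth _ (hPV u),
        horth' _ (hPV v), add_zero, zero_add]
    rw [e1, e2]
  have hrq : ¬ r ∣ q := by
    intro h
    apply not_dvd_card hr hrF
    rw [hF]
    exact dvd_pow h two_ne_zero
  refine (HallLB.lb_unit hF hr hrq h1 h2 h3).trans (Submodule.finrank_mono ?_)
  rintro _ ⟨u, rfl⟩
  have h4 : (A - 1) u = ρ d (P u) - P u := by
    rw [LinearMap.sub_apply, Module.End.one_apply, hA]
    abel
  rw [h4]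
  exact Submodule.sub_mem _ (hVinv _ (hPV u)) (hPV u)

/-- the inclusion of `SU_n` -/
def inc (n : ℕ) (F : Type*) [Field F] (q : ℕ) : SU n F q →* Matrix (Fin n) (Fin n) F where
  toFun A := A.1.1
  map_one' := rfl
  map_mul' _ _ := rfl

theorem inc_injective {F : Type*} [Field F] : Function.Injective (inc n F q) :=
  Subtype.val_injective.comp Subtype.val_injective

theorem rowDat (hF : Fintype.card F = q ^ 2) (n : ℕ) :
    RowDat (rep (inc n F q)) fun r => orderOf (-(q : ZMod r)) where
  inj := rep_injective inc_injective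
  lb r hr _ hrF D E hED hab hexp hV := lb_VE hF _ (fun g u v => g.2 u v) hr hrF hED hab hexp hV
  epos r hr hrF := HallOrd.order_pos hr (by
    rw [Ne, neg_eq_zero, ZMod.natCast_eq_zero_iff]
    exact fun h => not_dvd_card hr hrF (hF ▸ dvd_pow h two_ne_zero))
  edvd r hr hrF := HallOrd.order_dvd hr (by
    rw [Ne, neg_eq_zero, ZMod.natCast_eq_zero_iff]
    exact fun h => not_dvd_card hr hrF (hF ▸ dvd_pow h two_ne_zero))

/-- **`P(z)` for `PSU`** -/
theorem exists_pz (hF : Fintype.card F = q ^ 2) {n : ℕ} (hn : 3 ≤ n) {G : Type*} [Group G] [Finite G]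
    (e : G ≃* PSU n F q)
    (hbeta : ∀ t : ℕ, t.Prime → Odd t → (t : F) ≠ 0 → BetaP (rep (inc n F q)) t)
    (π : Set ℕ) (h2 : 2 ∉ π) (hp : ∀ r ∈ π, r.Prime → (r : F) ≠ 0)
    (hne : ∃ r ∈ π, r.Prime ∧ r ∣ Nat.card G) :
    ∃ t ∈ π, t.Prime ∧ t ∣ Nat.card G ∧ ∃ z : G, z ≠ 1 ∧ z ^ t = 1 ∧ PZ t π z := by
  let φ : SU n F q →* G :=
    (e.symm : PSU n F q →* G).comp (QuotientGroup.mk' (Subgroup.center (SU n F q)))
  have hφ : Function.Surjective φ :=
    e.symm.surjective.comp (QuotientGroup.mk'_surjective _)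
  have hφ1 : ∀ k, φ k = 1 ↔ k ∈ Subgroup.center (SU n F q) := by
    intro k
    rw [← QuotientGroup.eq_one_iff]
    constructor
    · intro h
      exact e.symm.injective (h.trans (map_one e.symm).symm)
    · intro h
      show e.symm (QuotientGroup.mk' _ k) = 1
      rw [QuotientGroup.mk'_apply, h, map_one]
  refine exists_pz_abs (rowDat hF n) φ hφ (fun k hk x => ?_) hbeta π h2 hp ?_ hne
  · exact (Subgroup.mem_center_iff.mp ((hφ1 k).mp hk) x).symm
  · intro t ht hodd htF htd
    have htq : ¬ t ∣ q := fun h => not_dvd_card ht htF (hF ▸ dvd_pow h two_ne_zero)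
    have h1 : Nat.card G ∣ Nat.card (SU n F q) := Subgroup.card_dvd_of_surjective φ hφ
    obtain ⟨z, hz1, hz2, hz3⟩ := HallOrd.small_SU hF (by omega) ht htq (htd.trans h1)
    refine ⟨z, fun h => hz2 ?_, hz1, hz3⟩
    rw [hφ1, Cfsg.Agent.LieClassical.SUBasic.mem_center_SU_iff hF hn] at h
    obtain ⟨c, hcn, hcq, rfl⟩ := h
    have hne : Nonempty (Fin n) := ⟨⟨0, by omega⟩⟩
    have hval : (Cfsg.Agent.LieClassical.SUBasic.suScalar q c hcn hcq : SU n F q).1.1 =
        diagonal fun _ => c := rfl
    have hct : c ^ t = 1 := by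
      have h3 : (scalar (Fin n) c) ^ t = 1 := by
        rw [scalar_apply, ← hval]
        exact congrArg (fun A : SU n F q => A.1.1) hz1
      rwa [← map_pow, ← map_one (scalar (Fin n)), scalar_inj] at h3
    have h4 := eq_one_of_scalar (by omega) ht hcn hct
      ((Cfsg.Agent.LieClassical.SUBasic.suScalar q c hcn hcq : SU n F q).1.1.mulVecLin) (fun v => by
        rw [mulVecLin_apply, hval, ← smul_one_eq_diagonal, smul_mulVec, one_mulVec]) (hz3.trans
        (HallOrd.mm_le ht (by rintro rfl; exact absurd hodd (by decide)) (by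
          rw [Ne, neg_eq_zero, ZMod.natCast_eq_zero_iff]; exact htq)))
    apply Subtype.ext
    apply Subtype.ext
    rw [hval, h4, diagonal_one]
    rfl

end Cfsg.Agent.H556.HallSURow
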