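import Cfsg.Agent.S0071
import Cfsg.Agent.H553.GoodLems

/-!
# `OddClosed` from the Frobenius criterion (helper556)
-/

set_option autoImplicit false
set_option linter.unusedSectionVars false

namespace Cfsg.Agent.H556.OmClosed

open Subgroup Cfsg.Agent.H553.ExtRed

variable {H : Type*} [Group H] [Finite H]

theorem centralizes_odd
    (hc : ∀ r n : ℕ, r.Prime → r ≠ 2 → r ∣ Nat.card H → ∀ g : H, g ^ r ^ n = 1 → ∀ R : Subgroup H, IsPGroup 2 R →
      g ∈ normalizer (R : Set H) → g ∈ centralizer (R : Set H)) {R : Subgroup H} (hR : IsPGroup 2 R) (N : ℕ) :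
    ∀ g : H, orderOf g = N → g ∈ normalizer (R : Set H) → Nat.Coprime (orderOf g) 2 →
      g ∈ centralizer (R : Set H) := by
  induction N using Nat.recOnPosPrimePosCoprime with
  | prime_pow p n hp hn =>
    intro g hg hgN hco
    rw [hg] at hco
    have hp2 : p ≠ 2 := by
      rintro rfl
      exact absurd ((Nat.coprime_pow_left_iff hn 2 2).mp hco) (by decide)
    refine hc p n hp hp2 ?_ g (by rw [← hg]; exact pow_orderOf_eq_one g) R hR hgN
    refine dvd_trans ?_ (orderOf_dvd_natCard g)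
    rw [hg]
    exact dvd_pow_self p hn.ne'
  | zero =>
    intro g hg _ _
    exact absurd hg (orderOf_pos g).ne'
  | one =>
    intro g hg _ _
    rw [orderOf_eq_one_iff.mp hg]
    exact one_mem _
  | coprime a b ha hb hab iha ihb =>
    intro g hg hgN hco
    rw [hg] at hco
    have hga : orderOf (g ^ b) = a := by
      rw [orderOf_pow, hg, Nat.gcd_eq_right (Dvd.intro_left a rfl), Nat.mul_div_cancel _ (by omega)]
    have hgb : orderOf (g ^ a) = b := by
      rw [orderOf_pow, hg, Nat.gcd_eq_right (Dvd.intro b rfl), Nat.mul_div_cancel_left _ (by omega)]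
    have h1 := iha (g ^ b) hga (pow_mem hgN b) (by rw [hga]; exact hco.coprime_mul_right)
    have h2 := ihb (g ^ a) hgb (pow_mem hgN a) (by rw [hgb]; exact hco.coprime_mul_left)
    have hbez := Nat.gcd_eq_gcd_ab a b
    rw [hab] at hbez
    have h4 : g = (g ^ a) ^ (Nat.gcdA a b) * (g ^ b) ^ (Nat.gcdB a b) := by
      rw [← zpow_natCast g a, ← zpow_natCast g b, ← zpow_mul, ← zpow_mul, ← zpow_add, ← hbez]
      simp
    rw [h4]
    exact mul_mem (zpow_mem h2 _) (zpow_mem h1 _)

/-- the Frobenius criterion -/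
theorem oddClosed_of_cen
    (hc : ∀ r n : ℕ, r.Prime → r ≠ 2 → r ∣ Nat.card H → ∀ g : H, g ^ r ^ n = 1 → ∀ R : Subgroup H, IsPGroup 2 R →
      g ∈ normalizer (R : Set H) → g ∈ centralizer (R : Set H)) : OddClosed H := by
  have : Fact (Nat.Prime 2) := ⟨Nat.prime_two⟩
  obtain ⟨P⟩ : Nonempty (Sylow 2 H) := inferInstance
  obtain ⟨N, hN, hc⟩ := (Cfsg.Agent.S0071.result P).mpr fun _ hQ g hg hco =>
    centralizes_odd hc (P.2.to_le hQ) _ g rfl hg hco
  have hNo : Odd (Nat.card N) := by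
    rw [← Nat.not_even_iff_odd, even_iff_two_dvd]
    intro hd
    have h2 : (P : Subgroup H).index = Nat.card N := hc.index_eq_card
    rw [← h2] at hd
    exact P.not_dvd_index hd
  have hmem : ∀ x : H, Odd (orderOf x) → x ∈ N := by
    intro x hx
    have h1 : N.index = Nat.card P := hc.symm.index_eq_card
    obtain ⟨a, ha⟩ := IsPGroup.iff_card.mp P.2
    rw [← QuotientGroup.eq_one_iff, ← orderOf_eq_one_iff]
    have h2 : orderOf (x : H ⧸ N) ∣ orderOf x := orderOf_map_dvd (QuotientGroup.mk' N) x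
    have h3 : orderOf (x : H ⧸ N) ∣ 2 ^ a := by
      rw [← ha, ← h1]
      exact orderOf_dvd_natCard _
    have h4 : Nat.Coprime (orderOf x) (2 ^ a) := (Nat.coprime_two_right.mpr hx).pow_right a
    exact Nat.eq_one_of_dvd_coprimes h4 h2 h3
  intro x y hx hy
  have h1 : x * y ∈ N := mul_mem (hmem x hx) (hmem y hy)
  have h2 : orderOf (x * y) ∣ Nat.card N := by
    have := orderOf_dvd_natCard (⟨x * y, h1⟩ : N)
    rwa [Subgroup.orderOf_mk] at this
  exact hNo.of_dvd_nat h2

/-- quotients by kernels of exponent 2 -/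
theorem OddClosed_of_surj {H' : Type*} [Group H'] [Finite H'] (φ : H →* H') (hφ : Function.Surjective φ)
    (hk : ∀ k, φ k = 1 → k * k = 1) (h : OddClosed H) : OddClosed H' := by
  have key : ∀ x : H', Odd (orderOf x) → ∃ x' : H, φ x' = x ∧ Odd (orderOf x') := by
    intro x hx
    obtain ⟨z, rfl⟩ := hφ x
    obtain ⟨k, hk'⟩ := hx
    refine ⟨z ^ (orderOf (φ z) + 1), ?_, ?_⟩
    · rw [map_pow, pow_succ, pow_orderOf_eq_one, one_mul]
    · refine odd_orderOf_of_pow (n := orderOf (φ z)) ⟨k, hk'⟩ ?_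
      have h1 : z ^ orderOf (φ z) * z ^ orderOf (φ z) = 1 := hk _ (by rw [map_pow, pow_orderOf_eq_one])
      have h2 : orderOf (φ z) + 1 = 2 * (k + 1) := by omega
      rw [h2, ← pow_mul, mul_comm (2 * (k + 1)), ← mul_assoc, pow_mul, pow_mul, pow_two, h1, one_pow]
  intro x y hx hy
  obtain ⟨x', rfl, hx'⟩ := key x hx
  obtain ⟨y', rfl, hy'⟩ := key y hy
  rw [← map_mul]
  exact Odd.of_dvd_nat (h x' y' hx' hy') (orderOf_map_dvd φ _)

end Cfsg.Agent.H556.OmClosed
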