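import Cfsg.Agent.H556.OmHall
import Cfsg.Agent.H556.OmClosed
import Cfsg.Agent.H170.HL.OmRows
import Cfsg.Prelude.Def_LieTypeChar

/-!
# The orthogonal rows of S4312 (helper556), modulo `ClaimB` (helper170)
-/

set_option autoImplicit false

namespace Cfsg.Agent.H556.Om

open Module QuadraticMap Cfsg.Agent.H167.OP Cfsg.Agent.H170.HL Cfsg.Agent.H170.HL.OmRow Cfsg.Agent.H170.Fl
open Subgroup Cfsg Cfsg.Agent.H988.CPi Cfsg.Agent.H553.OddHall Cfsg.Agent.H553.ExtRed

/-- helper170's theorem for the orthogonal groups -/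
def ClaimAll : Prop :=
  ∀ (F : Type) [Field F] [Finite F] (ι : Type) [Fintype ι] [DecidableEq ι] (Q : QuadraticForm F (ι → F)),
    (2 : F) ≠ 0 → GoodQ Q → ClaimB (rep (inc (⇑Q))) (polarBilin Q)

variable {π : Set ℕ}

theorem good_omega {S : Type*} [Group S] [Finite S] [IsSimpleGroup S] (hB : ClaimAll) (hna : ¬ IsMulCommutative S)
    (h2π : 2 ∈ π) (h3π : 3 ∉ π) (hodd : OddC S) (hE : IsEPiGroup π S) {F : Type} [Field F] [Finite F] {p : ℕ}
    [CharP F p] (hp : p.Prime) (hpπ : p ∉ π) {ι : Type} [Fintype ι]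
    [DecidableEq ι] {Q : QuadraticForm F (ι → F)} (hQ : GoodQ Q) {Q' : (ι → F) → F}
    (hQQ : ⇑Q = Q') (e : S ≃* Cfsg.POmega F Q') : Good π S := by
  subst hQQ
  have hfin : Finite (Cfsg.Omega F (⇑Q)) := inferInstance
  have h2 : (2 : F) ≠ 0 := by
    intro h
    have h1 : ((2 : ℕ) : F) = 0 := by exact_mod_cast h
    rw [CharP.cast_eq_zero_iff F p, Nat.prime_dvd_prime_iff_eq hp Nat.prime_two] at h1
    exact hpπ (h1 ▸ h2π)
  let φ : Cfsg.Omega F (⇑Q) →* S :=
    (e.symm : Cfsg.POmega F (⇑Q) →* S).comp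
      (QuotientGroup.mk' (Subgroup.center (Cfsg.Omega F (⇑Q))))
  have hφ : Function.Surjective φ :=
    e.symm.surjective.comp (QuotientGroup.mk'_surjective _)
  have hφ1 : ∀ k, φ k = 1 → k * k = 1 := by
    intro k h
    have hk : k ∈ Subgroup.center (Cfsg.Omega F (⇑Q)) := by
      rw [← QuotientGroup.eq_one_iff]
      exact e.symm.injective (h.trans (map_one e.symm).symm)
    have h1 := (Cfsg.Agent.LieClassical.OmegaCenter.mem_center_omega_iff Q hQ.nd hQ.card hQ.sing k).mp hk
    apply inc_injective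
    rw [map_mul, map_one]
    have h1' : inc (⇑Q) k = 1 ∨ inc (⇑Q) k = -1 := h1
    rcases h1' with h | h
    · rw [h, one_mul]
    · rw [h, neg_mul_neg, one_mul]
  obtain ⟨H, hH⟩ := hE
  have hH' : IsPiHall π H := hH
  -- the preimage
  have hK : IsPiHall π (H.comap φ) := by
    constructor
    · intro r hr hd
      have := Fact.mk hr
      obtain ⟨x, hx⟩ := exists_prime_orderOf_dvd_card' (G := H.comap φ) r hd
      by_cases h1 : φ (x : Cfsg.Omega F (⇑Q)) = 1
      · have h3 : x * x = 1 := Subtype.ext (hφ1 _ h1)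
        have h4 : r ∣ 2 := by
          rw [← hx]
          exact orderOf_dvd_of_pow_eq_one (by rw [pow_two]; exact h3)
        rw [(Nat.prime_dvd_prime_iff_eq hr Nat.prime_two).mp h4]
        exact h2π
      · apply hH'.1 r hr
        let z : H := ⟨φ x, x.2⟩
        have h3 : z ^ r = 1 := by
          apply Subtype.ext
          show (φ x) ^ r = 1
          rw [← map_pow]
          have : x ^ r = 1 := by rw [← hx, pow_orderOf_eq_one]
          have h4 : (x : Cfsg.Omega F (⇑Q)) ^ r = 1 := congrArg Subtype.val this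
          rw [h4, map_one]
        have h4 : orderOf z = r := orderOf_eq_prime h3 fun h => h1 (congrArg Subtype.val h)
        rw [← h4]
        exact orderOf_dvd_natCard z
    · intro r hr hrπ hd
      rw [index_comap_of_surjective H hφ] at hd
      exact hH'.2 r hr hrπ hd
  have hHH : HH Q (H.comap φ) :=
    { gq := hQ
      two := h2
      claim := hB F ι Q h2 hQ
      idx := hK.2 2 Nat.prime_two h2π
      three := fun hd => h3π (hK.1 3 Nat.prime_three hd)
      card := by
        intro h0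
        rw [CharP.cast_eq_zero_iff F p] at h0
        exact hpπ (hK.1 p hp h0) }
  have hcl : OddClosed (H.comap φ) := by
    refine Cfsg.Agent.H556.OmClosed.oddClosed_of_cen ?_
    intro r n hr hr2 hd g hg R hR hgR
    have hrπ : r ∈ π := hK.1 r hr hd
    have h5 : 5 ≤ r := by
      by_contra hcon
      push Not at hcon
      have := hr.two_le
      interval_cases r
      · exact hr2 rfl
      · exact h3π hrπ
      · exact absurd hr (by norm_num)
    have h6 := hHH.cen hK h2π h3π hr h5 hrπ (y := (g : Cfsg.Omega F (⇑Q))) g.2 (n := n)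
      (by exact_mod_cast congrArg Subtype.val hg) (D := R.map (H.comap φ).subtype) (map_subtype_le _) (hR.map _) (by
        rintro _ ⟨d, hd, rfl⟩
        exact ⟨g * d * g⁻¹, (mem_normalizer_iff.mp hgR d).mp hd, rfl⟩)
    rw [mem_centralizer_iff]
    intro d hd
    exact Subtype.ext (h6 d ⟨d, hd, rfl⟩).symm
  refine good_of_oddClosed hna hodd H hH' h2π ?_
  refine Cfsg.Agent.H556.OmClosed.OddClosed_of_surj (φ.subgroupComap H)
    (MonoidHom.subgroupComap_surjective_of_surjective φ H hφ) ?_ hcl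
  intro k hk
  exact Subtype.ext (hφ1 _ (congrArg Subtype.val hk))

variable {S : Type*} [Group S] [Finite S] [IsSimpleGroup S]

/-- row `oOdd` of S4312 -/
theorem row_oOdd (hB : ClaimAll) (hna : ¬ IsMulCommutative S) (h2π : 2 ∈ π) (h3π : 3 ∉ π) (hodd : OddC S)
    (hE : IsEPiGroup π S) : ∀ p : ℕ, p.Prime → p ∉ π → IsPOmegaOddChar p S → PiN π (Nat.card S) ∨ Good π S := by
  intro p hp hpπ hG
  obtain ⟨F, _, _, hchar, m, hm, hoddF, ⟨e⟩⟩ := hG
  have h2 : (2 : F) ≠ 0 := by
    intro h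
    have h1 : ((2 : ℕ) : F) = 0 := by exact_mod_cast h
    rw [CharP.cast_eq_zero_iff F p, Nat.prime_dvd_prime_iff_eq hp Nat.prime_two] at h1
    exact hpπ (h1 ▸ h2π)
  exact Or.inr (good_omega hB hna h2π h3π hodd hE hp hpπ (goodQ_odd (by omega) h2)
    (Cfsg.Agent.LieClassical.OrthForms.coe_oddForm m F) e)

/-- row `oPlus` of S4312 -/
theorem row_oPlus (hB : ClaimAll) (hna : ¬ IsMulCommutative S) (h2π : 2 ∈ π) (h3π : 3 ∉ π) (hodd : OddC S)
    (hE : IsEPiGroup π S) : ∀ p : ℕ, p.Prime → p ∉ π → IsPOmegaPlusChar p S → PiN π (Nat.card S) ∨ Good π S := by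
  intro p hp hpπ hG
  obtain ⟨F, _, _, hchar, m, hm, ⟨e⟩⟩ := hG
  exact Or.inr (good_omega hB hna h2π h3π hodd hE hp hpπ (goodQ_plus (by omega))
    (Cfsg.Agent.LieClassical.OrthForms.coe_plusForm m F) e)

/-- row `oMinus` of S4312 -/
theorem row_oMinus (hB : ClaimAll) (hna : ¬ IsMulCommutative S) (h2π : 2 ∈ π) (h3π : 3 ∉ π) (hodd : OddC S)
    (hE : IsEPiGroup π S) : ∀ p : ℕ, p.Prime → p ∉ π → IsPOmegaMinusChar p S → PiN π (Nat.card S) ∨ Good π S := by
  intro p hp hpπ hG
  obtain ⟨F, _, _, hchar, m, a, b, hm, hab, ⟨e⟩⟩ := hG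
  exact Or.inr (good_omega hB hna h2π h3π hodd hE hp hpπ (goodQ_minus (by omega) a b hab)
    (Cfsg.Agent.LieClassical.OrthForms.coe_minusForm (m - 1) F a b) e)

end Cfsg.Agent.H556.Om
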