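import Cfsg.Agent.H556.SzEnd
import Cfsg.Agent.H556.OmGood

/-!
# Claim (B) without solvability and the orthogonal rows of S4312 (helper556; the proof of `claimB'` is helper170's
`claimB` with `Hyp.not_solvable` replaced by `SzEnd.no_hyp`)
-/

set_option autoImplicit false
set_option linter.unusedVariables false

namespace Cfsg.Agent.H556.OmClaim

open Module Cfsg.Agent.H167.OP Cfsg.Agent.H170.HL Cfsg.Agent.H170.Fl

variable {F : Type*} [Field F] {V : Type*} [AddCommGroup V] [Module F V] {G : Type*} [Group G]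

/-- **Claim (B)** -/
theorem claimB' [Finite G] [FiniteDimensional F V] (ρ : Representation F G V)
    (hρ : Function.Injective ρ) (h2 : (2 : F) ≠ 0) (f : V →ₗ[F] V →ₗ[F] F)
    (hf : ∀ g u v, f (ρ g u) (ρ g v) = f u v) (hsym : ∀ u v, f u v = f v u)
    (hnd : ∀ x, (∀ y, f y x = 0) → x = 0) {R R' : Subgroup G} (hR : QR ρ R) (hR' : QR ρ R')
    (h3 : ¬ 3 ∣ Nat.card (R ⊔ R' : Subgroup G)) (hJ : (Nat.card (R ⊔ R' : Subgroup G) : F) ≠ 0) :
    CV ρ R = CV ρ R' ∨ ∀ u ∈ CV ρ R, ∀ u' ∈ CV ρ R', f u u' = 0 := by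
  by_contra hcon
  push Not at hcon
  obtain ⟨hne, horth⟩ := hcon
  have horth' : ¬ ∀ u ∈ CV ρ R, ∀ u' ∈ CV ρ R', f u u' = 0 := by
    push Not; exact horth
  set J := R ⊔ R' with hJdef
  have hRJ : R ≤ J := le_sup_left
  have hR'J : R' ≤ J := le_sup_right
  have hWs : CV ρ J = CV ρ R ⊔ CV ρ R' := CV_sup ρ R R'
  -- irreducibility
  have hirr : ∀ M : Submodule F V, M ≤ CV ρ J → (∀ g ∈ J, ∀ m ∈ M, ρ g m ∈ M) → M = ⊥ ∨ M = CV ρ J := by
    intro M hM hinv
    have h4 := hR.irr (M ⊓ CV ρ R) inf_le_right (fun r hr m hm =>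
      ⟨hinv r (hRJ hr) m hm.1, CV_inv ρ hr hm.2⟩)
    have h5 := hR'.irr (M ⊓ CV ρ R') inf_le_right (fun r hr m hm =>
      ⟨hinv r (hR'J hr) m hm.1, CV_inv ρ hr hm.2⟩)
    have htriv : ∀ {X : Subgroup G}, X ≤ J → M ⊓ CV ρ X = ⊥ → ∀ r ∈ X, ∀ m ∈ M, ρ r m = m := by
      intro X hX h0 r hr m hm
      have h6 : ρ r m - m ∈ M ⊓ CV ρ X :=
        ⟨Submodule.sub_mem _ (hinv r (hX hr) m hm) hm, sub_mem_CV ρ hr m⟩
      rw [h0, Submodule.mem_bot] at h6
      exact sub_eq_zero.mp h6
    rcases h4 with h4 | h4 <;> rcases h5 with h5 | h5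
    · -- trivial
      left
      rw [eq_bot_iff]
      intro m hm
      have h6 : ∀ g ∈ J, ρ g m = m := by
        intro g hg
        have h7 : J ≤ (MonoidHom.toHomUnits (ρ : G →* End F V)).ker.comap (MonoidHom.id G) ⊔ ⊤ := le_top.trans le_sup_right
        have h8 : g ∈ Subgroup.closure ((R : Set G) ∪ R') := by
          rw [Subgroup.closure_union, Subgroup.closure_eq, Subgroup.closure_eq]
          exact hg
        clear h7
        induction h8 using Subgroup.closure_induction with
        | mem x hx =>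
          rcases hx with hx | hx
          · exact htriv hRJ h4 x hx m hm
          · exact htriv hR'J h5 x hx m hm
        | one => exact one_ap ρ m
        | mul a b ha hb iha ihb =>
          have haJ : a ∈ J := by
            rw [hJdef, ← Subgroup.closure_eq R, ← Subgroup.closure_eq R', ← Subgroup.closure_union]
            exact ha
          have hbJ : b ∈ J := by
            rw [hJdef, ← Subgroup.closure_eq R, ← Subgroup.closure_eq R', ← Subgroup.closure_union]
            exact hb
          rw [mul_ap, ihb hbJ, iha haJ]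
        | inv a ha iha =>
          have haJ : a ∈ J := by
            rw [hJdef, ← Subgroup.closure_eq R, ← Subgroup.closure_eq R', ← Subgroup.closure_union]
            exact ha
          have := iha haJ
          conv_lhs => rw [← this, inv_ap]
      have h9 := avg_fixed ρ J hJ h6
      rw [avg_CV ρ J (hM hm)] at h9
      rw [← h9]
      exact Submodule.zero_mem _
    · -- `[V,R'] ≤ M`
      exfalso
      apply horth'
      have h6 : CV ρ R' ≤ M := inf_eq_right.mp h5
      intro u hu u' hu'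
      rw [hsym]
      exact orth_of_fix ρ f hf (U := M) (htriv hRJ h4) u' (h6 hu') u hu
    · exfalso
      apply horth'
      have h6 : CV ρ R ≤ M := inf_eq_right.mp h4
      intro u hu u' hu'
      exact orth_of_fix ρ f hf (U := M) (htriv hR'J h5) u (h6 hu) u' hu'
    · right
      apply le_antisymm hM
      rw [hWs]
      exact sup_le (inf_eq_right.mp h4) (inf_eq_right.mp h5)
  -- dimensions
  have hle : finrank F (CV ρ J) ≤ 8 := by
    rw [hWs]
    have := Submodule.finrank_add_le_finrank_add_finrank (CV ρ R) (CV ρ R')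
    rw [hR.dim, hR'.dim] at this
    exact this
  have hge : 5 ≤ finrank F (CV ρ J) := by
    by_contra hlt
    have h4 : finrank F (CV ρ J) ≤ 4 := by omega
    have h5 : CV ρ R = CV ρ J := Submodule.eq_of_le_of_finrank_le (CV_mono ρ hRJ) (by rw [hR.dim]; exact h4)
    have h6 : CV ρ R' = CV ρ J := Submodule.eq_of_le_of_finrank_le (CV_mono ρ hR'J) (by rw [hR'.dim]; exact h4)
    exact hne (h5.trans h6.symm)
  have hypo : Hyp (rW ρ J) (R.subgroupOf J) (R'.subgroupOf J) := by
    refine ⟨rW_inj ρ J hρ hJ, h2, hJ, h3, ?_, hge, hle, ?_, qr_rW ρ J hJ hRJ hR, qr_rW ρ J hJ hR'J hR', ?_, ?_⟩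
    · intro M hM
      rcases hirr (M.map (CV ρ J).subtype) (Submodule.map_subtype_le _ _) (by
        rintro g hg _ ⟨m, hm, rfl⟩
        exact ⟨_, hM ⟨g, hg⟩ m hm, rfl⟩) with h4 | h4
      · left
        rw [← Submodule.map_bot (CV ρ J).subtype] at h4
        exact Submodule.map_injective_of_injective (CV ρ J).subtype_injective h4
      · right
        have h5 : M.map (CV ρ J).subtype = (⊤ : Submodule F (CV ρ J)).map (CV ρ J).subtype := by
          rw [h4, Submodule.map_subtype_top]
        exact Submodule.map_injective_of_injective (CV ρ J).subtype_injective h5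
    · -- scalars
      rintro g ⟨c, hc⟩
      have hc' : ∀ w ∈ CV ρ J, ρ (g : G) w = c • w := fun w hw => congrArg Subtype.val (hc ⟨w, hw⟩)
      have hpair : ∃ w ∈ CV ρ J, ∃ w' ∈ CV ρ J, f w w' ≠ 0 := by
        by_contra hno
        push Not at hno
        have h4 : CV ρ J = ⊥ := by
          rw [eq_bot_iff]
          intro w hw
          rw [Submodule.mem_bot]
          apply hnd
          intro v
          have h5 : v = avg ρ J v + (v - avg ρ J v) := by abel
          rw [h5, map_add, LinearMap.add_apply, avg_adj ρ f hf, avg_CV ρ J hw, map_zero, zero_add]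
          exact hno _ (sub_avg_mem ρ J hJ v) w hw
        rw [h4, finrank_bot] at hge
        omega
      obtain ⟨w, hw, w', hw', hww⟩ := hpair
      have h4 := hf g w w'
      rw [hc' w hw, hc' w' hw', map_smul, map_smul, LinearMap.smul_apply, smul_smul, smul_eq_mul] at h4
      have h5 : c * c = 1 := by
        have : (c * c - 1) * f w w' = 0 := by rw [sub_mul, h4, one_mul, sub_self]
        exact sub_eq_zero.mp ((mul_eq_zero.mp this).resolve_right hww)
      rcases mul_self_eq_one_iff.mp h5 with rfl | rfl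
      · left
        intro v
        rw [hc, one_smul]
      · right
        intro v
        rw [hc, neg_smul, one_smul]
    · apply Subgroup.map_injective J.subtype_injective
      rw [Subgroup.map_sup, Subgroup.map_subgroupOf_eq_of_le hRJ, Subgroup.map_subgroupOf_eq_of_le hR'J,
        ← MonoidHom.range_eq_map, Subgroup.range_subtype]
    · apply Submodule.map_injective_of_injective (CV ρ J).subtype_injective
      rw [Submodule.map_sup, map_CV_rW ρ J hJ hRJ, map_CV_rW ρ J hJ hR'J, Submodule.map_subtype_top, hWs]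
  exact Cfsg.Agent.H556.SzEnd.no_hyp hypo

end Cfsg.Agent.H556.OmClaim

namespace Cfsg.Agent.H556.Om

open Module QuadraticMap Cfsg.Agent.H167.OP Cfsg.Agent.H170.HL Cfsg.Agent.H170.HL.OmRow Cfsg.Agent.H170.Fl
open Subgroup Cfsg Cfsg.Agent.H988.CPi Cfsg.Agent.H553.OddHall Cfsg.Agent.H553.ExtRed

/-- **Claim (B) for the orthogonal groups** -/
theorem claimAll : ClaimAll := by
  intro F _ _ ι _ _ Q h2 hQ R R' hR hR' h3 hJ
  have hfin : Finite (Cfsg.Omega F (⇑Q)) := inferInstance
  exact Cfsg.Agent.H556.OmClaim.claimB' (rep (inc (⇑Q))) rep_inj h2 (polarBilin Q) polar_omega polar_symm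
    (polar_nondeg Q hQ.nd) hR hR' h3 hJ

variable {π : Set ℕ} {S : Type*} [Group S] [Finite S] [IsSimpleGroup S]

/-- **row `oOdd` of S4312** -/
theorem row_oOdd' (hna : ¬ IsMulCommutative S) (h2π : 2 ∈ π) (h3π : 3 ∉ π) (hodd : OddC S)
    (hE : IsEPiGroup π S) : ∀ p : ℕ, p.Prime → p ∉ π → IsPOmegaOddChar p S → PiN π (Nat.card S) ∨ Good π S :=
  row_oOdd claimAll hna h2π h3π hodd hE

/-- **row `oPlus` of S4312** -/
theorem row_oPlus' (hna : ¬ IsMulCommutative S) (h2π : 2 ∈ π) (h3π : 3 ∉ π) (hodd : OddC S)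
    (hE : IsEPiGroup π S) : ∀ p : ℕ, p.Prime → p ∉ π → IsPOmegaPlusChar p S → PiN π (Nat.card S) ∨ Good π S :=
  row_oPlus claimAll hna h2π h3π hodd hE

/-- **row `oMinus` of S4312** -/
theorem row_oMinus' (hna : ¬ IsMulCommutative S) (h2π : 2 ∈ π) (h3π : 3 ∉ π) (hodd : OddC S)
    (hE : IsEPiGroup π S) : ∀ p : ℕ, p.Prime → p ∉ π → IsPOmegaMinusChar p S → PiN π (Nat.card S) ∨ Good π S :=
  row_oMinus claimAll hna h2π h3π hodd hE

end Cfsg.Agent.H556.Om
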