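import Cfsg.Agent.H556.FHallGen
import Cfsg.Agent.H556.OmClaim

/-!
# TEAM RV, box R3, orthogonal groups (helper556)

`S` orthogonal simple group in characteristic `p ∉ π`, `2 ∈ π`, `3 ∉ π`, with a Hall `π`-subgroup: `FHall π S`.
-/

set_option autoImplicit false
set_option linter.unusedSectionVars false

namespace Cfsg.Agent.H556.Om

open Module QuadraticMap Cfsg.Agent.H167.OP Cfsg.Agent.H170.HL Cfsg.Agent.H170.HL.OmRow Cfsg.Agent.H170.Fl
open Subgroup Cfsg Cfsg.Agent.H988.CPi Cfsg.Agent.H553.OddHall Cfsg.Agent.H553.ExtRed Cfsg.Agent.H571.RV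

section Fix

variable {F : Type} [Field F] {ι : Type} [Fintype ι] [DecidableEq ι] {Q : QuadraticForm F (ι → F)}
variable {π : Set ℕ} {H : Subgroup (Cfsg.Omega F (⇑Q))} {m : ℕ} {E : Fin m × A4 → ι → F}

/-- elements of odd order fix the blocks -/
theorem HH.fix_odd [Finite F] (h : HH Q H) (hE : Frame (polarBilin Q) E)
    (hmax : ∀ E' : Fin (m + 1) × A4 → ι → F, ¬ Frame (polarBilin Q) E') (hR : ∀ k, RG Q (Ek E k) ≤ H)
    (hH : IsPiHall π H) (h2π : 2 ∈ π) (h3π : 3 ∉ π)
    {y : Cfsg.Omega F (⇑Q)} (hy : y ∈ H) (hyo : Odd (orderOf y)) (k : Fin m) :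
    (Us E k).map (rep (inc (⇑Q)) y) = Us E k := by
  have hfin : Finite (Cfsg.Omega F (⇑Q)) := inferInstance
  obtain ⟨τ, hτ⟩ := h.exists_perm hE hmax hR hy
  have h1 := (NN Q E).pow_mem hτ (orderOf y)
  have h3 : τ ^ orderOf y = 1 := by
    ext k
    have h4 := h1 k
    have h5 : (Us E k).map (rep (inc (⇑Q)) (y ^ orderOf y)) = Us E ((τ ^ orderOf y) k) := h4
    rw [pow_orderOf_eq_one, map_one_rep] at h5
    exact congrArg Fin.val (Us_injective h.two hE h5).symm
  have h4 : orderOf τ ∣ m.factorial := by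
    have := orderOf_dvd_natCard τ
    rwa [Nat.card_eq_fintype_card, Fintype.card_perm, Fintype.card_fin] at this
  have h5 : Nat.Coprime (orderOf y) m.factorial := by
    refine Nat.Coprime.symm (Nat.coprime_of_dvd fun r hr hr1 hr2 => ?_)
    have hr2' : r ≠ 2 := by
      rintro rfl
      exact absurd hr2 (Nat.two_dvd_ne_zero.mpr (Nat.odd_iff.mp hyo))
    have hrπ : r ∈ π := by
      refine hH.1 r hr (hr2.trans ?_)
      have := orderOf_dvd_natCard (⟨y, hy⟩ : H)
      rwa [Subgroup.orderOf_mk] at this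
    have h6 := h.lt hE hmax hR hH h2π h3π hr hrπ hr2'
    exact absurd ((hr.dvd_factorial).mp hr1) (by omega)
  have h6 : τ = 1 := by
    rw [← orderOf_eq_one_iff]
    exact Nat.eq_one_of_dvd_coprimes h5 (orderOf_dvd_of_pow_eq_one h3) h4
  have h7 := hτ k
  rw [h6] at h7
  exact h7

/-- elements of odd order commute -/
theorem HH.comm_odd [Finite F] (h : HH Q H) (hH : IsPiHall π H) (h2π : 2 ∈ π) (h3π : 3 ∉ π) (hcl : OddClosed H)
    {x y : Cfsg.Omega F (⇑Q)} (hx : x ∈ H) (hy : y ∈ H) (hxo : Odd (orderOf x)) (hyo : Odd (orderOf y)) :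
    x * y = y * x := by
  have hfin : Finite (Cfsg.Omega F (⇑Q)) := inferInstance
  obtain ⟨m, E₀, hE₀, hcard, hmax⟩ := exists_max (Q := Q) h.gq.nd h.two
  obtain ⟨E, hE, hR⟩ := h.exists_family hE₀
  -- the group of elements of odd order
  let A : Subgroup (Cfsg.Omega F (⇑Q)) :=
    { carrier := {x | x ∈ H ∧ Odd (orderOf x)}
      one_mem' := ⟨H.one_mem, by rw [orderOf_one]; exact odd_one⟩
      mul_mem' := by
        rintro x y ⟨hx, hx1⟩ ⟨hy, hy1⟩
        refine ⟨H.mul_mem hx hy, ?_⟩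
        have h1 := hcl ⟨x, hx⟩ ⟨y, hy⟩ (by rwa [Subgroup.orderOf_mk]) (by rwa [Subgroup.orderOf_mk])
        rw [← Subgroup.orderOf_coe] at h1
        exact h1
      inv_mem' := by
        rintro x ⟨hx, hx1⟩
        exact ⟨H.inv_mem hx, by rwa [orderOf_inv]⟩ }
  have hAH : A ≤ H := fun x hx => hx.1
  have hfix : ∀ k, ∀ g ∈ A, (Us E k).map (rep (inc (⇑Q)) g) = Us E k := fun k g hg =>
    h.fix_odd hE hmax hR hH h2π h3π hg.1 hg.2 k
  have hU : ∀ k, ∀ g ∈ A, ∀ u ∈ Us E k, rep (inc (⇑Q)) g u ∈ Us E k := by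
    intro k g hg u hu
    rw [← hfix k g hg]
    exact ⟨u, hu, rfl⟩
  have hW : ∀ g ∈ A, ∀ u ∈ Wc Q E, rep (inc (⇑Q)) g u ∈ Wc Q E := by
    rintro g hg u hu ⟨k, a⟩
    have h1 : ∀ v ∈ Us E k, polarBilin Q v u = 0 := by
      intro v hv
      induction hv using Submodule.span_induction with
      | mem v hv =>
        obtain ⟨b, rfl⟩ := hv
        exact hu (k, b)
      | zero => rw [map_zero, LinearMap.zero_apply]
      | add v w _ _ h1 h2 => rw [map_add, LinearMap.add_apply, h1, h2, add_zero]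
      | smul c v _ h1 => rw [map_smul, LinearMap.smul_apply, h1, smul_zero]
    have h3 : E (k, a) ∈ (Us E k).map (rep (inc (⇑Q)) g) := by
      rw [hfix k g hg]
      exact mem_Us k a
    obtain ⟨v, hv, hva⟩ := h3
    rw [← hva, polar_omega]
    exact h1 v hv
  -- the orders
  have hcA : (Nat.card A : F) ≠ 0 := by
    intro h0
    obtain ⟨c, hc⟩ := Subgroup.card_dvd_of_le hAH
    exact h.card (by rw [hc, Nat.cast_mul, h0, zero_mul])
  have hpA : ∀ r : ℕ, r.Prime → r ∣ Nat.card A → 4 < r := by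
    intro r hr hd
    have hrH : r ∣ Nat.card H := hd.trans (Subgroup.card_dvd_of_le hAH)
    have hr2 : r ≠ 2 := by
      rintro rfl
      have : Fact (Nat.Prime 2) := ⟨Nat.prime_two⟩
      obtain ⟨x, hx⟩ := exists_prime_orderOf_dvd_card' (G := A) 2 hd
      have h1 := x.2.2
      rw [Subgroup.orderOf_coe, hx] at h1
      exact absurd h1 (by decide)
    have hr3 : r ≠ 3 := fun h3 => h3π (h3 ▸ hH.1 r hr hrH)
    by_contra hcon
    push Not at hcon
    have := hr.two_le
    interval_cases r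
    · exact hr2 rfl
    · exact hr3 rfl
    · exact absurd hr (by norm_num)
  -- the restriction to an invariant subspace of dimension at most four
  have key : ∀ U : Submodule F (ι → F), (∀ g ∈ A, ∀ u ∈ U, rep (inc (⇑Q)) g u ∈ U) → finrank F U ≤ 4 →
      ∀ u ∈ U, rep (inc (⇑Q)) (x * y) u = rep (inc (⇑Q)) (y * x) u := by
    intro U hU hd u hu
    let σ : Representation F A U := H575.Dim.sub (rep (inc (⇑Q))) A.subtype U fun g u hu => hU g g.2 u hu
    have h1 := Cfsg.Agent.H556.SmallAb.comm_of_small' σ hcA (fun r hr hd' => hd.trans_lt (hpA r hr hd'))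
      ⟨x, hx, hxo⟩ ⟨y, hy, hyo⟩
    exact congrArg Subtype.val (LinearMap.congr_fun h1 ⟨u, hu⟩)
  have h9 : x * y * (y * x)⁻¹ = 1 := by
    apply rep_inj (Q := Q)
    rw [map_one]
    have hinv : ∀ g (v : ι → F), rep (inc (⇑Q)) g (rep (inc (⇑Q)) g⁻¹ v) = v := by
      intro g v
      rw [← End.mul_apply, ← map_mul, mul_inv_cancel, map_one, End.one_apply]
    have hAyx : (y * x)⁻¹ ∈ A := A.inv_mem (A.mul_mem ⟨hy, hyo⟩ ⟨hx, hxo⟩)
    refine ext_frame hE h.two (fun j => ?_) fun w hw => ?_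
    · obtain ⟨k, a⟩ := j
      rw [map_mul, End.mul_apply, End.one_apply,
        key (Us E k) (hU k) (finrank_Us h.two hE k).le _ (hU k _ hAyx _ (mem_Us k a)), hinv]
    · have hdW : finrank F (Wc Q E) ≤ 4 := by
        have := finrank_Wc h.two hE
        omega
      rw [map_mul, End.mul_apply, End.one_apply, key (Wc Q E) hW hdW _ (hW _ hAyx _ hw), hinv]
  exact mul_inv_eq_one.mp h9

end Fix

variable {π : Set ℕ}

theorem two_omega {S : Type*} [Group S] [Finite S]
    (h2π : 2 ∈ π) (h3π : 3 ∉ π) {H : Subgroup S} (hH : IsPiHall π H) {F : Type} [Field F] [Finite F] {p : ℕ}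
    [CharP F p] (hp : p.Prime) (hpπ : p ∉ π) {ι : Type} [Fintype ι]
    [DecidableEq ι] {Q : QuadraticForm F (ι → F)} (hQ : GoodQ Q) {Q' : (ι → F) → F}
    (hQQ : ⇑Q = Q') (e : S ≃* Cfsg.POmega F Q') : Cfsg.Agent.H556.FH.TwoAt H := by
  subst hQQ
  have hfin : Finite (Cfsg.Omega F (⇑Q)) := inferInstance
  have h2 : (2 : F) ≠ 0 := by
    intro h
    have h1 : ((2 : ℕ) : F) = 0 := by exact_mod_cast h
    rw [CharP.cast_eq_zero_iff F p, Nat.prime_dvd_prime_iff_eq hp Nat.prime_two] at h1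
    exact hpπ (h1 ▸ h2π)
  let φ : Cfsg.Omega F (⇑Q) →* S :=
    (e.symm : Cfsg.POmega F (⇑Q) →* S).comp
      (QuotientGroup.mk' (Subgroup.center (Cfsg.Omega F (⇑Q))))
  have hφ : Function.Surjective φ :=
    e.symm.surjective.comp (QuotientGroup.mk'_surjective _)
  have hφ1 : ∀ k, φ k = 1 → k * k = 1 := by
    intro k h
    have hk : k ∈ Subgroup.center (Cfsg.Omega F (⇑Q)) := by
      rw [← QuotientGroup.eq_one_iff]
      exact e.symm.injective (h.trans (map_one e.symm).symm)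
    have h1 := (Cfsg.Agent.LieClassical.OmegaCenter.mem_center_omega_iff Q hQ.nd hQ.card hQ.sing k).mp hk
    apply inc_injective
    rw [map_mul, map_one]
    have h1' : inc (⇑Q) k = 1 ∨ inc (⇑Q) k = -1 := h1
    rcases h1' with h | h
    · rw [h, one_mul]
    · rw [h, neg_mul_neg, one_mul]
  have hH' : IsPiHall π H := hH
  -- the preimage
  have hK : IsPiHall π (H.comap φ) := by
    constructor
    · intro r hr hd
      have := Fact.mk hr
      obtain ⟨x, hx⟩ := exists_prime_orderOf_dvd_card' (G := H.comap φ) r hd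
      by_cases h1 : φ (x : Cfsg.Omega F (⇑Q)) = 1
      · have h3 : x * x = 1 := Subtype.ext (hφ1 _ h1)
        have h4 : r ∣ 2 := by
          rw [← hx]
          exact orderOf_dvd_of_pow_eq_one (by rw [pow_two]; exact h3)
        rw [(Nat.prime_dvd_prime_iff_eq hr Nat.prime_two).mp h4]
        exact h2π
      · apply hH'.1 r hr
        let z : H := ⟨φ x, x.2⟩
        have h3 : z ^ r = 1 := by
          apply Subtype.ext
          show (φ x) ^ r = 1
          rw [← map_pow]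
          have : x ^ r = 1 := by rw [← hx, pow_orderOf_eq_one]
          have h4 : (x : Cfsg.Omega F (⇑Q)) ^ r = 1 := congrArg Subtype.val this
          rw [h4, map_one]
        have h4 : orderOf z = r := orderOf_eq_prime h3 fun h => h1 (congrArg Subtype.val h)
        rw [← h4]
        exact orderOf_dvd_natCard z
    · intro r hr hrπ hd
      rw [index_comap_of_surjective H hφ] at hd
      exact hH'.2 r hr hrπ hd
  have hHH : HH Q (H.comap φ) :=
    { gq := hQ
      two := h2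
      claim := claimAll F ι Q h2 hQ
      idx := hK.2 2 Nat.prime_two h2π
      three := fun hd => h3π (hK.1 3 Nat.prime_three hd)
      card := by
        intro h0
        rw [CharP.cast_eq_zero_iff F p] at h0
        exact hpπ (hK.1 p hp h0) }
  have hcl : OddClosed (H.comap φ) := by
    refine Cfsg.Agent.H556.OmClosed.oddClosed_of_cen ?_
    intro r n hr hr2 hd g hg R hR hgR
    have hrπ : r ∈ π := hK.1 r hr hd
    have h5 : 5 ≤ r := by
      by_contra hcon
      push Not at hcon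
      have := hr.two_le
      interval_cases r
      · exact hr2 rfl
      · exact h3π hrπ
      · exact absurd hr (by norm_num)
    have h6 := hHH.cen hK h2π h3π hr h5 hrπ (y := (g : Cfsg.Omega F (⇑Q))) g.2 (n := n)
      (by exact_mod_cast congrArg Subtype.val hg) (D := R.map (H.comap φ).subtype) (map_subtype_le _) (hR.map _) (by
        rintro _ ⟨d, hd, rfl⟩
        exact ⟨g * d * g⁻¹, (mem_normalizer_iff.mp hgR d).mp hd, rfl⟩)
    rw [mem_centralizer_iff]
    intro d hd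
    exact Subtype.ext (h6 d ⟨d, hd, rfl⟩).symm
  exact Cfsg.Agent.H556.FH.two_of_surj φ hφ hφ1 hcl fun x hx y hy hxo hyo =>
    hHH.comm_odd hK h2π h3π hcl hx hy hxo hyo

theorem fhall_omega {S : Type*} [Group S] [Finite S]
    (h2π : 2 ∈ π) (h3π : 3 ∉ π) (hE : IsEPiGroup π S) {F : Type} [Field F] [Finite F] {p : ℕ}
    [CharP F p] (hp : p.Prime) (hpπ : p ∉ π) {ι : Type} [Fintype ι]
    [DecidableEq ι] {Q : QuadraticForm F (ι → F)} (hQ : GoodQ Q) {Q' : (ι → F) → F}
    (hQQ : ⇑Q = Q') (e : S ≃* Cfsg.POmega F Q') : FHall π S := by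
  obtain ⟨H, hH⟩ := hE
  exact (two_omega h2π h3π hH hp hpπ hQ hQQ e).fhall hH

variable {S : Type*} [Group S] [Finite S]

/-- **box R3, row `oOdd`** -/
theorem fhall_oOdd (h2π : 2 ∈ π) (h3π : 3 ∉ π) (hE : IsEPiGroup π S) (p : ℕ) (hp : p.Prime) (hpπ : p ∉ π)
    (hG : IsPOmegaOddChar p S) : FHall π S := by
  obtain ⟨F, _, _, hchar, m, hm, hoddF, ⟨e⟩⟩ := hG
  have h2 : (2 : F) ≠ 0 := by
    intro h
    have h1 : ((2 : ℕ) : F) = 0 := by exact_mod_cast h
    rw [CharP.cast_eq_zero_iff F p, Nat.prime_dvd_prime_iff_eq hp Nat.prime_two] at h1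
    exact hpπ (h1 ▸ h2π)
  exact fhall_omega h2π h3π hE hp hpπ (goodQ_odd (by omega) h2)
    (Cfsg.Agent.LieClassical.OrthForms.coe_oddForm m F) e

/-- **box R3, row `oPlus`** -/
theorem fhall_oPlus (h2π : 2 ∈ π) (h3π : 3 ∉ π) (hE : IsEPiGroup π S) (p : ℕ) (hp : p.Prime) (hpπ : p ∉ π)
    (hG : IsPOmegaPlusChar p S) : FHall π S := by
  obtain ⟨F, _, _, hchar, m, hm, ⟨e⟩⟩ := hG
  exact fhall_omega h2π h3π hE hp hpπ (goodQ_plus (by omega))
    (Cfsg.Agent.LieClassical.OrthForms.coe_plusForm m F) e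

/-- **box R3, row `oMinus`** -/
theorem fhall_oMinus (h2π : 2 ∈ π) (h3π : 3 ∉ π) (hE : IsEPiGroup π S) (p : ℕ) (hp : p.Prime) (hpπ : p ∉ π)
    (hG : IsPOmegaMinusChar p S) : FHall π S := by
  obtain ⟨F, _, _, hchar, m, a, b, hm, hab, ⟨e⟩⟩ := hG
  exact fhall_omega h2π h3π hE hp hpπ (goodQ_minus (by omega) a b hab)
    (Cfsg.Agent.LieClassical.OrthForms.coe_minusForm (m - 1) F a b) e

end Cfsg.Agent.H556.Om
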