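import Cfsg.Agent.H556.OmQR
import Mathlib.FieldTheory.Finite.Basic

/-!
# Maximal families of orthogonal 4-frames (helper556)
-/

set_option autoImplicit false
set_option linter.unusedSectionVars false

namespace Cfsg.Agent.H556.Om

open Module QuadraticMap Cfsg.Agent.H167.OP Cfsg.Agent.H170.HL Cfsg.Agent.H170.HL.OmRow Cfsg.Agent.H170.Fl

variable {F : Type*} [Field F] {ι : Type} [Fintype ι] [DecidableEq ι] {Q : QuadraticForm F (ι → F)}
variable {J : Type*} [Fintype J] [DecidableEq J]

theorem exists_next (hnd : (polarBilin Q).Nondegenerate) (h2 : (2 : F) ≠ 0) {x : J → ι → F}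
    (hx : ∀ j, polarBilin Q (x j) (x j) ≠ 0) (ho : ∀ i j, i ≠ j → polarBilin Q (x i) (x j) = 0)
    (hc : Fintype.card J < Fintype.card ι) :
    ∃ w, (∀ j, polarBilin Q (x j) w = 0) ∧ polarBilin Q w w ≠ 0 := by
  by_contra hcon
  push Not at hcon
  let Φ : (ι → F) →ₗ[F] (J → F) := LinearMap.pi fun j => polarBilin Q (x j)
  have h1 : LinearMap.ker Φ ≠ ⊥ := by
    apply LinearMap.ker_ne_bot_of_finrank_lt
    rw [Module.finrank_pi, Module.finrank_pi]
    exact hc
  obtain ⟨w, hw, hw0⟩ := Submodule.exists_mem_ne_zero_of_ne_bot h1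
  have hmem : ∀ v, v ∈ LinearMap.ker Φ ↔ ∀ j, polarBilin Q (x j) v = 0 := by
    intro v
    rw [LinearMap.mem_ker]
    constructor
    · intro h j
      exact congrFun h j
    · intro h
      funext j
      exact h j
  have h3 : ∀ w', (∀ j, polarBilin Q (x j) w' = 0) → polarBilin Q w w' = 0 := by
    intro w' hw'
    have hw1 := (hmem w).mp hw
    have e1 := hcon w hw1
    have e2 := hcon w' hw'
    have e3 := hcon (w + w') fun j => by rw [map_add, hw1 j, hw' j, add_zero]
    rw [map_add, map_add, LinearMap.add_apply, LinearMap.add_apply, e1, e2, polar_symm w' w] at e3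
    have e4 : (2 : F) * polarBilin Q w w' = 0 := by linear_combination e3
    exact (mul_eq_zero.mp e4).resolve_left h2
  apply hw0
  apply hnd.1
  intro v
  let c : J → F := fun j => polarBilin Q (x j) v * (polarBilin Q (x j) (x j))⁻¹
  have h4 : ∀ j, polarBilin Q (x j) (v - ∑ k, c k • x k) = 0 := by
    intro j
    rw [map_sub, map_sum, Finset.sum_eq_single j]
    · rw [map_smul, smul_eq_mul]
      simp only [c]
      rw [mul_assoc, inv_mul_cancel₀ (hx j), mul_one, sub_self]
    · intro k _ hk
      rw [map_smul, ho j k hk.symm, smul_zero]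
    · intro h
      exact absurd (Finset.mem_univ j) h
  have h5 := h3 _ h4
  rw [map_sub, map_sum, Finset.sum_eq_zero, sub_zero] at h5
  · exact h5
  · intro k _
    rw [map_smul, polar_symm, (hmem w).mp hw k, smul_zero]

theorem exists_unit [Finite F] (hnd : (polarBilin Q).Nondegenerate) (h2 : (2 : F) ≠ 0) {e : J → ι → F}
    (hF : Frame (polarBilin Q) e) (hc : Fintype.card J + 2 ≤ Fintype.card ι) :
    ∃ w, (∀ j, polarBilin Q (e j) w = 0) ∧ polarBilin Q w w = 2 := by
  classical
  have : Fintype F := Fintype.ofFinite F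
  obtain ⟨x, hx, hx0⟩ := exists_next hnd h2 (x := e) (fun j => by rw [hF.self]; exact h2) hF.orth (by omega)
  obtain ⟨y, hy, hy0⟩ := exists_next hnd h2 (x := fun o : Option J => o.elim x e) (by
    rintro (_ | j)
    · exact hx0
    · show polarBilin Q (e j) (e j) ≠ 0
      rw [hF.self]; exact h2) (by
    rintro (_ | i) (_ | j) hij
    · exact absurd rfl hij
    · show polarBilin Q x (e j) = 0
      rw [polar_symm, hx]
    · exact hx i
    · exact hF.orth i j fun h => hij (congrArg some h)) (by
    rw [Fintype.card_option]; omega)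
  have hyx : polarBilin Q x y = 0 := hy none
  have hye : ∀ j, polarBilin Q (e j) y = 0 := fun j => hy (some j)
  obtain ⟨a, b, hab⟩ := FiniteField.exists_root_sum_quadratic (R := F)
    (f := Polynomial.C (polarBilin Q x x) * Polynomial.X ^ 2 + Polynomial.C 0 * Polynomial.X + Polynomial.C (-2))
    (g := Polynomial.C (polarBilin Q y y) * Polynomial.X ^ 2 + Polynomial.C 0 * Polynomial.X + Polynomial.C 0)
    (Polynomial.degree_quadratic hx0) (Polynomial.degree_quadratic hy0) (by
      have hchar : ringChar F ≠ 2 := by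
        intro h
        apply h2
        have := ringChar.Nat.cast_ringChar (R := F)
        rw [h] at this
        exact_mod_cast this
      exact FiniteField.odd_card_of_char_ne_two hchar)
  refine ⟨a • x + b • y, fun j => ?_, ?_⟩
  · rw [map_add, map_smul, map_smul, hx, hye, smul_zero, smul_zero, add_zero]
  · have e1 : polarBilin Q (a • x + b • y) (a • x + b • y) = a * (a * polarBilin Q x x) +
        a * (b * polarBilin Q x y) + (b * (a * polarBilin Q y x) + b * (b * polarBilin Q y y)) := by
      simp only [map_add, map_smul, LinearMap.add_apply, LinearMap.smul_apply, smul_eq_mul]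
      ring
    rw [e1, polar_symm y x, hyx]
    simp only [Polynomial.eval_add, Polynomial.eval_mul, Polynomial.eval_pow, Polynomial.eval_C, Polynomial.eval_X]
      at hab
    linear_combination hab

theorem frame_sum {e : J → ι → F} (hF : Frame (polarBilin Q) e) {K : Type*} [Fintype K] [DecidableEq K]
    {x : K → ι → F} (hx : Frame (polarBilin Q) x) (ho : ∀ j k, polarBilin Q (e j) (x k) = 0) :
    Frame (polarBilin Q) (Sum.elim e x) := by
  refine ⟨?_, ?_⟩
  · rintro (i | i)
    · exact hF.self i
    · exact hx.self i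
  · rintro (i | i) (j | j) hij
    · exact hF.orth i j fun h => hij (congrArg Sum.inl h)
    · exact ho i j
    · show polarBilin Q (x i) (e j) = 0
      rw [polar_symm, ho]
    · exact hx.orth i j fun h => hij (congrArg Sum.inr h)

theorem exists_frames [Finite F] (hnd : (polarBilin Q).Nondegenerate) (h2 : (2 : F) ≠ 0) {e : J → ι → F}
    (hF : Frame (polarBilin Q) e) (m : ℕ) (hc : Fintype.card J + m + 1 ≤ Fintype.card ι) :
    ∃ x : Fin m → ι → F, Frame (polarBilin Q) x ∧ ∀ j k, polarBilin Q (e j) (x k) = 0 := by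
  induction m with
  | zero => exact ⟨fun i => i.elim0, ⟨fun i => i.elim0, fun i => i.elim0⟩, fun _ k => k.elim0⟩
  | succ m ih =>
    obtain ⟨x, hx, ho⟩ := ih (by omega)
    obtain ⟨w, hw, hw2⟩ := exists_unit hnd h2 (frame_sum hF hx ho) (by
      rw [Fintype.card_sum, Fintype.card_fin]; omega)
    refine ⟨Fin.cons w x, ⟨?_, ?_⟩, ?_⟩
    · intro i
      refine Fin.cases ?_ (fun i => ?_) i
      · rw [Fin.cons_zero, hw2]
      · rw [Fin.cons_succ, hx.self]
    · intro i j
      refine Fin.cases ?_ (fun i => ?_) i <;> refine Fin.cases ?_ (fun j => ?_) j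
      · intro h; exact absurd rfl h
      · intro _
        rw [Fin.cons_zero, Fin.cons_succ, polar_symm]
        exact hw (Sum.inr j)
      · intro _
        rw [Fin.cons_zero, Fin.cons_succ]
        exact hw (Sum.inr i)
      · intro h
        rw [Fin.cons_succ, Fin.cons_succ]
        exact hx.orth i j fun h' => h (congrArg Fin.succ h')
    · intro j k
      refine Fin.cases ?_ (fun k => ?_) k
      · rw [Fin.cons_zero]; exact hw (Sum.inl j)
      · rw [Fin.cons_succ]; exact ho j k

/-- adjoining a block -/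
theorem exists_cons {m : ℕ} {E : Fin m × A4 → ι → F} (hE : Frame (polarBilin Q) E) {x : A4 → ι → F}
    (hx : Frame (polarBilin Q) x) (ho : ∀ j k, polarBilin Q (E j) (x k) = 0) :
    ∃ E' : Fin (m + 1) × A4 → ι → F, Frame (polarBilin Q) E' := by
  refine ⟨fun j => Fin.cases (x j.2) (fun k => E (k, j.2)) j.1, ⟨?_, ?_⟩⟩
  · rintro ⟨i, a⟩
    refine Fin.cases ?_ (fun i => ?_) i
    · exact hx.self a
    · exact hE.self (i, a)
  · rintro ⟨i, a⟩ ⟨j, b⟩
    refine Fin.cases ?_ (fun i => ?_) i <;> refine Fin.cases ?_ (fun j => ?_) j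
    · intro h
      exact hx.orth a b fun h' => h (by rw [h'])
    · intro _
      show polarBilin Q (x a) (E (j, b)) = 0
      rw [polar_symm, ho]
    · intro _
      exact ho _ _
    · intro h
      exact hE.orth (i, a) (j, b) fun h' => h (by
        rw [Prod.mk.injEq] at h' ⊢
        exact ⟨congrArg Fin.succ h'.1, h'.2⟩)

theorem card_le {m : ℕ} (h2 : (2 : F) ≠ 0) {E : Fin m × A4 → ι → F} (hE : Frame (polarBilin Q) E) :
    4 * m ≤ Fintype.card ι := by
  have h1 := (hE.linearIndependent h2).fintype_card_le_finrank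
  rw [Module.finrank_pi, Fintype.card_prod, Fintype.card_fin] at h1
  have h3 : Fintype.card A4 = 4 := rfl
  rw [h3] at h1
  omega

/-- maximal families -/
theorem exists_max [Finite F] (hnd : (polarBilin Q).Nondegenerate) (h2 : (2 : F) ≠ 0) :
    ∃ (m : ℕ) (E : Fin m × A4 → ι → F), Frame (polarBilin Q) E ∧ Fintype.card ι ≤ 4 * m + 4 ∧
      ∀ E' : Fin (m + 1) × A4 → ι → F, ¬ Frame (polarBilin Q) E' := by
  classical
  have hex : ∃ m, ∀ E' : Fin (m + 1) × A4 → ι → F, ¬ Frame (polarBilin Q) E' := by
    refine ⟨Fintype.card ι, fun E' hE' => ?_⟩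
    have := card_le h2 hE'
    omega
  have hm := Nat.find_spec hex
  set m := Nat.find hex with hmdef
  have hE : ∃ E : Fin m × A4 → ι → F, Frame (polarBilin Q) E := by
    rcases Nat.eq_zero_or_pos m with h0 | h0
    · rw [h0]
      exact ⟨fun j => j.1.elim0, ⟨fun j => j.1.elim0, fun j => j.1.elim0⟩⟩
    · obtain ⟨k, hk⟩ := Nat.exists_eq_succ_of_ne_zero h0.ne'
      have h1 := Nat.find_min hex (m := k) (by omega)
      push Not at h1
      rw [hk]
      exact h1
  obtain ⟨E, hE⟩ := hE
  refine ⟨m, E, hE, ?_, hm⟩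
  by_contra hcon
  push Not at hcon
  obtain ⟨x, hx, ho⟩ := exists_frames hnd h2 hE 4 (by
    rw [Fintype.card_prod, Fintype.card_fin]
    have h3 : Fintype.card A4 = 4 := rfl
    rw [h3]
    omega)
  let ε : A4 ≃ Fin 4 := Fintype.equivFinOfCardEq rfl
  obtain ⟨E', hE'⟩ := exists_cons hE (x := x ∘ ε) (hx.comp ε.injective) fun j k => ho j (ε k)
  exact hm E' hE'

end Cfsg.Agent.H556.Om
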