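import Cfsg.Agent.H167.OP.Beta
import Cfsg.Agent.H170.HL.PZ

/-!
# `r`-elements acting on 2-groups in orthogonal groups of dimension at most four (helper556)

`partA` : let `G` be a finite group acting on a space `M` of dimension `≤ 4` and preserving a nondegenerate symmetric
form (characteristic `≠ 2`), `y ∈ G` an `r`-element, `r ≥ 5` prime, normalising a 2-subgroup `D`. Then `[y, D]` acts
trivially on `M`.
-/

set_option autoImplicit false

namespace Cfsg.Agent.H556.OmSmall

open Module Cfsg.Agent.H167.OP Cfsg.Agent.H170.HL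

variable {F : Type*} [Field F] {M : Type*} [AddCommGroup M] [Module F M] [FiniteDimensional F M]
  {G : Type*} [Group G] [Finite G] {r : ℕ} {y : G} {D : Subgroup G}

theorem sq_central (h : MinD 2 r y D) (hnab : ∃ a ∈ D, ∃ b ∈ D, a * b ≠ b * a) :
    ∀ a ∈ D, ∀ b ∈ D, a * a * b = b * (a * a) := by
  classical
  have hcl : ∀ a ∈ D, ∀ b ∈ D, ∀ x ∈ D, (a * b * a⁻¹ * b⁻¹) * x = x * (a * b * a⁻¹ * b⁻¹) :=
    fun a ha b hb x hx => h.class_two ha hb hx
  let N : Subgroup G :=
    { carrier := {d | d ∈ D ∧ ∀ b ∈ D, d * d * b = b * (d * d)}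
      one_mem' := ⟨D.one_mem, fun b _ => by simp⟩
      mul_mem' := by
        rintro d e ⟨hd, hd1⟩ ⟨he, he1⟩
        refine ⟨D.mul_mem hd he, fun b hb => ?_⟩
        have hc : ∀ x ∈ D, (e * d * e⁻¹ * d⁻¹) * x = x * (e * d * e⁻¹ * d⁻¹) := hcl e he d hd
        have h1 : d * e * (d * e) = (e * d * e⁻¹ * d⁻¹) * (d * d) * (e * e) := by
          calc d * e * (d * e) = d * (e * d * e⁻¹ * d⁻¹) * (d * e * e) := by group
            _ = (e * d * e⁻¹ * d⁻¹) * d * (d * e * e) := by rw [hc d hd]
            _ = _ := by group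
        rw [h1]
        calc (e * d * e⁻¹ * d⁻¹) * (d * d) * (e * e) * b = (e * d * e⁻¹ * d⁻¹) * (d * d) * (e * e * b) := by group
          _ = (e * d * e⁻¹ * d⁻¹) * (d * d) * (b * (e * e)) := by rw [he1 b hb]
          _ = (e * d * e⁻¹ * d⁻¹) * (d * d * b) * (e * e) := by group
          _ = (e * d * e⁻¹ * d⁻¹) * (b * (d * d)) * (e * e) := by rw [hd1 b hb]
          _ = (e * d * e⁻¹ * d⁻¹) * b * ((d * d) * (e * e)) := by group
          _ = b * (e * d * e⁻¹ * d⁻¹) * ((d * d) * (e * e)) := by rw [hc b hb]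
          _ = _ := by group
      inv_mem' := by
        rintro d ⟨hd, hd1⟩
        refine ⟨D.inv_mem hd, fun b hb => ?_⟩
        have h1 := hd1 b hb
        have h2 : d⁻¹ * d⁻¹ = (d * d)⁻¹ := by group
        rw [h2, inv_mul_eq_iff_eq_mul, ← mul_assoc, h1, mul_inv_cancel_right] }
  have hle : N ≤ D := fun x hx => hx.1
  have hn : Nrm y N := by
    rintro x ⟨hx, hx1⟩
    refine ⟨h.nrm x hx, fun b hb => ?_⟩
    have hb' := nrm_inv h.nrm hb
    have := hx1 _ hb'
    calc y * x * y⁻¹ * (y * x * y⁻¹) * b = y * (x * x * (y⁻¹ * b * y)) * y⁻¹ := by group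
      _ = y * ((y⁻¹ * b * y) * (x * x)) * y⁻¹ := by rw [this]
      _ = _ := by group
  have hnD : ∀ d ∈ D, ∀ n ∈ N, d * n * d⁻¹ ∈ N := by
    rintro d hd n ⟨hn, hn1⟩
    refine ⟨D.mul_mem (D.mul_mem hd hn) (D.inv_mem hd), fun b hb => ?_⟩
    have h1 : d * n * d⁻¹ * (d * n * d⁻¹) = n * n := by
      calc d * n * d⁻¹ * (d * n * d⁻¹) = d * (n * n) * d⁻¹ := by group
        _ = n * n * d * d⁻¹ := by rw [hn1 d hd]
        _ = n * n := by group
    rw [h1, hn1 b hb]
  by_cases hND : N = D
  · intro a ha b hb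
    rw [← hND] at ha
    exact ha.2 b hb
  exfalso
  have hcen : ∀ n ∈ N, ∀ d ∈ D, n * d = d * n := fun n hn' d hd => h.central hle hND hn hnD hn' hd
  obtain ⟨a, ha, b, hb, hab⟩ := hnab
  obtain ⟨k, hk⟩ := h.hD a ha
  have hex : ∃ j, ∀ x ∈ D, a ^ 2 ^ j * x = x * a ^ 2 ^ j := ⟨k, fun x _ => by rw [hk, one_mul, mul_one]⟩
  have h1 := Nat.find_spec hex
  rcases Nat.eq_zero_or_pos (Nat.find hex) with h0 | h0
  · rw [h0, pow_zero, pow_one] at h1
    exact hab (h1 b hb)
  · obtain ⟨j, hj⟩ := Nat.exists_eq_succ_of_ne_zero h0.ne'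
    rw [hj] at h1
    refine Nat.find_min hex (m := j) (by omega) ?_
    refine hcen _ ⟨D.pow_mem ha _, fun x hx => ?_⟩
    have h2 : a ^ 2 ^ j * a ^ 2 ^ j = a ^ 2 ^ j.succ := by
      rw [← pow_add, pow_succ 2 j]
      congr 1
      ring
    rw [h2]
    exact h1 x hx

theorem comm_sq (h : MinD 2 r y D) {a b : G} (ha : a ∈ D) (hb : b ∈ D) (hab : a * b ≠ b * a) :
    (a * b * a⁻¹ * b⁻¹) * (a * b * a⁻¹ * b⁻¹) = 1 := by
  have hs := sq_central h ⟨a, ha, b, hb, hab⟩ a ha b hb
  have hc : (a * b * a⁻¹ * b⁻¹) * a = a * (a * b * a⁻¹ * b⁻¹) := h.class_two ha hb ha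
  have h1 : (a * b * a⁻¹ * b⁻¹) * (a * b * a⁻¹ * b⁻¹) * (b * (a * a)) = a * a * b := by
    calc (a * b * a⁻¹ * b⁻¹) * (a * b * a⁻¹ * b⁻¹) * (b * (a * a)) = ((a * b * a⁻¹ * b⁻¹) * a) * b * a := by group
      _ = a * (a * b * a⁻¹ * b⁻¹) * b * a := by rw [hc]
      _ = _ := by group
  rw [hs] at h1
  exact mul_eq_right.mp h1

/-- noncommuting elements anticommute -/
theorem neg_of (ρ : Representation F G M) (hρ : Function.Injective ρ) (h2 : (2 : F) ≠ 0)
    (hdim : finrank F M ≤ 4) (h5 : 5 ≤ r) (h : MinD 2 r y D) {a b : G} (ha : a ∈ D) (hb : b ∈ D)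
    (hab : a * b ≠ b * a) :
    finrank F M = 4 ∧ r = 5 ∧ ρ (a * b * a⁻¹ * b⁻¹) = -1 := by
  have h1 : ρ (a * b * a⁻¹ * b⁻¹) ≠ 1 := by
    intro h0
    apply hab
    have h3 : a * b * a⁻¹ * b⁻¹ = 1 := hρ (by rw [h0, map_one])
    calc a * b = (a * b * a⁻¹ * b⁻¹) * (b * a) := by group
      _ = b * a := by rw [h3, one_mul]
  obtain ⟨δ, h3, h4, ⟨k, hk⟩, h6⟩ := beta_gen ρ h (by exact_mod_cast h2) ha hb h1
  have h7 : finrank F (LinearMap.range (ρ (a * b * a⁻¹ * b⁻¹) - 1)) ≤ finrank F M := Submodule.finrank_le _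
  have h8 : δ ≤ 4 := by omega
  have hd : r ∣ δ ^ 2 - 1 := (Nat.modEq_iff_dvd' (Nat.one_le_pow _ _ (by omega))).mp h6.symm
  have hδ : δ = 4 := by
    interval_cases δ
    · exfalso
      have := Nat.le_of_dvd (by norm_num) hd
      omega
    · exfalso
      rcases k with _ | _ | _ | _ | k
      · simp at hk
      · simp at hk
      · simp at hk
      · simp at hk
      · have : 2 ^ (k + 4) = 2 ^ k * 16 := by rw [pow_add]; norm_num
        have h9 : 0 < 2 ^ k := by positivity
        rw [this] at hk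
        omega
    · rfl
  subst hδ
  have h9 : finrank F M = 4 := by omega
  have h10 : LinearMap.range (ρ (a * b * a⁻¹ * b⁻¹) - 1) = ⊤ := by
    apply Submodule.eq_top_of_finrank_eq
    omega
  refine ⟨h9, ?_, ?_⟩
  · have h11 : r ∣ 5 * 3 := by simpa using hd
    rcases (Nat.Prime.dvd_mul h.ht).mp h11 with h12 | h12
    · have := Nat.le_of_dvd (by norm_num) h12
      omega
    · have := Nat.le_of_dvd (by norm_num) h12
      omega
  · apply LinearMap.ext
    intro v
    have hv : v ∈ LinearMap.range (ρ (a * b * a⁻¹ * b⁻¹) - 1) := by rw [h10]; trivial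
    obtain ⟨w, rfl⟩ := hv
    show ρ (a * b * a⁻¹ * b⁻¹) (ρ (a * b * a⁻¹ * b⁻¹) w - w) = -(ρ (a * b * a⁻¹ * b⁻¹) w - w)
    rw [map_sub, ← mul_ap, comm_sq h ha hb hab, one_ap]
    abel

/-! ### Self-adjoint and skew operators -/

/-- operators with `f (φ u) v = ε f u (φ v)` -/
def Adj (f : M →ₗ[F] M →ₗ[F] F) (ε : F) : Submodule F (Module.End F M) where
  carrier := {φ | ∀ u v, f (φ u) v = ε * f u (φ v)}
  zero_mem' := fun u v => by simp
  add_mem' := fun {φ ψ} hφ hψ u v => by
    rw [LinearMap.add_apply, LinearMap.add_apply, map_add, LinearMap.add_apply, map_add, hφ, hψ]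
    ring
  smul_mem' := fun c φ hφ u v => by
    rw [LinearMap.smul_apply, LinearMap.smul_apply, map_smul, LinearMap.smul_apply, map_smul, hφ, smul_eq_mul,
      smul_eq_mul]
    ring

theorem finrank_adj (f : M →ₗ[F] M →ₗ[F] F) (hsym : ∀ u v, f u v = f v u) (hnd : ∀ x, (∀ y, f x y = 0) → x = 0)
    (hdim : finrank F M = 4) : finrank F (Adj f 1) ≤ 10 := by
  let b : Basis (Fin 4) F M := finBasisOfFinrankEq F M hdim
  let I := {p : Fin 4 × Fin 4 // p.1 ≤ p.2}
  let Φ : Adj f 1 →ₗ[F] (I → F) :=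
    { toFun := fun φ p => f ((φ : Module.End F M) (b p.1.1)) (b p.1.2)
      map_add' := fun φ ψ => by
        funext p
        simp
      map_smul' := fun c φ => by
        funext p
        simp }
  have hinj : Function.Injective Φ := by
    rw [← LinearMap.ker_eq_bot, LinearMap.ker_eq_bot']
    rintro ⟨φ, hφ⟩ h0
    have h1 : ∀ i j : Fin 4, i ≤ j → f (φ (b i)) (b j) = 0 := fun i j hij => congrFun h0 ⟨(i, j), hij⟩
    have h2 : ∀ i j : Fin 4, f (φ (b i)) (b j) = 0 := by
      intro i j
      rcases le_total i j with h | h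
      · exact h1 i j h
      · have h3 := hφ (b i) (b j)
        rw [one_mul, hsym (b i), h1 j i h] at h3
        exact h3
    apply Subtype.ext
    show φ = 0
    apply b.ext
    intro i
    rw [LinearMap.zero_apply]
    apply hnd
    intro v
    have h3 : f (φ (b i)) = 0 := b.ext fun j => by rw [h2, LinearMap.zero_apply]
    rw [h3, LinearMap.zero_apply]
  have h1 := LinearMap.finrank_le_finrank_of_injective hinj
  rw [Module.finrank_pi] at h1
  exact h1.trans (by decide)

theorem finrank_skew (f : M →ₗ[F] M →ₗ[F] F) (hsym : ∀ u v, f u v = f v u) (hnd : ∀ x, (∀ y, f x y = 0) → x = 0)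
    (h2 : (2 : F) ≠ 0) (hdim : finrank F M = 4) : finrank F (Adj f (-1)) ≤ 6 := by
  let b : Basis (Fin 4) F M := finBasisOfFinrankEq F M hdim
  let I := {p : Fin 4 × Fin 4 // p.1 < p.2}
  let Φ : Adj f (-1) →ₗ[F] (I → F) :=
    { toFun := fun φ p => f ((φ : Module.End F M) (b p.1.1)) (b p.1.2)
      map_add' := fun φ ψ => by
        funext p
        simp
      map_smul' := fun c φ => by
        funext p
        simp }
  have hinj : Function.Injective Φ := by
    rw [← LinearMap.ker_eq_bot, LinearMap.ker_eq_bot']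
    rintro ⟨φ, hφ⟩ h0
    have h1 : ∀ i j : Fin 4, i < j → f (φ (b i)) (b j) = 0 := fun i j hij => congrFun h0 ⟨(i, j), hij⟩
    have h2 : ∀ i j : Fin 4, f (φ (b i)) (b j) = 0 := by
      intro i j
      rcases lt_trichotomy i j with h | h | h
      · exact h1 i j h
      · subst h
        have h3 := hφ (b i) (b i)
        rw [hsym (b i) (φ (b i))] at h3
        have h4 : (2 : F) * f (φ (b i)) (b i) = 0 := by linear_combination h3
        exact (mul_eq_zero.mp h4).resolve_left h2
      · have h3 := hφ (b i) (b j)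
        rw [hsym (b i), h1 j i h, mul_zero] at h3
        exact h3
    apply Subtype.ext
    show φ = 0
    apply b.ext
    intro i
    rw [LinearMap.zero_apply]
    apply hnd
    intro v
    have h3 : f (φ (b i)) = 0 := b.ext fun j => by rw [h2, LinearMap.zero_apply]
    rw [h3, LinearMap.zero_apply]
  have h1 := LinearMap.finrank_le_finrank_of_injective hinj
  rw [Module.finrank_pi] at h1
  exact h1.trans (by decide)

theorem trace_zero (ρ : Representation F G M) (hρ : Function.Injective ρ) (h2 : (2 : F) ≠ 0)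
    (hdim : finrank F M ≤ 4) (h5 : 5 ≤ r) (h : MinD 2 r y D) {a b : G} (ha : a ∈ D) (hb : b ∈ D)
    (hab : a * b ≠ b * a) : LinearMap.trace F M (ρ a) = 0 := by
  obtain ⟨-, -, h1⟩ := neg_of ρ hρ h2 hdim h5 h hb ha hab.symm
  have h3 : ρ b * ρ a * ρ b⁻¹ = -ρ a := by
    have h4 : b * a * b⁻¹ = (b * a * b⁻¹ * a⁻¹) * a := by group
    rw [← map_mul, ← map_mul, h4, map_mul, h1, neg_mul, one_mul]
  have h5 := congrArg (LinearMap.trace F M) h3
  rw [map_neg, LinearMap.trace_mul_comm, ← mul_assoc, ← map_mul, inv_mul_cancel, map_one, one_mul] at h5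
  have h6 : (2 : F) * LinearMap.trace F M (ρ a) = 0 := by linear_combination h5
  exact (mul_eq_zero.mp h6).resolve_left h2

/-- **no nonabelian minimal groups** -/
theorem abelian_of (ρ : Representation F G M) (hρ : Function.Injective ρ) (h2 : (2 : F) ≠ 0)
    (f : M →ₗ[F] M →ₗ[F] F) (hsym : ∀ u v, f u v = f v u) (hnd : ∀ x, (∀ y, f x y = 0) → x = 0)
    (hinv : ∀ g u v, f (ρ g u) (ρ g v) = f u v)
    (hdim : finrank F M ≤ 4) (h5 : 5 ≤ r) (h : MinD 2 r y D) : ∀ a ∈ D, ∀ b ∈ D, a * b = b * a := by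
  classical
  by_contra hcon
  push Not at hcon
  obtain ⟨a0, ha0, b0, hb0, hab0⟩ := hcon
  have hnab : ∃ a ∈ D, ∃ b ∈ D, a * b ≠ b * a := ⟨a0, ha0, b0, hb0, hab0⟩
  obtain ⟨hd4, hr, hneg0⟩ := neg_of ρ hρ h2 hdim h5 h ha0 hb0 hab0
  subst hr
  have h4 : (4 : F) ≠ 0 := by
    have : (4 : F) = 2 * 2 := by norm_num
    rw [this]
    exact mul_ne_zero h2 h2
  -- the centre
  let Z : Subgroup G := D ⊓ Subgroup.centralizer (D : Set G)
  have hZ : ∀ z, z ∈ Z ↔ z ∈ D ∧ ∀ d ∈ D, z * d = d * z := by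
    intro z
    rw [Subgroup.mem_inf, Subgroup.mem_centralizer_iff]
    constructor
    · rintro ⟨h1, h3⟩
      exact ⟨h1, fun d hd => (h3 d hd).symm⟩
    · rintro ⟨h1, h3⟩
      exact ⟨h1, fun d hd => (h3 d hd).symm⟩
  have hZn : Nrm y Z := by
    intro z hz
    have h1 := (hZ z).mp hz
    rw [h.cen_center hnab h1.1 h1.2, mul_inv_cancel_right]
    exact hz
  have hZc : ∀ a ∈ D, ∀ b ∈ D, a * b * a⁻¹ * b⁻¹ ∈ Z := by
    intro a ha b hb
    rw [hZ]
    exact ⟨D.mul_mem (D.mul_mem (D.mul_mem ha hb) (D.inv_mem ha)) (D.inv_mem hb),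
      fun d hd => h.class_two ha hb hd⟩
  have hsqZ : ∀ a ∈ D, a * a ∈ Z := by
    intro a ha
    rw [hZ]
    exact ⟨D.mul_mem ha ha, fun b hb => sq_central h hnab a ha b hb⟩
  have hnor : (Z.subgroupOf D).Normal := MinD.normal_subgroupOf Z hZc
  let T := D ⧸ Z.subgroupOf D
  have : Fintype T := Fintype.ofFinite T
  let v : T → Module.End F M := fun t => ρ ((t.out : D) : G)
  have hout : ∀ t : T, ((QuotientGroup.mk (t.out : D) : T)) = t := fun t => QuotientGroup.out_eq' t
  have hli : LinearIndependent F v := by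
    rw [Fintype.linearIndependent_iff]
    intro g hg t0
    have h1 := congrArg (fun φ => LinearMap.trace F M (ρ ((t0.out : D) : G)⁻¹ * φ)) hg
    simp only [mul_zero, map_zero, Finset.mul_sum, map_sum] at h1
    rw [Finset.sum_eq_single t0] at h1
    · simp only [v] at h1
      rw [mul_smul_comm, ← map_mul, inv_mul_cancel, map_one, map_smul, LinearMap.trace_one, hd4, smul_eq_mul] at h1
      refine (mul_eq_zero.mp h1).resolve_right ?_
      exact_mod_cast h4
    · intro t _ ht
      simp only [v]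
      rw [mul_smul_comm, ← map_mul, map_smul]
      have h3 : ((t0.out : D) : G)⁻¹ * ((t.out : D) : G) ∈ D := D.mul_mem (D.inv_mem (t0.out : D).2) (t.out : D).2
      have h6 : ((t0.out : D) : G)⁻¹ * ((t.out : D) : G) ∉ Z := by
        intro hz
        apply ht
        rw [← hout t, ← hout t0, eq_comm, QuotientGroup.eq, Subgroup.mem_subgroupOf]
        exact hz
      rw [hZ] at h6
      push Not at h6
      obtain ⟨b, hb, hne⟩ := h6 h3
      rw [trace_zero ρ hρ h2 hdim h5 h h3 hb hne, smul_zero]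
    · intro h
      exact absurd (Finset.mem_univ t0) h
  have hfr : finrank F (Module.End F M) = 16 := by
    rw [Module.finrank_linearMap, hd4]
  have hcT : Fintype.card T = 16 := by
    have h1 : Fintype.card T ≤ 16 := by
      rw [← hfr]
      exact hli.fintype_card_le_finrank
    have h3 := h.relIndex_modEq hZn hZc
    have h6 : Z.relIndex D = Fintype.card T := by
      rw [Subgroup.relIndex, Subgroup.index, Nat.card_eq_fintype_card]
    rw [h6] at h3
    have h7 : Fintype.card T ∣ Nat.card D := by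
      rw [← h6]
      exact Subgroup.relIndex_dvd_card Z D
    have : Fact (Nat.Prime 2) := ⟨Nat.prime_two⟩
    obtain ⟨n, hn⟩ := h.isPGroup.exists_card_eq
    rw [hn] at h7
    obtain ⟨k, -, hk⟩ := (Nat.dvd_prime_pow Nat.prime_two).mp h7
    have h8 : Fintype.card T ≠ 1 := by
      intro h1
      rw [← h6, Subgroup.relIndex_eq_one] at h1
      exact hab0 (((hZ a0).mp (h1 ha0)).2 b0 hb0)
    rw [hk] at h1 h3 h8 ⊢
    have hk4 : k ≤ 4 := by
      by_contra hc
      have : 2 ^ 5 ≤ 2 ^ k := Nat.pow_le_pow_right (by norm_num) (by omega)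
      omega
    interval_cases k
    · exact absurd rfl h8
    · exact absurd h3 (by decide)
    · exact absurd h3 (by decide)
    · exact absurd h3 (by decide)
    · rfl
  have hspan : Submodule.span F (Set.range v) = ⊤ :=
    hli.span_eq_top_of_card_eq_finrank' (by rw [hcT, hfr])
  -- central elements act as `±1`
  have hZpm : ∀ z ∈ Z, ρ z = 1 ∨ ρ z = -1 := by
    intro z hz
    have hz' := (hZ z).mp hz
    have hcomm : ∀ φ : Module.End F M, φ * ρ z = ρ z * φ := by
      intro φ
      have hφ : φ ∈ Submodule.span F (Set.range v) := by rw [hspan]; trivial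
      induction hφ using Submodule.span_induction with
      | mem φ hφ =>
        obtain ⟨t, rfl⟩ := hφ
        show ρ ((t.out : D) : G) * ρ z = ρ z * ρ ((t.out : D) : G)
        rw [← map_mul, ← map_mul, hz'.2 _ (t.out : D).2]
      | zero => rw [zero_mul, mul_zero]
      | add φ ψ _ _ h1 h3 => rw [add_mul, mul_add, h1, h3]
      | smul c φ _ h1 => rw [smul_mul_assoc, mul_smul_comm, h1]
    have h1 : ρ z ∈ Subalgebra.center F (Module.End F M) := by
      rw [Subalgebra.mem_center_iff]
      exact fun φ => hcomm φ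
    have h3 := Algebra.IsCentral.out h1
    rw [Algebra.mem_bot] at h3
    obtain ⟨c, hc⟩ := h3
    have hc' : ∀ u, ρ z u = c • u := by
      intro u
      rw [← hc]
      rfl
    have hnt : Nontrivial M := Module.nontrivial_of_finrank_pos (R := F) (by omega)
    obtain ⟨u, hu⟩ := exists_ne (0 : M)
    have h6 : ∃ w, f u w ≠ 0 := by
      by_contra hcon
      push Not at hcon
      exact hu (hnd u hcon)
    obtain ⟨w, hw⟩ := h6
    have h7 := hinv z u w
    rw [hc', hc', map_smul, map_smul, LinearMap.smul_apply, smul_eq_mul, smul_eq_mul, ← mul_assoc] at h7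
    have h8 : c * c = 1 := by
      apply mul_right_cancel₀ hw
      rw [h7, one_mul]
    rcases mul_self_eq_one_iff.mp h8 with h9 | h9
    · left
      apply LinearMap.ext
      intro u
      rw [hc', h9, one_smul, Module.End.one_apply]
    · right
      apply LinearMap.ext
      intro u
      rw [hc', h9, neg_smul, one_smul]
      rfl
  have hZ2 : ∀ z ∈ Z, ρ (z * z) = 1 := by
    intro z hz
    rw [map_mul]
    rcases hZpm z hz with h1 | h1
    · rw [h1, one_mul]
    · rw [h1, neg_mul_neg, one_mul]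
  -- the cosets of self-adjoint elements
  let P : T → Prop := fun t => ρ (((t.out : D) : G) * ((t.out : D) : G)) = 1
  have hPmk : ∀ d : D, P (QuotientGroup.mk d) ↔ ρ ((d : G) * d) = 1 := by
    intro d
    have h1 : (QuotientGroup.mk (((QuotientGroup.mk d : T)).out : D) : T) = QuotientGroup.mk d := hout _
    rw [QuotientGroup.eq, Subgroup.mem_subgroupOf] at h1
    set d' : D := ((QuotientGroup.mk d : T)).out
    have h3 : ((d'⁻¹ * d : D) : G) ∈ Z := h1
    have h3' := ((hZ _).mp h3).2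
    have h6 : (d : G) * d = ((d' : G) * d') * (((d'⁻¹ * d : D) : G) * ((d'⁻¹ * d : D) : G)) := by
      have h7 := h3' (d' : G) d'.2
      have h8 : (d : G) = (d' : G) * ((d'⁻¹ * d : D) : G) := by
        rw [Subgroup.coe_mul, Subgroup.coe_inv, mul_inv_cancel_left]
      calc (d : G) * d = ((d' : G) * ((d'⁻¹ * d : D) : G)) * ((d' : G) * ((d'⁻¹ * d : D) : G)) := by rw [← h8]
        _ = (d' : G) * (((d'⁻¹ * d : D) : G) * (d' : G)) * ((d'⁻¹ * d : D) : G) := by group
        _ = (d' : G) * ((d' : G) * ((d'⁻¹ * d : D) : G)) * ((d'⁻¹ * d : D) : G) := by rw [h7]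
        _ = _ := by group
    show ρ ((d' : G) * d') = 1 ↔ _
    rw [h6, map_mul ρ (((d' : G) * d')), hZ2 _ h3, mul_one]
  -- the bounds
  have hP10 : Fintype.card {t // P t} ≤ 10 := by
    have h1 : ∀ t : {t // P t}, v t.1 ∈ Adj f 1 := by
      rintro ⟨t, ht⟩ a b
      rw [one_mul]
      have h3 : ρ ((t.out : D) : G) * ρ ((t.out : D) : G) = 1 := by rw [← map_mul]; exact ht
      have h6 : ρ ((t.out : D) : G) (ρ ((t.out : D) : G) b) = b := by
        have := LinearMap.congr_fun h3 b
        exact this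
      show f (ρ ((t.out : D) : G) a) b = f a (ρ ((t.out : D) : G) b)
      conv_lhs => rw [← h6, hinv]
    have h3 : LinearIndependent F (fun t : {t // P t} => (⟨v t.1, h1 t⟩ : Adj f 1)) := by
      apply LinearIndependent.of_comp (Adj f 1).subtype
      exact hli.comp _ Subtype.val_injective
    exact h3.fintype_card_le_finrank.trans (finrank_adj f hsym hnd hd4)
  have hP6 : Fintype.card {t // ¬ P t} ≤ 6 := by
    have h1 : ∀ t : {t // ¬ P t}, v t.1 ∈ Adj f (-1) := by
      rintro ⟨t, ht⟩ a b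
      have h3 : ρ ((t.out : D) : G) * ρ ((t.out : D) : G) = -1 := by
        rw [← map_mul]
        exact (hZpm _ (hsqZ _ (t.out : D).2)).resolve_left ht
      have h6 : ρ ((t.out : D) : G) (ρ ((t.out : D) : G) b) = -b := by
        have := LinearMap.congr_fun h3 b
        exact this
      show f (ρ ((t.out : D) : G) a) b = -1 * f a (ρ ((t.out : D) : G) b)
      have h7 : b = -(ρ ((t.out : D) : G) (ρ ((t.out : D) : G) b)) := by rw [h6, neg_neg]
      conv_lhs => rw [h7, map_neg, hinv]
      ring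
    have h3 : LinearIndependent F (fun t : {t // ¬ P t} => (⟨v t.1, h1 t⟩ : Adj f (-1))) := by
      apply LinearIndependent.of_comp (Adj f (-1)).subtype
      exact hli.comp _ Subtype.val_injective
    exact h3.fintype_card_le_finrank.trans (finrank_skew f hsym hnd h2 hd4)
  have hsum : Fintype.card {t // P t} + Fintype.card {t // ¬ P t} = 16 := by
    rw [← hcT, ← Fintype.card_congr (Equiv.sumCompl P), Fintype.card_sum]
  have hP : Fintype.card {t // P t} = 10 := by omega
  -- the action of `y`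
  have hker : Z.subgroupOf D ≤ (Z.subgroupOf D).comap h.al := by
    intro x hx
    rw [Subgroup.mem_comap, Subgroup.mem_subgroupOf]
    rw [Subgroup.mem_subgroupOf] at hx
    exact hZn _ hx
  let γ : T →* T := QuotientGroup.map _ _ h.al hker
  have hγP : ∀ t, P t → P (γ t) := by
    intro t
    induction t using QuotientGroup.induction_on with
    | H d =>
      intro ht
      have h1 : γ (QuotientGroup.mk d) = QuotientGroup.mk (h.al d) := rfl
      rw [h1, hPmk]
      rw [hPmk] at ht
      have h3 : ((h.al d : D) : G) * ((h.al d : D) : G) = y * ((d : G) * d) * y⁻¹ := by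
        rw [MinD.coe_al]
        group
      rw [h3, map_mul, map_mul, ht, mul_one, ← map_mul, mul_inv_cancel, map_one]
  let g : Function.End {t // P t} := fun t => ⟨γ t.1, hγP _ t.2⟩
  have hit : ∀ (n : ℕ) (t : {t // P t}), ((g^[n] t : {t // P t}) : T) = (fun x => γ x)^[n] t.1 := by
    intro n t
    induction n with
    | zero => rfl
    | succ n ih =>
      rw [Function.iterate_succ_apply', Function.iterate_succ_apply', ← ih]
  have hit2 : ∀ (n : ℕ) (d : D), ((fun x => γ x)^[n] (QuotientGroup.mk d) : T) =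
      QuotientGroup.mk ((fun x => h.al x)^[n] d) := by
    intro n d
    induction n with
    | zero => rfl
    | succ n ih =>
      rw [Function.iterate_succ_apply', Function.iterate_succ_apply', ih]
      rfl
  obtain ⟨k, hk⟩ := h.hy
  have hg : g ^ 5 ^ k = 1 := by
    have h1 : ∀ n : ℕ, (g ^ n : Function.End {t // P t}) = g^[n] := by
      intro n
      induction n with
      | zero => rfl
      | succ n ih => rw [pow_succ, ih]; rfl
    refine (h1 (5 ^ k)).trans ?_
    funext t
    apply Subtype.ext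
    rw [hit]
    show _ = t.1
    obtain ⟨t, ht⟩ := t
    induction t using QuotientGroup.induction_on with
    | H d =>
      show ((fun x => γ x)^[5 ^ k] (QuotientGroup.mk d) : T) = QuotientGroup.mk d
      rw [hit2]
      congr 1
      apply Subtype.ext
      rw [MinD.coe_al_iterate, hk]
      simp
  have h5p : Fact (Nat.Prime 5) := ⟨by norm_num⟩
  have hmod := Equiv.Perm.card_fixedPoints_modEq (p := 5) hg
  have hfix : Fintype.card (Function.fixedPoints g) = 1 := by
    rw [Fintype.card_eq_one_iff]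
    have hP1 : P 1 := by
      have h1 := (hPmk 1).mpr (by simp)
      exact h1
    refine ⟨⟨⟨1, hP1⟩, ?_⟩, ?_⟩
    · show g ⟨1, hP1⟩ = ⟨1, hP1⟩
      exact Subtype.ext (map_one γ)
    · rintro ⟨⟨q, hqP⟩, hq⟩
      apply Subtype.ext
      apply Subtype.ext
      show q = 1
      rw [Function.mem_fixedPoints] at hq
      have hq' : γ q = q := congrArg Subtype.val hq
      clear hq
      induction q using QuotientGroup.induction_on with
      | H d =>
        have h3 : (QuotientGroup.mk (h.al d) : T) = QuotientGroup.mk d := hq'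
        rw [eq_comm, QuotientGroup.eq, Subgroup.mem_subgroupOf] at h3
        rw [QuotientGroup.eq_one_iff, Subgroup.mem_subgroupOf]
        refine h.mem_of_comm_mem hZn hZc d.2 ?_
        have h4 : (d : G) * (((d⁻¹ * h.al d : D) : G)) * (d : G)⁻¹ ∈ Z := by
          have := hnor.conj_mem (d⁻¹ * h.al d) (by rw [Subgroup.mem_subgroupOf]; exact h3) d
          rw [Subgroup.mem_subgroupOf] at this
          exact this
        have h5 : y * d * y⁻¹ * (d : G)⁻¹ = (d : G) * (((d⁻¹ * h.al d : D) : G)) * (d : G)⁻¹ := by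
          rw [Subgroup.coe_mul, Subgroup.coe_inv, MinD.coe_al]
          group
        rw [h5]
        exact h4
  rw [hfix, hP] at hmod
  exact absurd hmod (by decide)

/-- the faithful case -/
theorem no_minD (ρ : Representation F G M) (hρ : Function.Injective ρ) (h2 : (2 : F) ≠ 0)
    (f : M →ₗ[F] M →ₗ[F] F) (hsym : ∀ u v, f u v = f v u) (hnd : ∀ x, (∀ y, f x y = 0) → x = 0)
    (hinv : ∀ g u v, f (ρ g u) (ρ g v) = f u v)
    (hdim : finrank F M ≤ 4) (h5 : 5 ≤ r) (h : MinD 2 r y D) : False := by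
  have hab := abelian_of ρ hρ h2 f hsym hnd hinv hdim h5 h
  obtain ⟨a, ha, hya⟩ := h.exists_ncomm
  have h1 : ρ a ≠ 1 := by
    intro h0
    have : a = 1 := hρ (by rw [h0, map_one])
    rw [this, mul_one, one_mul] at hya
    exact hya rfl
  obtain ⟨E, -, -, hV, hle⟩ := alpha2 ρ h (by omega) (by exact_mod_cast h2) hab ⟨a, ha, h1⟩
  have h3 : 0 < finrank F (VE ρ E D) := by
    rw [Nat.pos_iff_ne_zero]
    intro h0
    exact hV (Submodule.finrank_eq_zero.mp h0)
  have h4 : finrank F (CV ρ D) ≤ finrank F M := Submodule.finrank_le _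
  nlinarith

/-- **the small case** -/
theorem partA (ρ : Representation F G M) (h2 : (2 : F) ≠ 0)
    (f : M →ₗ[F] M →ₗ[F] F) (hsym : ∀ u v, f u v = f v u) (hnd : ∀ x, (∀ y, f x y = 0) → x = 0)
    (hinv : ∀ g u v, f (ρ g u) (ρ g v) = f u v)
    (hdim : finrank F M ≤ 4) (hr : r.Prime) (h5 : 5 ≤ r) {n : ℕ} (hy : y ^ r ^ n = 1) (hD : IsPGroup 2 D)
    (hn : Nrm y D) : ∀ d ∈ D, ρ (y * d * y⁻¹ * d⁻¹) = 1 := by
  classical
  let μ : G →* (Module.End F M)ˣ := MonoidHom.toHomUnits ρ
  have hμ : ∀ g, ((μ g : (Module.End F M)ˣ) : Module.End F M) = ρ g := fun g => rfl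
  let R := μ.range
  have : Finite R := Finite.of_surjective _ μ.rangeRestrict_surjective
  let σ : Representation F R M := (Units.coeHom (Module.End F M)).comp R.subtype
  have hσ : ∀ g : G, σ (μ.rangeRestrict g) = ρ g := fun g => rfl
  have hσi : Function.Injective σ := by
    intro a b hab
    exact Subtype.ext (Units.ext hab)
  have hsurj := μ.rangeRestrict_surjective
  by_contra hcon
  push Not at hcon
  obtain ⟨d, hd, hne⟩ := hcon
  have hnR : Nrm (μ.rangeRestrict y) (D.map μ.rangeRestrict) := by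
    rintro _ ⟨e, he, rfl⟩
    refine ⟨y * e * y⁻¹, hn e he, ?_⟩
    rw [map_mul, map_mul, map_inv]
  have hc : ¬ Cen (μ.rangeRestrict y) (D.map μ.rangeRestrict) := by
    intro hcen
    apply hne
    have h1 := hcen (μ.rangeRestrict d) ⟨d, hd, rfl⟩
    rw [← hσ, map_mul μ.rangeRestrict, map_mul μ.rangeRestrict, map_mul μ.rangeRestrict, map_inv, map_inv, h1,
      mul_inv_cancel_right, mul_inv_cancel, map_one]
  have : Fact (Nat.Prime 2) := ⟨Nat.prime_two⟩
  obtain ⟨D', -, hmin⟩ := exists_minD (s := 2) (t := r) Nat.prime_two hr (by omega) (y := μ.rangeRestrict y)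
    (B := D.map μ.rangeRestrict) (by
      rintro _ ⟨e, he, rfl⟩
      obtain ⟨k, hk⟩ := hD ⟨e, he⟩
      refine ⟨k, ?_⟩
      have hk' : e ^ 2 ^ k = 1 := by simpa using congrArg Subtype.val hk
      rw [← map_pow, hk', map_one]) ⟨n, by rw [← map_pow, hy, map_one]⟩ hnR hc
  refine no_minD σ hσi h2 f hsym hnd ?_ hdim h5 hmin
  intro g u v
  obtain ⟨g, rfl⟩ := hsurj g
  rw [hσ]
  exact hinv g u v

end Cfsg.Agent.H556.OmSmall
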