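import Cfsg.Agent.H556.OmMax
import Cfsg.Agent.H556.OmSmall
import Cfsg.Agent.H553.GoodAlt

/-!
# `r`-elements of a Hall subgroup centralise the 2-subgroups they normalise (helper556)
-/

set_option autoImplicit false
set_option linter.unusedSectionVars false

namespace Cfsg.Agent.H556.Om

open Module QuadraticMap Cfsg.Agent.H167.OP Cfsg.Agent.H170.HL Cfsg.Agent.H170.HL.OmRow Cfsg.Agent.H170.Fl

variable {F : Type*} [Field F] {ι : Type} [Fintype ι] [DecidableEq ι] {Q : QuadraticForm F (ι → F)}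

/-- the hypotheses on the Hall subgroup -/
structure HH (Q : QuadraticForm F (ι → F)) (H : Subgroup (Cfsg.Omega F (⇑Q))) : Prop where
  gq : GoodQ Q
  two : (2 : F) ≠ 0
  claim : ClaimB (rep (inc (⇑Q))) (polarBilin Q)
  idx : ¬ 2 ∣ H.index
  three : ¬ 3 ∣ Nat.card H
  card : (Nat.card H : F) ≠ 0

/-- 2-subgroups are conjugate into subgroups of odd index -/
theorem exists_conj {G : Type*} [Group G] [Finite G] {H P : Subgroup G} (hi : ¬ 2 ∣ H.index) (hP : IsPGroup 2 P) :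
    ∃ g : G, ∀ x ∈ P, g * x * g⁻¹ ∈ H := by
  have : Fact (Nat.Prime 2) := ⟨Nat.prime_two⟩
  obtain ⟨P1, hP1⟩ := hP.exists_le_sylow
  obtain ⟨P2⟩ : Nonempty (Sylow 2 H) := inferInstance
  have h1 : IsPGroup 2 ((P2 : Subgroup H).map H.subtype) := P2.2.map _
  have h2 : ¬ 2 ∣ ((P2 : Subgroup H).map H.subtype).index := by
    rw [Subgroup.index_map_subtype]
    intro hd
    rcases (Nat.prime_two.dvd_mul).mp hd with hd | hd
    · exact P2.not_dvd_index hd
    · exact hi hd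
  obtain ⟨g, hg⟩ := MulAction.exists_smul_eq G P1 (h1.toSylow h2)
  refine ⟨g, fun x hx => ?_⟩
  have h3 : g * x * g⁻¹ ∈ g • P1 := by
    have := Subgroup.smul_mem_pointwise_smul x (MulAut.conj g) (P1 : Subgroup G) (hP1 hx)
    exact this
  rw [hg] at h3
  exact Subgroup.map_subtype_le _ h3

/-- the subspaces -/
def Us {K : Type*} (E : K × A4 → ι → F) (k : K) : Submodule F (ι → F) := Submodule.span F (Set.range (Ek E k))

section

variable {K : Type*} [Fintype K] [DecidableEq K] {E : K × A4 → ι → F}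

theorem mem_Us (k : K) (a : A4) : E (k, a) ∈ Us E k := Submodule.subset_span ⟨a, rfl⟩

theorem Us_orth (hE : Frame (polarBilin Q) E) {k l : K} (hkl : k ≠ l) {u v : ι → F} (hu : u ∈ Us E k) (hv : v ∈ Us E l) :
    polarBilin Q u v = 0 := by
  induction hu using Submodule.span_induction with
  | mem u hu =>
    obtain ⟨a, rfl⟩ := hu
    induction hv using Submodule.span_induction with
    | mem v hv =>
      obtain ⟨b, rfl⟩ := hv
      exact hE.orth _ _ fun h => hkl (congrArg Prod.fst h)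
    | zero => rw [map_zero]
    | add v w _ _ h1 h2 => rw [map_add, h1, h2, add_zero]
    | smul c v _ h1 => rw [map_smul, h1, smul_zero]
  | zero => rw [map_zero, LinearMap.zero_apply]
  | add v w _ _ h1 h2 => rw [map_add, LinearMap.add_apply, h1, h2, add_zero]
  | smul c v _ h1 => rw [map_smul, LinearMap.smul_apply, h1, smul_zero]

theorem Us_injective (h2 : (2 : F) ≠ 0) (hE : Frame (polarBilin Q) E) : Function.Injective (Us E) := by
  intro k l hkl
  by_contra hne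
  have h1 : E (k, 0) ∈ Us E l := by rw [← hkl]; exact mem_Us k 0
  have h3 := Us_orth hE hne (mem_Us k 0) h1
  rw [hE.self] at h3
  exact h2 h3

theorem map_rep_inj (g : Cfsg.Omega F (⇑Q)) : Function.Injective (Submodule.map (rep (inc (⇑Q)) g)) := by
  apply Submodule.map_injective_of_injective
  intro u v huv
  rw [← inv_ap (rep (inc (⇑Q))) g u, huv, inv_ap]

theorem map_mul_rep (g h : Cfsg.Omega F (⇑Q)) (U : Submodule F (ι → F)) :
    U.map (rep (inc (⇑Q)) (g * h)) = (U.map (rep (inc (⇑Q)) h)).map (rep (inc (⇑Q)) g) := by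
  rw [← Submodule.map_comp]
  congr 1
  exact map_mul (rep (inc (⇑Q))) g h

theorem map_one_rep (U : Submodule F (ι → F)) : U.map (rep (inc (⇑Q)) 1) = U := by
  rw [map_one]
  exact Submodule.map_id U

/-- pairs acting compatibly -/
def NN (Q : QuadraticForm F (ι → F)) (E : K × A4 → ι → F) : Subgroup (Cfsg.Omega F (⇑Q) × Equiv.Perm K) where
  carrier := {p | ∀ k, (Us E k).map (rep (inc (⇑Q)) p.1) = Us E (p.2 k)}
  one_mem' := fun k => map_one_rep _
  mul_mem' := by
    intro p q hp hq k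
    show (Us E k).map (rep (inc (⇑Q)) (p.1 * q.1)) = Us E (p.2 (q.2 k))
    rw [map_mul_rep, hq, hp]
  inv_mem' := by
    intro p hp k
    show (Us E k).map (rep (inc (⇑Q)) p.1⁻¹) = Us E (p.2⁻¹ k)
    apply map_rep_inj p.1
    rw [← map_mul_rep, mul_inv_cancel, map_one_rep, hp]
    exact congrArg (Us E) (p.2.apply_symm_apply k).symm

theorem mem_NN {p : Cfsg.Omega F (⇑Q) × Equiv.Perm K} :
    p ∈ NN Q E ↔ ∀ k, (Us E k).map (rep (inc (⇑Q)) p.1) = Us E (p.2 k) := Iff.rfl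

/-- every permutation of the blocks is induced -/
theorem exists_NN (hQ : GoodQ Q) (h2 : (2 : F) ≠ 0) (hE : Frame (polarBilin Q) E) (τ : Equiv.Perm K) :
    ∃ g, (g, τ) ∈ NN Q E := by
  have hs : Equiv.Perm.sign (Equiv.prodCongrLeft (fun _ : A4 => τ)) = 1 := by
    rw [Equiv.Perm.sign_prodCongrLeft, Finset.prod_const]
    have : (Finset.univ : Finset A4).card = 2 * 2 := rfl
    rw [this, pow_mul]
    rcases Int.units_eq_one_or (Equiv.Perm.sign τ) with h | h <;> rw [h] <;> decide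
  obtain ⟨g, hg⟩ := exists_perm hQ h2 hE hs
  refine ⟨g, fun k => ?_⟩
  show (Us E k).map (rep (inc (⇑Q)) g) = Us E (τ k)
  rw [Us, Submodule.map_span, Us]
  congr 1
  rw [← Set.range_comp]
  congr 1
  funext a
  show rep (inc (⇑Q)) g (E (k, a)) = E (τ k, a)
  rw [hg, mono_e hE h2, one_smul]
  rfl

end

namespace HH

variable {H : Subgroup (Cfsg.Omega F (⇑Q))} {m : ℕ} {E : Fin m × A4 → ι → F}

/-- conjugating a family into `H` -/
theorem exists_family [Finite F] (h : HH Q H) (hE : Frame (polarBilin Q) E) :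
    ∃ E' : Fin m × A4 → ι → F, Frame (polarBilin Q) E' ∧ ∀ k, RG Q (Ek E' k) ≤ H := by
  have : Finite (Cfsg.Omega F (⇑Q)) := inferInstance
  obtain ⟨g, hg⟩ := exists_conj h.idx (BG_isPGroup h.two hE)
  refine ⟨fun j => rep (inc (⇑Q)) g (E j), hE.map (polar_omega g), fun k => ?_⟩
  exact RG_conj g (Ek E k) fun x hx => hg x (RG_le_BG h.two hE k hx)

/-- `H` permutes the subspaces -/
theorem exists_image [Finite F] (h : HH Q H) (hE : Frame (polarBilin Q) E)
    (hmax : ∀ E' : Fin (m + 1) × A4 → ι → F, ¬ Frame (polarBilin Q) E') (hR : ∀ k, RG Q (Ek E k) ≤ H)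
    {g : Cfsg.Omega F (⇑Q)} (hg : g ∈ H) (k : Fin m) :
    ∃ l, (Us E k).map (rep (inc (⇑Q)) g) = Us E l := by
  have hfin : Finite (Cfsg.Omega F (⇑Q)) := inferInstance
  by_contra hcon
  push Not at hcon
  set e' : A4 → ι → F := fun a => rep (inc (⇑Q)) g (Ek E k a) with he'
  have hF' : Frame (polarBilin Q) e' := (Ek_frame hE k).map (polar_omega g)
  have hR' : RG Q e' ≤ H := RG_conj g (Ek E k) fun x hx => H.mul_mem (H.mul_mem hg (hR k hx)) (H.inv_mem hg)
  have hCV' : CV (rep (inc (⇑Q))) (RG Q e') = (Us E k).map (rep (inc (⇑Q)) g) := by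
    rw [CV_RG h.gq h.two hF', Us, Submodule.map_span, ← Set.range_comp]
    rfl
  have hCV : ∀ l, CV (rep (inc (⇑Q))) (RG Q (Ek E l)) = Us E l := fun l => CV_RG h.gq h.two (Ek_frame hE l)
  obtain ⟨E', hE'⟩ := exists_cons hE hF' (fun j a => by
    obtain ⟨l, b⟩ := j
    have hle : RG Q (Ek E l) ⊔ RG Q e' ≤ H := sup_le (hR l) hR'
    have hdvd := Subgroup.card_dvd_of_le hle
    rcases h.claim _ _ (qr h.gq h.two (Ek_frame hE l)) (qr h.gq h.two hF') (fun hd => h.three (hd.trans hdvd))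
      (fun h0 => h.card (by
        obtain ⟨c, hc⟩ := hdvd
        rw [hc, Nat.cast_mul, h0, zero_mul])) with h1 | h1
    · exfalso
      rw [hCV, hCV'] at h1
      exact hcon l h1.symm
    · rw [hCV, CV_RG h.gq h.two hF'] at h1
      exact h1 _ (mem_Us l b) _ (Submodule.subset_span ⟨a, rfl⟩))
  exact hmax E' hE'

theorem exists_perm [Finite F] (h : HH Q H) (hE : Frame (polarBilin Q) E)
    (hmax : ∀ E' : Fin (m + 1) × A4 → ι → F, ¬ Frame (polarBilin Q) E') (hR : ∀ k, RG Q (Ek E k) ≤ H)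
    {g : Cfsg.Omega F (⇑Q)} (hg : g ∈ H) : ∃ τ : Equiv.Perm (Fin m), (g, τ) ∈ NN Q E := by
  choose τ hτ using fun k => h.exists_image hE hmax hR hg k
  have hinj : Function.Injective τ := by
    intro k l hkl
    apply Us_injective h.two hE
    apply map_rep_inj g
    rw [hτ, hτ, hkl]
  exact ⟨Equiv.ofBijective τ (Finite.injective_iff_bijective.mp hinj), hτ⟩

end HH

section Hall

open Subgroup Cfsg Cfsg.Agent.H988.CPi Cfsg.Agent.H553.OddHall Cfsg.Agent.H553.ExtRed

variable {π : Set ℕ} {H : Subgroup (Cfsg.Omega F (⇑Q))} {m : ℕ} {E : Fin m × A4 → ι → F}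

/-- the symmetric group has a Hall subgroup -/
theorem HH.isEPi [Finite F] (h : HH Q H) (hE : Frame (polarBilin Q) E)
    (hmax : ∀ E' : Fin (m + 1) × A4 → ι → F, ¬ Frame (polarBilin Q) E') (hR : ∀ k, RG Q (Ek E k) ≤ H)
    (hH : IsPiHall π H) : IsEPiGroup π (Equiv.Perm (Fin m)) := by
  have hfin : Finite (Cfsg.Omega F (⇑Q)) := inferInstance
  let π1 : NN Q E →* Cfsg.Omega F (⇑Q) := (MonoidHom.fst _ _).comp (NN Q E).subtype
  let π2 : NN Q E →* Equiv.Perm (Fin m) := (MonoidHom.snd _ _).comp (NN Q E).subtype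
  have h1 : Function.Injective π1 := by
    rw [injective_iff_map_eq_one]
    rintro ⟨⟨g, τ⟩, hp⟩ hg
    have hg' : g = 1 := hg
    subst hg'
    have : τ = 1 := by
      ext k
      have h3 := hp k
      rw [map_one_rep] at h3
      exact congrArg Fin.val (Us_injective h.two hE h3).symm
    subst this
    rfl
  have h2 : Function.Surjective π2 := by
    intro τ
    obtain ⟨g, hg⟩ := exists_NN h.gq h.two hE τ
    exact ⟨⟨(g, τ), hg⟩, rfl⟩
  have hle : H ≤ π1.range := by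
    intro g hg
    obtain ⟨τ, hτ⟩ := h.exists_perm hE hmax hR hg
    exact ⟨⟨(g, τ), hτ⟩, rfl⟩
  refine ⟨(H.comap π1).map π2, ?_, ?_⟩
  · intro p hp hd
    refine hH.1 p hp (hd.trans ((Subgroup.card_map_dvd _ _).trans ?_))
    have h3 : Nat.card (H.comap π1) = Nat.card ((H.comap π1).map π1) := (card_map_of_injective h1).symm
    rw [h3]
    exact card_dvd_of_le (map_comap_le _ _)
  · intro p hp hpπ hd
    refine hH.2 p hp hpπ (hd.trans (((H.comap π1).index_map_dvd h2).trans ?_))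
    rw [index_comap, ← relIndex_mul_index hle]
    exact Dvd.intro _ rfl

end Hall

section Cen

open Subgroup Cfsg Cfsg.Agent.H988.CPi Cfsg.Agent.H553.OddHall Cfsg.Agent.H553.ExtRed

variable {π : Set ℕ} {H : Subgroup (Cfsg.Omega F (⇑Q))} {m : ℕ} {E : Fin m × A4 → ι → F}

/-- primes of `π` are larger than the number of blocks -/
theorem HH.lt [Finite F] (h : HH Q H) (hE : Frame (polarBilin Q) E)
    (hmax : ∀ E' : Fin (m + 1) × A4 → ι → F, ¬ Frame (polarBilin Q) E') (hR : ∀ k, RG Q (Ek E k) ≤ H)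
    (hH : IsPiHall π H) (h2π : 2 ∈ π) (h3π : 3 ∉ π) {r : ℕ} (hr : r.Prime) (hrπ : r ∈ π) (hr2 : r ≠ 2) : m < r := by
  by_contra hcon
  push Not at hcon
  have hr3 : 3 ≤ r := by
    have := hr.two_le
    omega
  have h5 := (Cfsg.Agent.S2536.result m π ⟨2, r, Nat.prime_two, hr, fun h => hr2 h.symm, h2π, hrπ, by omega, hcon⟩
      ⟨3, Nat.prime_three, by omega, h3π⟩).mp (h.isEPi hE hmax hR hH)
  rcases h5 with ⟨hnp, h6⟩ | ⟨hn78, h6⟩
  · have h7 := h6 3 Nat.prime_three (by omega)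
    by_cases hm3 : m = 3
    · subst hm3
      have : r = 3 := by omega
      exact h3π (this ▸ hrπ)
    · exact h3π (h7.mpr (by omega))
  · have h7 := h6 3 Nat.prime_three (by omega)
    exact h3π (h7.mpr (Or.inr rfl))

/-- odd elements fix the blocks -/
theorem HH.fix [Finite F] (h : HH Q H) (hE : Frame (polarBilin Q) E)
    (hmax : ∀ E' : Fin (m + 1) × A4 → ι → F, ¬ Frame (polarBilin Q) E') (hR : ∀ k, RG Q (Ek E k) ≤ H)
    (hH : IsPiHall π H) (h2π : 2 ∈ π) (h3π : 3 ∉ π) {r n : ℕ} (hr : r.Prime) (hrπ : r ∈ π) (hr2 : r ≠ 2)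
    {y : Cfsg.Omega F (⇑Q)} (hy : y ∈ H) (hyn : y ^ r ^ n = 1) (k : Fin m) :
    (Us E k).map (rep (inc (⇑Q)) y) = Us E k := by
  obtain ⟨τ, hτ⟩ := h.exists_perm hE hmax hR hy
  have h1 := (NN Q E).pow_mem hτ (r ^ n)
  have h3 : τ ^ r ^ n = 1 := by
    ext k
    have h4 := h1 k
    have h5 : (Us E k).map (rep (inc (⇑Q)) (y ^ r ^ n)) = Us E ((τ ^ r ^ n) k) := h4
    rw [hyn, map_one_rep] at h5
    exact congrArg Fin.val (Us_injective h.two hE h5).symm
  have h4 : orderOf τ ∣ m.factorial := by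
    have := orderOf_dvd_natCard τ
    rwa [Nat.card_eq_fintype_card, Fintype.card_perm, Fintype.card_fin] at this
  have h5 : Nat.Coprime (r ^ n) m.factorial :=
    (hr.coprime_factorial_of_lt (h.lt hE hmax hR hH h2π h3π hr hrπ hr2)).pow_left n
  have h6 : τ = 1 := by
    rw [← orderOf_eq_one_iff]
    exact Nat.eq_one_of_dvd_coprimes h5 (orderOf_dvd_of_pow_eq_one h3) h4
  have h7 := hτ k
  rw [h6] at h7
  exact h7

/-- the complement of the blocks -/
def Wc {K : Type*} (Q : QuadraticForm F (ι → F)) (E : K × A4 → ι → F) : Submodule F (ι → F) where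
  carrier := {w | ∀ j, polarBilin Q (E j) w = 0}
  zero_mem' := fun j => map_zero _
  add_mem' := fun ha hb j => by rw [map_add, ha j, hb j, add_zero]
  smul_mem' := fun c _ ha j => by rw [map_smul, ha j, smul_zero]

theorem finrank_Wc (h2 : (2 : F) ≠ 0) {E : Fin m × A4 → ι → F} (hE : Frame (polarBilin Q) E) :
    4 * m + finrank F (Wc Q E) ≤ Fintype.card ι := by
  have h1 : Disjoint (Submodule.span F (Set.range E)) (Wc Q E) := by
    rw [Submodule.disjoint_def]
    intro x hx hxW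
    obtain ⟨c, hc⟩ := (Submodule.mem_span_range_iff_exists_fun F).mp hx
    rw [← hc]
    refine Finset.sum_eq_zero fun j _ => ?_
    have h3 := hxW j
    rw [← hc, map_sum, Finset.sum_eq_single j] at h3
    · rw [map_smul, hE.self, smul_eq_mul] at h3
      rw [(mul_eq_zero.mp h3).resolve_right h2, zero_smul]
    · intro k _ hk
      rw [map_smul, hE.orth j k hk.symm, smul_zero]
    · intro h
      exact absurd (Finset.mem_univ j) h
  have h3 := Submodule.finrank_add_finrank_le_of_disjoint h1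
  rw [finrank_span_eq_card (hE.linearIndependent h2), Fintype.card_prod, Fintype.card_fin, Module.finrank_pi] at h3
  have h4 : Fintype.card A4 = 4 := rfl
  rw [h4] at h3
  omega

/-- the restriction of part (A) -/
theorem partA_sub [Finite F] (h2 : (2 : F) ≠ 0) {St : Subgroup (Cfsg.Omega F (⇑Q))} {U : Submodule F (ι → F)}
    (hU : ∀ g ∈ St, ∀ u ∈ U, rep (inc (⇑Q)) g u ∈ U)
    (hnd : ∀ x ∈ U, (∀ y ∈ U, polarBilin Q x y = 0) → x = 0) (hdim : finrank F U ≤ 4) {r n : ℕ} (hr : r.Prime)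
    (h5 : 5 ≤ r) {y : Cfsg.Omega F (⇑Q)} (hy : y ∈ St) (hyn : y ^ r ^ n = 1) {D : Subgroup (Cfsg.Omega F (⇑Q))}
    (hDS : D ≤ St) (hD : IsPGroup 2 D) (hn : Nrm y D) :
    ∀ d ∈ D, ∀ u ∈ U, rep (inc (⇑Q)) (y * d * y⁻¹ * d⁻¹) u = u := by
  have hfin : Finite (Cfsg.Omega F (⇑Q)) := inferInstance
  let σ : Representation F St U := H575.Dim.sub (rep (inc (⇑Q))) St.subtype U fun g u hu => hU g g.2 u hu
  have hσ : ∀ (g : St) (u : U), ((σ g u : U) : ι → F) = rep (inc (⇑Q)) g u := fun _ _ => rfl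
  intro d hd u hu
  have h1 := Cfsg.Agent.H556.OmSmall.partA (G := St) (D := D.subgroupOf St) (y := ⟨y, hy⟩) (n := n) (r := r) σ h2
    ((polarBilin Q).domRestrict₁₂ U U) (fun u v => polar_symm _ _)
    (fun x hx => Subtype.ext (hnd x x.2 fun y hy => hx ⟨y, hy⟩))
    (fun g u v => polar_omega (g : Cfsg.Omega F (⇑Q)) u v) hdim hr h5 (Subtype.ext (by simpa using hyn))
    (hD.comap_subtype) (by
      intro e he
      rw [Subgroup.mem_subgroupOf] at he ⊢
      exact hn _ he) ⟨d, hDS hd⟩ (Subgroup.mem_subgroupOf.mpr hd)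
  have h3 := congrArg Subtype.val (LinearMap.congr_fun h1 ⟨u, hu⟩)
  exact h3

theorem Us_nondeg {K : Type*} [Fintype K] [DecidableEq K] (h2 : (2 : F) ≠ 0) {E : K × A4 → ι → F}
    (hE : Frame (polarBilin Q) E) (k : K) :
    ∀ x ∈ Us E k, (∀ y ∈ Us E k, polarBilin Q x y = 0) → x = 0 := by
  intro x hx hy
  obtain ⟨c, hc⟩ := (Submodule.mem_span_range_iff_exists_fun F).mp hx
  rw [← hc]
  refine Finset.sum_eq_zero fun j _ => ?_
  have h3 := hy _ (mem_Us k j)
  rw [polar_symm, ← hc, map_sum, Finset.sum_eq_single j] at h3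
  · rw [map_smul] at h3
    have h4 : polarBilin Q (E (k, j)) (Ek E k j) = 2 := hE.self _
    rw [h4, smul_eq_mul] at h3
    rw [(mul_eq_zero.mp h3).resolve_right h2, zero_smul]
  · intro l _ hl
    rw [map_smul]
    have h4 : polarBilin Q (E (k, j)) (Ek E k l) = 0 := hE.orth _ _ fun h => hl (congrArg Prod.snd h).symm
    rw [h4, smul_zero]
  · intro h
    exact absurd (Finset.mem_univ j) h

theorem Wc_nondeg {K : Type*} [Fintype K] [DecidableEq K] (hnd : (polarBilin Q).Nondegenerate) (h2 : (2 : F) ≠ 0)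
    {E : K × A4 → ι → F} (hE : Frame (polarBilin Q) E) :
    ∀ x ∈ Wc Q E, (∀ y ∈ Wc Q E, polarBilin Q x y = 0) → x = 0 := by
  intro x hx hy
  apply hnd.1
  intro v
  obtain ⟨c, w, hw, rfl⟩ := exists_decomp hE h2 v
  rw [map_add, hy w hw, add_zero, map_sum]
  refine Finset.sum_eq_zero fun j _ => ?_
  rw [map_smul, polar_symm, hx j, smul_zero]

theorem finrank_Us {K : Type*} [Fintype K] [DecidableEq K] (h2 : (2 : F) ≠ 0) {E : K × A4 → ι → F}
    (hE : Frame (polarBilin Q) E) (k : K) : finrank F (Us E k) = 4 := by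
  rw [Us, finrank_span_eq_card ((Ek_frame hE k).linearIndependent h2)]
  rfl

/-- **`r`-elements of `H` centralise the 2-subgroups they normalise** -/
theorem HH.cen [Finite F] (h : HH Q H) (hH : IsPiHall π H) (h2π : 2 ∈ π) (h3π : 3 ∉ π) {r n : ℕ} (hr : r.Prime)
    (h5 : 5 ≤ r) (hrπ : r ∈ π) {y : Cfsg.Omega F (⇑Q)} (hy : y ∈ H) (hyn : y ^ r ^ n = 1)
    {D : Subgroup (Cfsg.Omega F (⇑Q))} (hDH : D ≤ H) (hD : IsPGroup 2 D) (hn : Nrm y D) : Cen y D := by
  have hfin : Finite (Cfsg.Omega F (⇑Q)) := inferInstance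
  obtain ⟨m, E₀, hE₀, hcard, hmax⟩ := exists_max (Q := Q) h.gq.nd h.two
  obtain ⟨E, hE, hR⟩ := h.exists_family hE₀
  have hfix := h.fix hE hmax hR hH h2π h3π hr hrπ (by omega) hy hyn
  let St : Subgroup (Cfsg.Omega F (⇑Q)) := (NN Q E).comap (MonoidHom.inl _ _)
  have hSt : ∀ g, g ∈ St ↔ ∀ k, (Us E k).map (rep (inc (⇑Q)) g) = Us E k := fun g => Iff.rfl
  have hyS : y ∈ St := (hSt y).mpr hfix
  have hU : ∀ k, ∀ g ∈ St, ∀ u ∈ Us E k, rep (inc (⇑Q)) g u ∈ Us E k := by
    intro k g hg u hu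
    rw [← (hSt g).mp hg k]
    exact ⟨u, hu, rfl⟩
  have hW : ∀ g ∈ St, ∀ u ∈ Wc Q E, rep (inc (⇑Q)) g u ∈ Wc Q E := by
    rintro g hg u hu ⟨k, a⟩
    have h1 : ∀ v ∈ Us E k, polarBilin Q v u = 0 := by
      intro v hv
      induction hv using Submodule.span_induction with
      | mem v hv =>
        obtain ⟨b, rfl⟩ := hv
        exact hu (k, b)
      | zero => rw [map_zero, LinearMap.zero_apply]
      | add v w _ _ h1 h2 => rw [map_add, LinearMap.add_apply, h1, h2, add_zero]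
      | smul c v _ h1 => rw [map_smul, LinearMap.smul_apply, h1, smul_zero]
    have h3 : E (k, a) ∈ (Us E k).map (rep (inc (⇑Q)) g) := by
      rw [(hSt g).mp hg k]
      exact mem_Us k a
    obtain ⟨v, hv, hva⟩ := h3
    rw [← hva, polar_omega]
    exact h1 v hv
  -- the elements of `D ⊓ St`
  have key : ∀ d ∈ D ⊓ St, y * d * y⁻¹ * d⁻¹ = 1 := by
    have hn1 : Nrm y (D ⊓ St) := fun d hd => ⟨hn d hd.1, St.mul_mem (St.mul_mem hyS hd.2) (St.inv_mem hyS)⟩
    have hD1 : IsPGroup 2 (D ⊓ St : Subgroup _) := hD.to_le inf_le_left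
    intro d hd
    apply rep_inj (Q := Q)
    rw [map_one]
    refine ext_frame hE h.two (fun j => ?_) fun w hw => ?_
    · obtain ⟨k, a⟩ := j
      exact partA_sub h.two (hU k) (Us_nondeg h.two hE k) (finrank_Us h.two hE k).le hr h5 hyS hyn inf_le_right hD1
        hn1 d hd _ (mem_Us k a)
    · have hdW : finrank F (Wc Q E) ≤ 4 := by
        have := finrank_Wc h.two hE
        omega
      exact partA_sub h.two hW (Wc_nondeg h.gq.nd h.two hE) hdW hr h5 hyS hyn inf_le_right hD1 hn1 d hd w hw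
  intro d hd
  -- the commutator lies in `D ⊓ St`
  have hcD : y * d * y⁻¹ * d⁻¹ ∈ D := D.mul_mem (hn d hd) (D.inv_mem hd)
  have hcS : y * d * y⁻¹ * d⁻¹ ∈ St := by
    obtain ⟨τ, hτ⟩ := h.exists_perm hE hmax hR (hDH hd)
    have h1 : (y, (1 : Equiv.Perm (Fin m))) ∈ NN Q E := hyS
    have h3 := (NN Q E).mul_mem ((NN Q E).mul_mem ((NN Q E).mul_mem h1 hτ) ((NN Q E).inv_mem h1))
      ((NN Q E).inv_mem hτ)
    have h4 : (y, (1 : Equiv.Perm (Fin m))) * (d, τ) * (y, (1 : Equiv.Perm (Fin m)))⁻¹ * (d, τ)⁻¹ =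
        (y * d * y⁻¹ * d⁻¹, 1) := by
      simp
    rw [h4] at h3
    exact h3
  have h1 := key _ ⟨hcD, hcS⟩
  have h3 : y * (y * d * y⁻¹ * d⁻¹) = (y * d * y⁻¹ * d⁻¹) * y := by
    have h4 : y * (y * d * y⁻¹ * d⁻¹) = (y * (y * d * y⁻¹ * d⁻¹) * y⁻¹ * (y * d * y⁻¹ * d⁻¹)⁻¹) *
        ((y * d * y⁻¹ * d⁻¹) * y) := by group
    rw [h4, h1, one_mul]
  obtain ⟨k, hk⟩ := hD ⟨_, hcD⟩
  have hk' : (y * d * y⁻¹ * d⁻¹) ^ 2 ^ k = 1 := by simpa using congrArg Subtype.val hk
  have hcop : (2 ^ k).Coprime (r ^ n) :=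
    Nat.Coprime.pow _ _ ((Nat.coprime_primes Nat.prime_two hr).mpr (by omega))
  have h6 : y * d * y⁻¹ * d⁻¹ = 1 := comm_order hyn hk' hcop h3 rfl
  have h7 : y * d = (y * d * y⁻¹ * d⁻¹) * (d * y) := by group
  rw [h7, h6, one_mul]

end Cen

end Cfsg.Agent.H556.Om
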