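import Mathlib
import Cfsg.Prelude.Def_Classical

/-!
# Block embeddings `SL_e → SL_(e+k)` and `SU_e → SU_(e+k)`; elements with small commutator space
-/

set_option autoImplicit false

namespace Cfsg.Agent.H556.HallEmb

open Matrix

variable {F : Type*} [Field F]

/-- `diag(M, 1)` -/
def E (e k : ℕ) (M : Matrix (Fin e) (Fin e) F) : Matrix (Fin (e + k)) (Fin (e + k)) F :=
  Matrix.reindex finSumFinEquiv finSumFinEquiv (fromBlocks M 0 0 (1 : Matrix (Fin k) (Fin k) F))

theorem E_one (e k : ℕ) : E e k (1 : Matrix (Fin e) (Fin e) F) = 1 := by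
  rw [E, fromBlocks_one, reindex_apply, submatrix_one_equiv]

theorem E_mul (e k : ℕ) (M N : Matrix (Fin e) (Fin e) F) : E e k (M * N) = E e k M * E e k N := by
  rw [E, E, E, reindex_apply, reindex_apply, reindex_apply, submatrix_mul_equiv, fromBlocks_multiply]
  simp

theorem det_E (e k : ℕ) (M : Matrix (Fin e) (Fin e) F) : (E e k M).det = M.det := by
  rw [E, det_reindex_self, det_fromBlocks_zero₂₁, det_one, mul_one]

theorem E_inj {e k : ℕ} {M N : Matrix (Fin e) (Fin e) F} (h : E e k M = E e k N) : M = N := by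
  have h1 := (Matrix.reindex finSumFinEquiv finSumFinEquiv).injective h
  exact (fromBlocks_inj.1 h1).1

/-- coordinates of `E M v` -/
theorem E_castAdd (e k : ℕ) (M : Matrix (Fin e) (Fin e) F) (v : Fin (e + k) → F) (i : Fin e) :
    (E e k M *ᵥ v) (Fin.castAdd k i) = (M *ᵥ fun j => v (Fin.castAdd k j)) i := by
  rw [E, reindex_apply, mulVec, dotProduct, Fin.sum_univ_add]
  simp only [submatrix_apply, finSumFinEquiv_symm_apply_castAdd, finSumFinEquiv_symm_apply_natAdd,
    fromBlocks_apply₁₁, fromBlocks_apply₁₂, Matrix.zero_apply, zero_mul, Finset.sum_const_zero, add_zero]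
  rfl

theorem E_natAdd (e k : ℕ) (M : Matrix (Fin e) (Fin e) F) (v : Fin (e + k) → F) (i : Fin k) :
    (E e k M *ᵥ v) (Fin.natAdd e i) = v (Fin.natAdd e i) := by
  rw [E, reindex_apply, mulVec, dotProduct, Fin.sum_univ_add]
  simp only [submatrix_apply, finSumFinEquiv_symm_apply_castAdd, finSumFinEquiv_symm_apply_natAdd,
    fromBlocks_apply₂₁, fromBlocks_apply₂₂, Matrix.zero_apply, zero_mul, Finset.sum_const_zero, zero_add]
  simp [Matrix.one_apply]

/-- the commutator space of `diag(M, 1)` has dimension at most `e` -/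
theorem finrank_range_E_sub (e k : ℕ) (M : Matrix (Fin e) (Fin e) F) :
    Module.finrank F (LinearMap.range ((E e k M).mulVecLin - 1)) ≤ e := by
  have h : LinearMap.range ((E e k M).mulVecLin - 1) ≤
      LinearMap.ker (LinearMap.funLeft F F (Fin.natAdd e : Fin k → Fin (e + k))) := by
    rintro _ ⟨v, rfl⟩
    rw [LinearMap.mem_ker]
    funext i
    simp only [LinearMap.funLeft_apply, LinearMap.sub_apply, Matrix.mulVecLin_apply, Module.End.one_apply,
      Pi.sub_apply, E_natAdd, sub_self, Pi.zero_apply]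
  refine (Submodule.finrank_mono h).trans ?_
  have h1 := LinearMap.finrank_range_add_finrank_ker
    (LinearMap.funLeft F F (Fin.natAdd e : Fin k → Fin (e + k)))
  have h2 : LinearMap.range (LinearMap.funLeft F F (Fin.natAdd e : Fin k → Fin (e + k))) = ⊤ := by
    rw [LinearMap.range_eq_top]
    exact LinearMap.funLeft_surjective_of_injective F F _ (Fin.natAdd_injective k e)
  rw [h2, finrank_top, Module.finrank_fintype_fun_eq_card, Module.finrank_fintype_fun_eq_card,
    Fintype.card_fin, Fintype.card_fin] at h1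
  omega

/-- `SL_e → SL_(e+k)` -/
def embSL (e k : ℕ) : SpecialLinearGroup (Fin e) F →* SpecialLinearGroup (Fin (e + k)) F where
  toFun M := ⟨E e k M.1, by rw [det_E]; exact M.2⟩
  map_one' := Subtype.ext (by simpa using E_one e k)
  map_mul' M N := Subtype.ext (E_mul e k M.1 N.1)

theorem embSL_injective (e k : ℕ) : Function.Injective (embSL (F := F) e k) := by
  intro M N h
  exact Subtype.ext (E_inj (congrArg Subtype.val h))

theorem embSL_val (e k : ℕ) (M : SpecialLinearGroup (Fin e) F) : (embSL e k M).1 = E e k M.1 := rfl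

theorem embSL_mem_SU (e k q : ℕ) {M : SpecialLinearGroup (Fin e) F} (hM : M ∈ SU e F q) :
    embSL e k M ∈ SU (e + k) F q := by
  intro u v
  change hermForm (e + k) F q (E e k M.1 *ᵥ u) (E e k M.1 *ᵥ v) = hermForm (e + k) F q u v
  have h := hM (fun j => u (Fin.castAdd k j)) (fun j => v (Fin.castAdd k j))
  change hermForm e F q (M.1 *ᵥ _) (M.1 *ᵥ _) = hermForm e F q _ _ at h
  rw [hermForm, hermForm] at h ⊢
  rw [Fin.sum_univ_add, Fin.sum_univ_add]
  simp only [E_castAdd, E_natAdd]
  rw [h]

end Cfsg.Agent.H556.HallEmb
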