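import Mathlib
import Cfsg.Agent.S0265
import Cfsg.Agent.S0277
import Cfsg.Agent.S0278
import Cfsg.Agent.H556.HallEmb

/-!
# Elements of prime order `t` with small commutator space in `SL_n(q)` and `SU_n(q)`
-/

set_option autoImplicit false

namespace Cfsg.Agent.H556.HallOrd

open Matrix Cfsg.Agent.H556.HallEmb

variable {F : Type*} [Field F] [Fintype F]

/-! ### orders -/

theorem card_GL_prod (n : ℕ) : Nat.card (GL (Fin n) F) =
    ∏ i ∈ Finset.range n, (Fintype.card F ^ n - Fintype.card F ^ i) := by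
  rw [Matrix.card_GL_field, Finset.prod_range]

/-- a prime dividing `|GL_n(q)|` and not `q` divides some `q ^ j - 1` with `1 ≤ j ≤ n` -/
theorem exists_dvd_GL {n t : ℕ} (ht : t.Prime) (htq : ¬ t ∣ Fintype.card F)
    (h1 : t ∣ Nat.card (GL (Fin n) F)) :
    ∃ j, 1 ≤ j ∧ j ≤ n ∧ t ∣ Fintype.card F ^ j - 1 := by
  rw [card_GL_prod, ht.prime.dvd_finsetProd_iff] at h1
  obtain ⟨i, hi, h2⟩ := h1
  rw [Finset.mem_range] at hi
  refine ⟨n - i, by omega, Nat.sub_le _ _, ?_⟩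
  have h3 : Fintype.card F ^ n - Fintype.card F ^ i = Fintype.card F ^ i * (Fintype.card F ^ (n - i) - 1) := by
    rw [Nat.mul_sub, ← pow_add, mul_one, Nat.add_sub_cancel' hi.le]
  rw [h3, ht.dvd_mul] at h2
  rcases h2 with h2 | h2
  · exact absurd (ht.dvd_of_dvd_pow h2) htq
  · exact h2

/-- a prime dividing `|SL_n(q)|` and not `q` divides some `q ^ j - 1` with `1 ≤ j ≤ n` -/
theorem exists_dvd_SL {n t : ℕ} (hn : n ≠ 0) (ht : t.Prime) (htq : ¬ t ∣ Fintype.card F)
    (h : t ∣ Nat.card (SpecialLinearGroup (Fin n) F)) :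
    ∃ j, 1 ≤ j ∧ j ≤ n ∧ t ∣ Fintype.card F ^ j - 1 := by
  apply exists_dvd_GL ht htq
  rw [S0265.card_GL_eq_SL hn]
  exact h.mul_left _

/-- `q ^ m - 1` divides `|SL_m(q)|` for `m ≥ 2` -/
theorem dvd_card_SL {m : ℕ} (hm : 2 ≤ m) :
    Fintype.card F ^ m - 1 ∣ Nat.card (SpecialLinearGroup (Fin m) F) := by
  have hq : 1 < Fintype.card F := Fintype.one_lt_card
  have h := S0265.card_GL_eq_SL (F := F) (n := m) (by omega)
  rw [card_GL_prod] at h
  obtain ⟨k, rfl⟩ : ∃ k, m = k + 2 := ⟨m - 2, by omega⟩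
  rw [Finset.prod_range_succ, Finset.prod_range_succ', pow_zero] at h
  have h1 : Nat.card Fˣ = Fintype.card F - 1 := by
    rw [Nat.card_units, Nat.card_eq_fintype_card]
  have h2 : Fintype.card F ^ (k + 2) - Fintype.card F ^ (k + 1) = Fintype.card F ^ (k + 1) * (Fintype.card F - 1) := by
    rw [Nat.mul_sub, mul_one, ← pow_succ]
  rw [h1, h2] at h
  have h3 : (Fintype.card F - 1) * Nat.card (SpecialLinearGroup (Fin (k + 2)) F) =
      (Fintype.card F - 1) * ((∏ i ∈ Finset.range k, (Fintype.card F ^ (k + 2) - Fintype.card F ^ (i + 1))) *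
        (Fintype.card F ^ (k + 2) - 1) * Fintype.card F ^ (k + 1)) := by
    rw [← h]; ring
  have h4 := Nat.eq_of_mul_eq_mul_left (show 0 < Fintype.card F - 1 by omega) h3
  rw [h4]
  exact (Dvd.intro_left _ rfl).mul_right _

/-- a prime dividing `|GU_n(q)|` and not `q` divides some `q ^ j - (-1) ^ j` with `1 ≤ j ≤ n` -/
theorem exists_dvd_GU {n t q : ℕ} (hF : Fintype.card F = q ^ 2) (ht : t.Prime) (htq : ¬ t ∣ q)
    (h1 : t ∣ Nat.card (GU n F q)) :
    ∃ j, 1 ≤ j ∧ j ≤ n ∧ t ∣ (if Even j then q ^ j - 1 else q ^ j + 1) := by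
  rw [S0277.result hF n, ht.dvd_mul] at h1
  rcases h1 with h1 | h1
  · exact absurd (ht.dvd_of_dvd_pow h1) htq
  rw [ht.prime.dvd_finsetProd_iff] at h1
  obtain ⟨i, hi, h2⟩ := h1
  rw [Finset.mem_range] at hi
  refine ⟨i + 1, by omega, by omega, ?_⟩
  by_cases h3 : Even i
  · rw [if_pos h3] at h2
    rw [if_neg (by rw [Nat.even_add_one]; exact not_not.2 h3)]
    exact h2
  · rw [if_neg h3] at h2
    rw [if_pos (by rw [Nat.even_add_one]; exact h3)]
    exact h2

/-- a prime dividing `|SU_n(q)|` and not `q` divides some `q ^ j - (-1) ^ j` with `1 ≤ j ≤ n` -/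
theorem exists_dvd_SU {n t q : ℕ} (hF : Fintype.card F = q ^ 2) (hn : n ≠ 0) (ht : t.Prime) (htq : ¬ t ∣ q)
    (h : t ∣ Nat.card (SU n F q)) :
    ∃ j, 1 ≤ j ∧ j ≤ n ∧ t ∣ (if Even j then q ^ j - 1 else q ^ j + 1) := by
  have h1 : t ∣ (q + 1) * Nat.card (SU n F q) := h.mul_left _
  rw [S0278.result hF n (by omega), ← S0277.result hF n] at h1
  exact exists_dvd_GU hF ht htq h1

/-- `q ^ m - (-1) ^ m` divides `|SU_m(q)|` for `m ≥ 2` -/
theorem dvd_card_SU {m q : ℕ} (hF : Fintype.card F = q ^ 2) (hm : 2 ≤ m) :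
    (if Even m then q ^ m - 1 else q ^ m + 1) ∣ Nat.card (SU m F q) := by
  have h := S0278.result hF m (by omega)
  obtain ⟨k, rfl⟩ : ∃ k, m = k + 2 := ⟨m - 2, by omega⟩
  rw [Finset.prod_range_succ, Finset.prod_range_succ'] at h
  simp only [Even.zero, if_true, zero_add, pow_one] at h
  have h2 : (if Even (k + 1) then q ^ (k + 1 + 1) + 1 else q ^ (k + 1 + 1) - 1) =
      (if Even (k + 2) then q ^ (k + 2) - 1 else q ^ (k + 2) + 1) := by
    by_cases h3 : Even (k + 1)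
    · rw [if_pos h3, if_neg (by rw [show k + 2 = (k + 1) + 1 by rfl, Nat.even_add_one]; exact not_not.2 h3)]
    · rw [if_neg h3, if_pos (by rw [show k + 2 = (k + 1) + 1 by rfl, Nat.even_add_one]; exact h3)]
  rw [h2] at h
  have h4 : (q + 1) * Nat.card (SU (k + 2) F q) =
      (q + 1) * ((q ^ ((k + 2) * (k + 2 - 1) / 2) *
        ∏ i ∈ Finset.range k, (if Even (i + 1) then q ^ (i + 1 + 1) + 1 else q ^ (i + 1 + 1) - 1)) *
        (if Even (k + 2) then q ^ (k + 2) - 1 else q ^ (k + 2) + 1)) := by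
    rw [h]; ring
  have h5 := Nat.eq_of_mul_eq_mul_left (show 0 < q + 1 by omega) h4
  rw [h5]
  exact Dvd.intro_left _ rfl

/-! ### small elements -/

/-- If `t` divides `|SL_m(q)|` then `SL_n(q)`, `n ≥ m`, has an element of order `t` whose commutator space has dimension
at most `m`. -/
theorem exists_small_SL {n m t : ℕ} (ht : t.Prime) (hmn : m ≤ n)
    (h : t ∣ Nat.card (SpecialLinearGroup (Fin m) F)) :
    ∃ z : SpecialLinearGroup (Fin n) F, z ^ t = 1 ∧ z ≠ 1 ∧
      Module.finrank F (LinearMap.range (z.1.mulVecLin - 1)) ≤ m := by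
  obtain ⟨k, rfl⟩ := Nat.exists_eq_add_of_le hmn
  have := Fact.mk ht
  obtain ⟨y, hy⟩ := exists_prime_orderOf_dvd_card' t h
  refine ⟨embSL m k y, ?_, ?_, ?_⟩
  · rw [← map_pow, ← hy, pow_orderOf_eq_one, map_one]
  · intro h1
    rw [← map_one (embSL m k)] at h1
    have h2 := embSL_injective m k h1
    rw [h2, orderOf_one] at hy
    exact ht.one_lt.ne hy
  · rw [embSL_val]
    exact finrank_range_E_sub m k y.1

/-- The same for `SU_n(q)`. -/
theorem exists_small_SU {n m t q : ℕ} (ht : t.Prime) (hmn : m ≤ n) (h : t ∣ Nat.card (SU m F q)) :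
    ∃ z : SU n F q, z ^ t = 1 ∧ z ≠ 1 ∧
      Module.finrank F (LinearMap.range (z.1.1.mulVecLin - 1)) ≤ m := by
  obtain ⟨k, rfl⟩ := Nat.exists_eq_add_of_le hmn
  have := Fact.mk ht
  obtain ⟨y, hy⟩ := exists_prime_orderOf_dvd_card' t h
  have hyt : y.1 ^ t = 1 := by
    have := pow_orderOf_eq_one y
    rw [hy] at this
    exact congrArg Subtype.val this
  refine ⟨⟨embSL m k y.1, embSL_mem_SU m k q y.2⟩, ?_, ?_, ?_⟩
  · apply Subtype.ext
    change embSL m k y.1 ^ t = 1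
    rw [← map_pow, hyt, map_one]
  · intro h1
    have h1' : embSL m k y.1 = 1 := congrArg Subtype.val h1
    rw [← map_one (embSL m k)] at h1'
    have h2 := embSL_injective m k h1'
    have h3 : y = 1 := Subtype.ext h2
    rw [h3, orderOf_one] at hy
    exact ht.one_lt.ne hy
  · change Module.finrank F (LinearMap.range ((embSL m k y.1).1.mulVecLin - 1)) ≤ m
    rw [embSL_val]
    exact finrank_range_E_sub m k y.1.1

/-! ### the order of `q` and `-q` modulo `t` -/

theorem dvd_iff_plus {t q j : ℕ} (hq : 1 ≤ q) : t ∣ q ^ j - 1 ↔ ((q : ZMod t)) ^ j = 1 := by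
  rw [← ZMod.natCast_eq_zero_iff, Nat.cast_sub (Nat.one_le_pow _ _ hq), Nat.cast_pow, Nat.cast_one, sub_eq_zero]

theorem dvd_iff_minus {t q j : ℕ} (hq : 1 ≤ q) :
    t ∣ (if Even j then q ^ j - 1 else q ^ j + 1) ↔ (-(q : ZMod t)) ^ j = 1 := by
  by_cases h : Even j
  · rw [if_pos h, dvd_iff_plus hq, h.neg_pow]
  · rw [if_neg h, ← ZMod.natCast_eq_zero_iff, Nat.cast_add, Nat.cast_pow, Nat.cast_one,
      (Nat.not_even_iff_odd.1 h).neg_pow, neg_eq_iff_add_eq_zero, add_comm]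

theorem order_dvd {t : ℕ} (ht : t.Prime) {c : ZMod t} (hc : c ≠ 0) : orderOf c ∣ t - 1 := by
  have := Fact.mk ht
  exact ZMod.orderOf_dvd_card_sub_one hc

theorem order_pos {t : ℕ} (ht : t.Prime) {c : ZMod t} (hc : c ≠ 0) : 0 < orderOf c := by
  have h := order_dvd ht hc
  have := ht.two_le
  exact Nat.pos_of_dvd_of_pos h (by omega)

/-- the dimension of a smallest element -/
noncomputable def mm {t : ℕ} (c : ZMod t) : ℕ := max 2 (orderOf c)

theorem mm_le {t : ℕ} (ht : t.Prime) (h2 : t ≠ 2) {c : ZMod t} (hc : c ≠ 0) : mm c ≤ t - 1 := by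
  have h1 := order_dvd ht hc
  have h3 := ht.two_le
  have h4 := Nat.le_of_dvd (by omega) h1
  rw [mm]
  omega

theorem two_mul_mm_lt {t : ℕ} (ht : t.Prime) (h5 : 5 ≤ t) {c : ZMod t} (hc : c ≠ 0) (h : orderOf c ≠ t - 1) :
    2 * mm c < t := by
  obtain ⟨k, hk⟩ := order_dvd ht hc
  have h0 := order_pos ht hc
  rw [mm]
  rcases k with - | - | k
  · omega
  · omega
  · have h1 : 2 * orderOf c ≤ t - 1 := by
      rw [hk]
      calc 2 * orderOf c = orderOf c * 2 := mul_comm _ _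
        _ ≤ orderOf c * (k + 1 + 1) := Nat.mul_le_mul_left _ (by omega)
    omega

theorem pow_mm {t : ℕ} (ht : t.Prime) {c : ZMod t} (hc : c ≠ 0) : c ^ mm c = 1 := by
  have h0 := order_pos ht hc
  rw [mm]
  by_cases h1 : orderOf c = 1
  · rw [orderOf_eq_one_iff] at h1
    rw [h1, one_pow]
  · rw [max_eq_right (by omega), pow_orderOf_eq_one]

theorem mm_le_of_pow {t n j : ℕ} {c : ZMod t} (hn : 2 ≤ n) (hj : 1 ≤ j) (hjn : j ≤ n)
    (h : c ^ j = 1) : mm c ≤ n := by
  have h1 := Nat.le_of_dvd (by omega) (orderOf_dvd_of_pow_eq_one h)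
  rw [mm]
  omega

/-- `SL_n(q)` has an element of order `t` with commutator space of dimension at most `mm q` -/
theorem small_SL {n t : ℕ} (hn : 2 ≤ n) (ht : t.Prime) (htq : ¬ t ∣ Fintype.card F)
    (h : t ∣ Nat.card (SpecialLinearGroup (Fin n) F)) :
    ∃ z : SpecialLinearGroup (Fin n) F, z ^ t = 1 ∧ z ≠ 1 ∧
      Module.finrank F (LinearMap.range (z.1.mulVecLin - 1)) ≤ mm (Fintype.card F : ZMod t) := by
  have hq : 1 ≤ Fintype.card F := Fintype.card_pos
  have hc : (Fintype.card F : ZMod t) ≠ 0 := by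
    rw [Ne, ZMod.natCast_eq_zero_iff]; exact htq
  obtain ⟨j, hj, hjn, hd⟩ := exists_dvd_SL (by omega) ht htq h
  rw [dvd_iff_plus hq] at hd
  refine exists_small_SL ht (mm_le_of_pow hn hj hjn hd) ?_
  refine dvd_trans ?_ (dvd_card_SL (le_max_left _ _))
  rw [dvd_iff_plus hq]
  exact pow_mm ht hc

/-- `SU_n(q)` has an element of order `t` with commutator space of dimension at most `mm (-q)` -/
theorem small_SU {n t q : ℕ} (hF : Fintype.card F = q ^ 2) (hn : 2 ≤ n) (ht : t.Prime) (htq : ¬ t ∣ q)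
    (h : t ∣ Nat.card (SU n F q)) :
    ∃ z : SU n F q, z ^ t = 1 ∧ z ≠ 1 ∧
      Module.finrank F (LinearMap.range (z.1.1.mulVecLin - 1)) ≤ mm (-(q : ZMod t)) := by
  have hq : 1 ≤ q := by
    rcases Nat.eq_zero_or_pos q with h0 | h0
    · rw [h0] at hF
      exact absurd hF (by rw [zero_pow two_ne_zero]; exact Fintype.card_ne_zero)
    · exact h0
  have hc : (-(q : ZMod t)) ≠ 0 := by
    rw [Ne, neg_eq_zero, ZMod.natCast_eq_zero_iff]; exact htq
  obtain ⟨j, hj, hjn, hd⟩ := exists_dvd_SU hF (by omega) ht htq h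
  rw [dvd_iff_minus hq] at hd
  refine exists_small_SU ht (mm_le_of_pow hn hj hjn hd) ?_
  refine dvd_trans ?_ (dvd_card_SU hF (le_max_left _ _))
  rw [dvd_iff_minus hq]
  exact pow_mm ht hc

end Cfsg.Agent.H556.HallOrd
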