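import Mathlib
import Cfsg.Agent.H556.HallOrd
import Cfsg.Agent.ClassicalGeometry.HermOrtho

/-!
# Lower bounds for the dimension of the commutator space of an element of prime order
-/

set_option autoImplicit false

namespace Cfsg.Agent.H556.HallLB

open Matrix Module Cfsg.Agent.H556.HallOrd
open Cfsg.Agent.LieClassical.HermBasic Cfsg.Agent.ClassicalGeometry

variable {F : Type*} [Field F]

section Lin
variable {V : Type*} [AddCommGroup V] [Module F V]

theorem pow_apply_add {A : V →ₗ[F] V} {v w : V} (hw : A w = w) (hv : A v = v + w) (i : ℕ) :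
    (A ^ i) v = v + (i : F) • w := by
  induction i with
  | zero => simp
  | succ i ih =>
    rw [pow_succ', Module.End.mul_apply, ih, map_add, map_smul, hw, hv, Nat.cast_succ, add_smul, one_smul]
    abel

theorem eq_zero_of_fixed {A : V →ₗ[F] V} {s : ℕ} (hA : A ^ s = 1) (hs : (s : F) ≠ 0) {w : V}
    (h : w ∈ LinearMap.range (A - 1)) (hw : A w = w) : w = 0 := by
  obtain ⟨v, rfl⟩ := h
  have h1 : A v = v + (A - 1) v := by
    rw [LinearMap.sub_apply, Module.End.one_apply]; abel
  have h2 := pow_apply_add hw h1 s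
  rw [hA, Module.End.one_apply, left_eq_add, smul_eq_zero] at h2
  exact h2.resolve_left hs

theorem map_range {A : V →ₗ[F] V} {w : V} (h : w ∈ LinearMap.range (A - 1)) :
    A w ∈ LinearMap.range (A - 1) := by
  obtain ⟨v, rfl⟩ := h
  refine ⟨A v, ?_⟩
  simp only [LinearMap.sub_apply, Module.End.one_apply, map_sub]

/-- the matrix of `A` on its commutator space in a basis -/
theorem exists_matrix {A : V →ₗ[F] V} {s k : ℕ} (hA : A ^ s = 1) (hs : (s : F) ≠ 0) (hA1 : A ≠ 1)
    (φ : (Fin k → F) ≃ₗ[F] LinearMap.range (A - 1)) :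
    ∃ M : Matrix (Fin k) (Fin k) F, M ^ s = 1 ∧ M ≠ 1 ∧ ∀ u, (φ (M *ᵥ u) : V) = A (φ u) := by
  let B : LinearMap.range (A - 1) →ₗ[F] LinearMap.range (A - 1) := A.restrict fun w hw => map_range hw
  let C : (Fin k → F) →ₗ[F] (Fin k → F) := φ.symm.toLinearMap ∘ₗ B ∘ₗ φ.toLinearMap
  have hC : ∀ u, (φ (C u) : V) = A (φ u) := by
    intro u
    simp only [C, LinearMap.comp_apply, LinearEquiv.coe_coe, LinearEquiv.apply_symm_apply]
    rfl
  have hCi : ∀ (i : ℕ) u, (φ ((C ^ i) u) : V) = (A ^ i) (φ u) := by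
    intro i
    induction i with
    | zero => intro u; simp
    | succ i ih =>
      intro u
      rw [pow_succ', Module.End.mul_apply, hC, ih, pow_succ', Module.End.mul_apply]
  refine ⟨LinearMap.toMatrix' C, ?_, ?_, ?_⟩
  · have h1 : C ^ s = 1 := by
      apply LinearMap.ext
      intro v
      apply φ.injective
      apply Subtype.ext
      rw [hCi s, hA]
      rfl
    have h2 : ∀ i : ℕ, LinearMap.toMatrix' C ^ i = LinearMap.toMatrix' (C ^ i) := by
      intro i
      induction i with
      | zero => rw [pow_zero, pow_zero, LinearMap.toMatrix'_one]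
      | succ i ih => rw [pow_succ, pow_succ, ih, LinearMap.toMatrix'_mul]
    rw [h2, h1, LinearMap.toMatrix'_one]
  · intro h
    have h1 : C = 1 := by
      apply LinearMap.toMatrix'.injective
      rw [h]
      exact (LinearMap.toMatrix'_one).symm
    apply hA1
    have h2 : ∀ w ∈ LinearMap.range (A - 1), w = 0 := by
      intro w hw
      apply eq_zero_of_fixed hA hs hw
      have h3 := hC (φ.symm ⟨w, hw⟩)
      rw [h1, Module.End.one_apply, LinearEquiv.apply_symm_apply] at h3
      exact h3.symm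
    rw [← sub_eq_zero]
    ext1 v
    exact h2 _ ⟨v, rfl⟩
  · intro u
    rw [← hC, LinearMap.toMatrix'_mulVec]

end Lin

theorem dvd_card_GL_of {k s : ℕ} (hs : s.Prime) {M : Matrix (Fin k) (Fin k) F} (hM : M ^ s = 1) (h1 : M ≠ 1)
    (S : Subgroup (GL (Fin k) F)) (hS : ∀ g : GL (Fin k) F, (g : Matrix (Fin k) (Fin k) F) = M → g ∈ S) :
    s ∣ Nat.card S := by
  have hs1 : s = s - 1 + 1 := by have := hs.two_le; omega
  let g : GL (Fin k) F := ⟨M, M ^ (s - 1), by rw [← pow_succ', ← hs1, hM], by rw [← pow_succ, ← hs1, hM]⟩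
  have hg : g ^ s = 1 := Units.ext (by rw [Units.val_pow_eq_pow_val]; exact hM)
  have hg1 : g ≠ 1 := fun h => h1 (congrArg Units.val h)
  let g' : S := ⟨g, hS g rfl⟩
  have := Fact.mk hs
  have ho : orderOf g' = s := orderOf_eq_prime (Subtype.ext hg) (fun h => hg1 (congrArg Subtype.val h))
  rw [← ho]
  exact orderOf_dvd_natCard g'

variable [Fintype F]

theorem ne_zero_of_not_dvd {s : ℕ} (hs : s.Prime) (h : ¬ s ∣ Fintype.card F) : (s : F) ≠ 0 := by
  intro h0
  obtain ⟨p, hp⟩ := CharP.exists F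
  have h1 : p ∣ s := (CharP.cast_eq_zero_iff F p s).mp h0
  have hp' : p.Prime := (CharP.char_is_prime_or_zero F p).resolve_right (CharP.char_ne_zero_of_finite F p)
  have h2 : p = s := (Nat.prime_dvd_prime_iff_eq hp' hs).1 h1
  rw [← h2] at h
  apply h
  rw [← CharP.cast_eq_zero_iff F p, FiniteField.cast_card_eq_zero]

/-- An element of prime order `s` of `GL_n(q)` has commutator space of dimension at least the order of `q`
modulo `s`. -/
theorem lb_lin {V : Type*} [AddCommGroup V] [Module F V] [FiniteDimensional F V] {A : V →ₗ[F] V} {s : ℕ}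
    (hs : s.Prime) (hsq : ¬ s ∣ Fintype.card F) (hA : A ^ s = 1) (hA1 : A ≠ 1) :
    orderOf (Fintype.card F : ZMod s) ≤ finrank F (LinearMap.range (A - 1)) := by
  obtain ⟨M, hM, hM1, -⟩ := exists_matrix hA (ne_zero_of_not_dvd hs hsq) hA1
    (LinearEquiv.ofFinrankEq (Fin (finrank F (LinearMap.range (A - 1))) → F) _ (by simp))
  have h1 := dvd_card_GL_of hs hM hM1 ⊤ (fun _ _ => Subgroup.mem_top _)
  rw [Subgroup.card_top] at h1
  obtain ⟨j, hj, hjk, hd⟩ := exists_dvd_GL hs hsq h1
  rw [dvd_iff_plus Fintype.card_pos] at hd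
  exact (Nat.le_of_dvd (by omega) (orderOf_dvd_of_pow_eq_one hd)).trans hjk

/-- The commutator space of an isometry of order prime to the characteristic is nondegenerate. -/
theorem range_nondeg {n q s : ℕ} (hF : Fintype.card F = q ^ 2) {A : (Fin n → F) →ₗ[F] (Fin n → F)}
    (hA : A ^ s = 1) (hs0 : s ≠ 0) (hs : (s : F) ≠ 0)
    (hiso : ∀ u v, hermForm n F q (A u) (A v) = hermForm n F q u v) :
    ∀ u ∈ LinearMap.range (A - 1), (∀ v ∈ LinearMap.range (A - 1), hermForm n F q u v = 0) → u = 0 := by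
  intro u hu h
  apply eq_zero_of_fixed hA hs hu
  rw [← sub_eq_zero]
  refine herm_nondeg hF fun x => ?_
  -- `h(A u - u, x) = h(u, A⁻¹ x - x)`
  obtain ⟨y, rfl⟩ : ∃ y, A y = x := by
    refine ⟨(A ^ (s - 1)) x, ?_⟩
    rw [← Module.End.mul_apply, ← pow_succ', Nat.sub_add_cancel (Nat.one_le_iff_ne_zero.2 hs0), hA,
      Module.End.one_apply]
  rw [herm_sub_left, hiso]
  have h1 := h ((A - 1) y) ⟨y, rfl⟩
  rw [LinearMap.sub_apply, Module.End.one_apply, herm_sub_right hF, sub_eq_zero] at h1
  rw [h1, sub_self]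

theorem lb_unit {n q s : ℕ} (hF : Fintype.card F = q ^ 2) {A : (Fin n → F) →ₗ[F] (Fin n → F)}
    (hs : s.Prime) (hsq : ¬ s ∣ q) (hA : A ^ s = 1) (hA1 : A ≠ 1)
    (hiso : ∀ u v, hermForm n F q (A u) (A v) = hermForm n F q u v) :
    orderOf (-(q : ZMod s)) ≤ finrank F (LinearMap.range (A - 1)) := by
  have hsF : ¬ s ∣ Fintype.card F := by
    rw [hF]; exact fun h => hsq (hs.dvd_of_dvd_pow h)
  have hs0 := ne_zero_of_not_dvd hs hsF
  have hnd := range_nondeg hF hA hs.ne_zero hs0 hiso
  obtain ⟨b, hbW, hb⟩ := HermOrtho.exists_orthonormal hF _ hnd rfl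
  have hk : finrank F (LinearMap.range (A - 1)) = Fintype.card (Fin (finrank F (LinearMap.range (A - 1)))) := by
    simp
  have hli := HermOrtho.linearIndependent_of_orthonormal hb
  let b' : Fin (finrank F (LinearMap.range (A - 1))) → LinearMap.range (A - 1) := fun i => ⟨b i, hbW i⟩
  have hli' : LinearIndependent F b' := by
    apply LinearIndependent.of_comp (LinearMap.range (A - 1)).subtype
    exact hli
  let B : Basis (Fin (finrank F (LinearMap.range (A - 1)))) F (LinearMap.range (A - 1)) :=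
    basisOfLinearIndependentOfCardEqFinrank' b' hli' (Fintype.card_fin _)
  have hB : ∀ i, B i = b' i := fun i => by
    rw [show B = basisOfLinearIndependentOfCardEqFinrank' b' hli' (Fintype.card_fin _) from rfl,
      coe_basisOfLinearIndependentOfCardEqFinrank']
  have hφ : ∀ u, ((B.equivFun.symm u : LinearMap.range (A - 1)) : Fin n → F) = ∑ i, u i • b i := by
    intro u
    rw [Basis.equivFun_symm_apply]
    push_cast
    refine Finset.sum_congr rfl fun i _ => ?_
    rw [hB]
  obtain ⟨M, hM, hM1, hMφ⟩ := exists_matrix hA hs0 hA1 B.equivFun.symm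
  have hform : ∀ u v, hermForm n F q (B.equivFun.symm u : LinearMap.range (A - 1))
      (B.equivFun.symm v : LinearMap.range (A - 1)) = hermForm _ F q u v := by
    intro u v
    rw [hφ, hφ, herm_sum_right hF, herm_def]
    refine Finset.sum_congr rfl fun j _ => ?_
    rw [herm_smul_right, HermOrtho.herm_sum_smul_left hb, mul_comm]
  have h1 : s ∣ Nat.card (GU (finrank F (LinearMap.range (A - 1))) F q) := by
    apply dvd_card_GL_of hs hM hM1
    intro g hg u v
    rw [Units.coeHom_apply, hg, ← hform, hMφ, hMφ, hiso, hform]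
  obtain ⟨j, hj, hjk, hd⟩ := exists_dvd_GU hF hs hsq h1
  have hq : 1 ≤ q := q_pos hF
  rw [dvd_iff_minus hq] at hd
  exact (Nat.le_of_dvd (by omega) (orderOf_dvd_of_pow_eq_one hd)).trans hjk

end Cfsg.Agent.H556.HallLB
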