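import Cfsg.Agent.H556.HallSURow
import Cfsg.Agent.H170.HL.ClRows

/-!
# The rows `PSL`, `PSU` of the conjugacy of odd order Hall subgroups (helper556)
-/

set_option autoImplicit false

namespace Cfsg.Agent.H556.HallClRows

open Cfsg Cfsg.Agent.H553.OddHall Cfsg.Agent.H170.HL Cfsg.Agent.H170.HL.Rows

universe u

/-- **row `PSL`** -/
theorem oddC_psl {G : Type u} [Group G] [Finite G] [IsSimpleGroup G]
    (hnc : ¬ IsMulCommutative G) (hind : OddInd G) {p : ℕ} (hG : IsPSLChar p G) : OddC G := by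
  obtain ⟨F, _, _, hchar, n, hn, hn2, ⟨e⟩⟩ := hG
  have hp : p.Prime := CharP.char_is_prime F p
  have hlie : IsLieTypeChar p G :=
    Or.inl ⟨F, inferInstance, inferInstance, hchar, n, hn, hn2, ⟨e⟩⟩
  refine oddC_of_pz hnc hind hp hlie fun π h2 hpπ hne => ?_
  exact HallSLRow.exists_pz hn e (beta_all (rep_injective HallSLRow.inc_injective)) π h2
    (cast_ne_zero hp hpπ) hne

/-- **row `PSU`** -/
theorem oddC_psu {G : Type u} [Group G] [Finite G] [IsSimpleGroup G]
    (hnc : ¬ IsMulCommutative G) (hind : OddInd G) {p : ℕ} (hG : IsPSUChar p G) : OddC G := by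
  obtain ⟨F, _, _, hchar, n, q, hF, hn, hn2, ⟨e⟩⟩ := hG
  have hp : p.Prime := CharP.char_is_prime F p
  have hlie : IsLieTypeChar p G :=
    Or.inr (Or.inr (Or.inl ⟨F, inferInstance, inferInstance, hchar, n, q, hF, hn, hn2, ⟨e⟩⟩))
  refine oddC_of_pz hnc hind hp hlie fun π h2 hpπ hne => ?_
  exact HallSURow.exists_pz hF hn e (beta_all (rep_injective HallSURow.inc_injective)) π h2
    (cast_ne_zero hp hpπ) hne

end Cfsg.Agent.H556.HallClRows
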