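import Mathlib.Analysis.InnerProductSpace.Projection.Basic
import Mathlib.GroupTheory.Subgroup.Centralizer
import Mathlib.Algebra.Group.Subgroup.Finite
import Mathlib.GroupTheory.Sylow
import Mathlib.RepresentationTheory.Basic

/-!
# Blichfeldt's 60 degree theorem, strong form (helper556)

`N` a finite group acting by isometries, irreducibly, on an inner product space `W` over `ℝ` or `ℂ`; `K` a set of
elements, closed under conjugation, generating `N`, such that `‖x u - u‖ ≤ ‖u‖` for `x ∈ K` and all `u` (all eigenvalues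
within 60 degrees of `1`). Then every `x ∈ K` is trivial on `W` or fixes no non-zero vector of `W`.
-/

set_option autoImplicit false

namespace Cfsg.Agent.H556.Bl

open Subgroup Module

variable {k W N : Type*} [RCLike k] [NormedAddCommGroup W] [InnerProductSpace k W] [Group N]

/-- the fixed vectors of a subgroup -/
def Fx (ρ : Representation k N W) (D : Subgroup N) : Submodule k W where
  carrier := {v | ∀ g ∈ D, ρ g v = v}
  zero_mem' := fun g _ => map_zero _
  add_mem' := fun {a b} ha hb g hg => by rw [map_add, ha g hg, hb g hg]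
  smul_mem' := fun c v hv g hg => by rw [map_smul, hv g hg]

theorem mem_Fx {ρ : Representation k N W} {D : Subgroup N} {v : W} : v ∈ Fx ρ D ↔ ∀ g ∈ D, ρ g v = v := Iff.rfl

theorem inner_rep {ρ : Representation k N W} (hiso : ∀ g v, ‖ρ g v‖ = ‖v‖) (g : N) (v w : W) :
    inner k (ρ g v) (ρ g w) = inner k v w := by
  let f : W →ₗᵢ[k] W := ⟨ρ g, hiso g⟩
  exact f.inner_map_map v w

theorem rep_inv_apply (ρ : Representation k N W) (g : N) (v : W) : ρ g⁻¹ (ρ g v) = v := by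
  rw [← Module.End.mul_apply, ← map_mul, inv_mul_cancel, map_one, Module.End.one_apply]

theorem rep_apply_inv (ρ : Representation k N W) (g : N) (v : W) : ρ g (ρ g⁻¹ v) = v := by
  rw [← Module.End.mul_apply, ← map_mul, mul_inv_cancel, map_one, Module.End.one_apply]

/-- the commutator trick: distances decrease -/
theorem dist_lt {ρ : Representation k N W} (hiso : ∀ g v, ‖ρ g v‖ = ‖v‖) {x y : N}
    (hx : ∀ u, ‖ρ x u - u‖ ≤ ‖u‖) {v : W} (hv : ‖v‖ = 1) (hxv : ρ x v = v) (hyv : ρ y v ≠ v) :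
    ‖ρ (y⁻¹ * x * y * x⁻¹) v - v‖ < ‖ρ y v - v‖ := by
  set w := ρ y v with hw
  have hwn : ‖w‖ = 1 := by rw [hw, hiso, hv]
  have hxi : ρ x⁻¹ v = v := by
    conv_lhs => rw [← hxv]
    exact rep_inv_apply ρ x v
  have h1 : ‖ρ (y⁻¹ * x * y * x⁻¹) v - v‖ = ‖ρ x w - w‖ := by
    rw [← hiso y (ρ (y⁻¹ * x * y * x⁻¹) v - v), map_sub]
    congr 1
    rw [map_mul, Module.End.mul_apply, hxi, map_mul, Module.End.mul_apply, ← hw, map_mul, Module.End.mul_apply,
      rep_apply_inv]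
  rw [h1]
  -- decompose `w`
  set s : k := inner k v w with hs
  have h2 : ρ x w - w = ρ x (w - s • v) - (w - s • v) := by
    rw [map_sub, map_smul, hxv]; abel
  have h3 : ‖ρ x w - w‖ ^ 2 ≤ ‖w - s • v‖ ^ 2 := by
    rw [h2]
    exact pow_le_pow_left₀ (norm_nonneg _) (hx _) 2
  have hvv : inner k v v = (1 : k) := by rw [inner_self_eq_norm_sq_to_K, hv]; simp
  have hww : inner k w w = (1 : k) := by rw [inner_self_eq_norm_sq_to_K, hwn]; simp
  have h4 : ‖w - s • v‖ ^ 2 = 1 - ‖s‖ ^ 2 := by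
    have h5 : ‖w - s • v‖ ^ 2 = ‖w‖ ^ 2 - 2 * RCLike.re (inner k w (s • v)) + ‖s • v‖ ^ 2 := norm_sub_sq w (s • v)
    rw [h5, hwn, norm_smul, hv, inner_smul_right, ← inner_conj_symm w v, ← hs, RCLike.mul_conj]
    norm_cast
    simp
    ring
  have h6 : ‖w - v‖ ^ 2 = 2 - 2 * RCLike.re s := by
    have h5 : ‖w - v‖ ^ 2 = ‖w‖ ^ 2 - 2 * RCLike.re (inner k w v) + ‖v‖ ^ 2 := norm_sub_sq w v
    rw [h5, hwn, hv, ← inner_conj_symm w v, ← hs, RCLike.conj_re]
    ring
  have h7 : ‖(1 : k) - s‖ ^ 2 = 1 - 2 * RCLike.re s + ‖s‖ ^ 2 := by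
    rw [← RCLike.normSq_eq_def', RCLike.normSq_sub, ← RCLike.normSq_eq_def']
    simp
    ring
  have h8 : s ≠ 1 := by
    intro h
    apply hyv
    have : ‖w - v‖ ^ 2 = 0 := by rw [h6, h]; simp
    rw [sq_eq_zero_iff, norm_eq_zero, sub_eq_zero] at this
    exact this
  have h9 : 0 < ‖(1 : k) - s‖ ^ 2 := by
    apply pow_pos
    rw [norm_pos_iff, sub_ne_zero]
    exact h8.symm
  have h10 : ‖ρ x w - w‖ ^ 2 < ‖w - v‖ ^ 2 := by
    rw [h6]
    rw [h4] at h3
    linarith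
  exact lt_of_pow_lt_pow_left₀ 2 (norm_nonneg _) h10


section Main

variable {ρ : Representation k N W} {K : Set N} {D : Subgroup N}

theorem normalizer_maps {m : N} (hm : m ∈ normalizer (D : Set N)) {v : W} (hv : v ∈ Fx ρ D) : ρ m v ∈ Fx ρ D := by
  intro g hg
  have h1 : m⁻¹ * g * m ∈ D := by
    have h2 := (Subgroup.mem_normalizer_iff'.mp hm (m⁻¹ * g)).mpr (by simpa [mul_assoc] using hg)
    exact h2
  have h2 := hv _ h1
  have h3 : g * m = m * (m⁻¹ * g * m) := by group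
  rw [← Module.End.mul_apply, ← map_mul, h3, map_mul, Module.End.mul_apply, h2]

/-- Claim A -/
theorem claimA [Finite N] (hconj : ∀ x ∈ K, ∀ g : N, g * x * g⁻¹ ∈ K) (hD : D ≤ closure (K ∩ D))
    (hmax : ∀ v ∈ Fx ρ D, v ≠ 0 → ∀ g ∈ K, ρ g v = v → g ∈ D) {y : N} {v : W} (hv : v ∈ Fx ρ D) (hv0 : v ≠ 0)
    (hyv : ρ y v ∈ Fx ρ D) : y ∈ normalizer (D : Set N) := by
  have h1 : D ≤ D.map (MulAut.conj y).toMonoidHom := by
    refine hD.trans ?_
    rw [Subgroup.closure_le]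
    rintro d ⟨hdK, hd⟩
    refine ⟨y⁻¹ * d * y, ?_, by simp [MulAut.conj_apply, mul_assoc]⟩
    refine hmax v hv hv0 _ ?_ ?_
    · simpa using hconj d hdK y⁻¹
    · rw [map_mul, Module.End.mul_apply, map_mul, Module.End.mul_apply, hyv d hd, rep_inv_apply]
  have h2 : D = D.map (MulAut.conj y).toMonoidHom := by
    refine Subgroup.eq_of_le_of_card_ge h1 ?_
    exact le_of_eq (Nat.card_congr (D.equivMapOfInjective _ (MulAut.conj y).injective).toEquiv.symm)
  rw [Subgroup.mem_normalizer_iff]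
  intro g
  constructor
  · intro hg
    rw [h2]
    exact ⟨g, hg, by simp [MulAut.conj_apply]⟩
  · intro hg
    rw [h2] at hg
    obtain ⟨g', hg', he⟩ := hg
    have : g' = g := by simpa [MulAut.conj_apply] using he
    exact this ▸ hg'

/-- Claim B -/
theorem claimB [Finite N] (hiso : ∀ g v, ‖ρ g v‖ = ‖v‖) (hconj : ∀ x ∈ K, ∀ g : N, g * x * g⁻¹ ∈ K)
    (hD : D ≤ closure (K ∩ D)) (hmax : ∀ v ∈ Fx ρ D, v ≠ 0 → ∀ g ∈ K, ρ g v = v → g ∈ D) {y : N}
    (hy : y ∉ normalizer (D : Set N)) (hyD : ∀ d ∈ D, y * d * y⁻¹ ∈ normalizer (D : Set N)) {v w : W}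
    (hv : v ∈ Fx ρ D) (hw : w ∈ Fx ρ D) : inner k v (ρ y w) = 0 := by
  classical
  have : Fintype D := Fintype.ofFinite D
  let s : W := ∑ d : D, ρ (y * d * y⁻¹) v
  have hs1 : s ∈ Fx ρ D := Submodule.sum_mem _ fun d _ => normalizer_maps (hyD d d.2) hv
  let u : W := ∑ d : D, ρ d (ρ y⁻¹ v)
  have hsu : s = ρ y u := by
    simp only [s, u, map_sum]
    refine Finset.sum_congr rfl fun d _ => ?_
    rw [map_mul, map_mul]; rfl
  have hu : u ∈ Fx ρ D := by
    intro g hg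
    simp only [u, map_sum]
    refine Fintype.sum_equiv (Equiv.mulLeft (⟨g, hg⟩ : D)) _ _ fun d => ?_
    show ρ g (ρ d (ρ y⁻¹ v)) = ρ (g * d) (ρ y⁻¹ v)
    rw [map_mul]; rfl
  have hs0 : s = 0 := by
    by_contra h
    have hu0 : u ≠ 0 := by
      rintro h0
      rw [h0, map_zero] at hsu
      exact h hsu
    exact hy (claimA hconj hD hmax hu hu0 (hsu ▸ hs1))
  have h1 : inner k s (ρ y w) = (Fintype.card D : k) * inner k v (ρ y w) := by
    simp only [s, sum_inner]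
    rw [Finset.sum_congr rfl (g := fun _ => inner k v (ρ y w))]
    · simp
    · intro d _
      have h2 : ρ y w = ρ (y * d * y⁻¹) (ρ y w) := by
        rw [← Module.End.mul_apply, ← map_mul]
        have h3 : y * (d : N) * y⁻¹ * y = y * d := by group
        rw [h3, map_mul, Module.End.mul_apply, hw d d.2]
      conv_lhs => rw [h2]
      exact inner_rep hiso _ _ _
  rw [hs0, inner_zero_left] at h1
  rcases mul_eq_zero.mp h1.symm with h | h
  · exfalso
    have h2 : Fintype.card D ≠ 0 := Fintype.card_ne_zero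
    exact h2 (by exact_mod_cast h)
  · exact h

theorem norm_sub_sq_of_inner {v w : W} (hv : ‖v‖ = 1) (hw : ‖w‖ = 1) (h : inner k v w = (0 : k)) :
    ‖w - v‖ ^ 2 = 2 := by
  have h5 : ‖w - v‖ ^ 2 = ‖w‖ ^ 2 - 2 * RCLike.re (inner k w v) + ‖v‖ ^ 2 := norm_sub_sq w v
  rw [h5, hw, hv, ← inner_conj_symm w v, h]
  simp
  norm_num

/-- **Blichfeldt's 60 degree theorem** -/
theorem blich [Finite N] (hiso : ∀ g v, ‖ρ g v‖ = ‖v‖) (hconj : ∀ x ∈ K, ∀ g : N, g * x * g⁻¹ ∈ K)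
    (hgen : closure K = ⊤) (hK : ∀ x ∈ K, ∀ u, ‖ρ x u - u‖ ≤ ‖u‖)
    (hirr : ∀ U : Submodule k W, (∀ g, ∀ u ∈ U, ρ g u ∈ U) → U = ⊥ ∨ U = ⊤) {x : N} (hx : x ∈ K) :
    (∀ u, ρ x u = u) ∨ (∀ u, ρ x u = u → u = 0) := by
  by_contra hcon
  push Not at hcon
  obtain ⟨⟨u₀, hu₀⟩, v₀, hv₀, hv₀0⟩ := hcon
  -- the maximal subgroup
  let 𝓓 : Set (Subgroup N) := {D | D ≤ closure (K ∩ D) ∧ Fx ρ D ≠ ⊥ ∧ x ∈ D}
  have hne : 𝓓.Nonempty := by
    refine ⟨closure {x}, ?_, ?_, subset_closure rfl⟩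
    · exact Subgroup.closure_mono (by
        rintro _ rfl
        exact ⟨hx, subset_closure rfl⟩)
    · intro h
      have h1 : v₀ ∈ Fx ρ (closure {x}) := by
        intro g hg
        induction hg using Subgroup.closure_induction with
        | mem y hy => rw [Set.mem_singleton_iff.mp hy]; exact hv₀
        | one => rw [map_one]; rfl
        | mul a b _ _ ha hb => rw [map_mul, Module.End.mul_apply, hb, ha]
        | inv a _ ha =>
          conv_lhs => rw [← ha]
          exact rep_inv_apply ρ a v₀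
      rw [h] at h1
      exact hv₀0 ((Submodule.mem_bot k).mp h1)
  have hfinN : Finite (Subgroup N) := inferInstance
  obtain ⟨D, hDmem, hDmax⟩ := (Set.toFinite 𝓓).exists_maximal hne
  obtain ⟨hD, hF, hxD⟩ := hDmem
  have hmax : ∀ v ∈ Fx ρ D, v ≠ 0 → ∀ g ∈ K, ρ g v = v → g ∈ D := by
    intro v hv hv0 g hg hgv
    let Dv : Subgroup N := closure {g | g ∈ K ∧ ρ g v = v}
    have h1 : D ≤ Dv := hD.trans (Subgroup.closure_mono fun d hd => ⟨hd.1, hv d hd.2⟩)
    have h2 : Dv ∈ 𝓓 := by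
      refine ⟨?_, ?_, h1 hxD⟩
      · refine Subgroup.closure_mono fun d hd => ⟨hd.1, subset_closure hd⟩
      · intro h
        have h3 : v ∈ Fx ρ Dv := by
          intro g hg
          induction hg using Subgroup.closure_induction with
          | mem y hy => exact hy.2
          | one => rw [map_one]; rfl
          | mul a b _ _ ha hb => rw [map_mul, Module.End.mul_apply, hb, ha]
          | inv a _ ha =>
            conv_lhs => rw [← ha]
            exact rep_inv_apply ρ a v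
        rw [h] at h3
        exact hv0 ((Submodule.mem_bot k).mp h3)
    exact hDmax h2 h1 (subset_closure ⟨hg, hgv⟩)
  have hDM : D ≤ normalizer (D : Set N) := Subgroup.le_normalizer
  -- a unit vector
  obtain ⟨v, hv, hv1⟩ : ∃ v ∈ Fx ρ D, ‖v‖ = 1 := by
    obtain ⟨v, hv, hv0⟩ := Submodule.exists_mem_ne_zero_of_ne_bot hF
    refine ⟨((‖v‖⁻¹ : ℝ) : k) • v, Submodule.smul_mem _ _ hv, ?_⟩
    rw [norm_smul, RCLike.norm_ofReal, abs_of_nonneg (by positivity)]
    exact inv_mul_cancel₀ (norm_ne_zero_iff.mpr hv0)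
  have hv0 : v ≠ 0 := by
    rintro rfl
    simp at hv1
  -- passing from generators to `D`
  have hgenD : ∀ y : N, (∀ d ∈ K, d ∈ D → y * d * y⁻¹ ∈ normalizer (D : Set N)) →
      ∀ d ∈ D, y * d * y⁻¹ ∈ normalizer (D : Set N) := by
    intro y hy d hd
    have h1 : D ≤ (normalizer (D : Set N)).comap (MulAut.conj y).toMonoidHom := by
      refine hD.trans ?_
      rw [Subgroup.closure_le]
      rintro e ⟨heK, he⟩
      exact hy e heK he
    exact h1 hd
  have hstep : ∀ y : N, y ∉ normalizer (D : Set N) → (∀ y' : N, y' ∉ normalizer (D : Set N) →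
      ‖ρ y v - v‖ ≤ ‖ρ y' v - v‖) → ∀ d ∈ D, y⁻¹ * d * y⁻¹⁻¹ ∈ normalizer (D : Set N) := by
    intro y hy hmin
    refine hgenD y⁻¹ fun d hdK hd => ?_
    have h1 : ρ y v ≠ v := fun h => hy (claimA hconj hD hmax hv hv0 (by rw [h]; exact hv))
    have h2 := dist_lt hiso (hK d hdK) hv1 (hv d hd) h1
    have h3 : y⁻¹ * d * y * d⁻¹ ∈ normalizer (D : Set N) := by
      by_contra h
      exact absurd (hmin _ h) (not_le.mpr h2)
    have h4 := mul_mem h3 (hDM hd)
    simpa [mul_assoc] using h4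
  have claimC : ∀ y : N, y ∉ normalizer (D : Set N) → 2 ≤ ‖ρ y v - v‖ ^ 2 := by
    intro y' hy'
    obtain ⟨y, hy, hmin⟩ := Set.exists_min_image {y : N | y ∉ normalizer (D : Set N)} (fun y => ‖ρ y v - v‖)
      (Set.toFinite _) ⟨y', hy'⟩
    have hy1 : y⁻¹ ∉ normalizer (D : Set N) := fun h => hy ((Subgroup.inv_mem_iff _).mp h)
    have h0 : ‖ρ y⁻¹ v - v‖ = ‖ρ y v - v‖ := by
      rw [← hiso y (ρ y⁻¹ v - v), map_sub, rep_apply_inv, norm_sub_rev]
    have h1 : ∀ d ∈ D, y * d * y⁻¹ ∈ normalizer (D : Set N) := by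
      intro d hd
      have h2 := hstep y⁻¹ hy1 (fun y' hy' => h0.le.trans (hmin y' hy')) d hd
      simpa using h2
    have h2 := claimB hiso hconj hD hmax hy h1 hv hv
    have h3 := norm_sub_sq_of_inner hv1 (by rw [hiso, hv1]) h2
    rw [← h3]
    exact pow_le_pow_left₀ (norm_nonneg _) (hmin y' hy') 2
  have claimD : ∀ y : N, ∀ d ∈ D, y * d * y⁻¹ ∈ normalizer (D : Set N) := by
    intro y
    refine hgenD y fun d hdK hd => ?_
    have h1 : ‖ρ (y * d * y⁻¹ * d⁻¹) v - v‖ = ‖ρ d (ρ y⁻¹ v) - ρ y⁻¹ v‖ := by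
      have hdi : ρ d⁻¹ v = v := hv _ (D.inv_mem hd)
      rw [map_mul, Module.End.mul_apply, hdi, map_mul, Module.End.mul_apply, map_mul, Module.End.mul_apply]
      rw [← hiso y⁻¹ (ρ y (ρ d (ρ y⁻¹ v)) - v), map_sub, rep_inv_apply]
    have h2 : ‖ρ (y * d * y⁻¹ * d⁻¹) v - v‖ ≤ 1 := by
      rw [h1]
      refine (hK d hdK _).trans ?_
      rw [hiso, hv1]
    have h3 : y * d * y⁻¹ * d⁻¹ ∈ normalizer (D : Set N) := by
      by_contra h
      have h4 := claimC _ h
      have h5 : ‖ρ (y * d * y⁻¹ * d⁻¹) v - v‖ ^ 2 ≤ 1 := by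
        calc _ ≤ (1 : ℝ) ^ 2 := pow_le_pow_left₀ (norm_nonneg _) h2 2
          _ = 1 := one_pow 2
      linarith
    have h4 := mul_mem h3 (hDM hd)
    simpa [mul_assoc] using h4
  have claimE : ∀ y ∈ K, y ∈ normalizer (D : Set N) := by
    intro y hy
    by_contra h
    have h1 := norm_sub_sq_of_inner hv1 (by rw [hiso, hv1]) (claimB hiso hconj hD hmax h (claimD y) hv hv)
    have h2 : ‖ρ y v - v‖ ^ 2 ≤ 1 := by
      calc _ ≤ (1 : ℝ) ^ 2 := pow_le_pow_left₀ (norm_nonneg _) ((hK y hy v).trans hv1.le) 2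
        _ = 1 := one_pow 2
    linarith
  have hM : ∀ g : N, g ∈ normalizer (D : Set N) := by
    intro g
    have h1 : closure K ≤ normalizer (D : Set N) := (Subgroup.closure_le _).mpr claimE
    rw [hgen] at h1
    exact h1 (Subgroup.mem_top g)
  rcases hirr (Fx ρ D) (fun g u hu => normalizer_maps (hM g) hu) with h | h
  · exact hF h
  · exact hu₀ ((h ▸ Submodule.mem_top : u₀ ∈ Fx ρ D) x hxD)

end Main

end Cfsg.Agent.H556.Bl
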