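import Cfsg.Agent.H571.RV.Pred
import Cfsg.Agent.H553.GoodLems
import Cfsg.Agent.H556.SmallAb

/-!
# `FHall` from a normal 2-complement (helper556)

`fhall_of_oddClosed` : a Hall `π`-subgroup `H` in which products of elements of odd order have odd order and such elements
commute gives `FHall π S` (with `r = 2`).
-/

set_option autoImplicit false

namespace Cfsg.Agent.H556.FH

open Subgroup Cfsg Cfsg.Agent.H571.RV Cfsg.Agent.H553.ExtRed

/-- the data of `FHall` with `r = 2` for a given Hall subgroup -/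
def TwoAt {S : Type*} [Group S] (H : Subgroup S) : Prop :=
  ∃ A : Subgroup S, A ≤ H ∧ H ≤ normalizer (A : Set S) ∧ (∀ a ∈ A, ∀ b ∈ A, a * b = b * a) ∧ ¬ 2 ∣ Nat.card A ∧
    ∀ p : ℕ, p.Prime → p ∣ A.relIndex H → p = 2

theorem TwoAt.fhall {π : Set ℕ} {S : Type*} [Group S] {H : Subgroup S} (h : TwoAt H) (hH : IsPiHall π H) :
    FHall π S := by
  obtain ⟨A, h1, h2, h3, h4, h5⟩ := h
  exact ⟨2, Nat.prime_two, H, A, hH, h1, h2, h3, h4, h5⟩

theorem two_of_oddClosed {S : Type*} [Group S] [Finite S] {H : Subgroup S}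
    (hcl : OddClosed H) (hab : ∀ x ∈ H, ∀ y ∈ H, Odd (orderOf x) → Odd (orderOf y) → x * y = y * x) :
    TwoAt H := by
  let A : Subgroup S :=
    { carrier := {x | x ∈ H ∧ Odd (orderOf x)}
      one_mem' := ⟨H.one_mem, by rw [orderOf_one]; exact odd_one⟩
      mul_mem' := by
        rintro x y ⟨hx, hx1⟩ ⟨hy, hy1⟩
        refine ⟨H.mul_mem hx hy, ?_⟩
        have h1 := hcl ⟨x, hx⟩ ⟨y, hy⟩ (by rwa [Subgroup.orderOf_mk]) (by rwa [Subgroup.orderOf_mk])
        rw [← Subgroup.orderOf_coe] at h1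
        exact h1
      inv_mem' := by
        rintro x ⟨hx, hx1⟩
        exact ⟨H.inv_mem hx, by rwa [orderOf_inv]⟩ }
  have hAH : A ≤ H := fun x hx => hx.1
  refine ⟨A, hAH, ?_, fun a ha b hb => hab a ha.1 b hb.1 ha.2 hb.2, ?_, ?_⟩
  · intro g hg
    rw [Subgroup.mem_normalizer_iff]
    intro x
    have h1 : orderOf (g * x * g⁻¹) = orderOf x := by
      have := orderOf_injective (MulAut.conj g).toMonoidHom (MulAut.conj g).injective x
      exact this
    constructor
    · rintro ⟨hx, hx1⟩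
      exact ⟨H.mul_mem (H.mul_mem hg hx) (H.inv_mem hg), by rw [h1]; exact hx1⟩
    · rintro ⟨hx, hx1⟩
      refine ⟨?_, by rwa [h1] at hx1⟩
      have := H.mul_mem (H.mul_mem (H.inv_mem hg) hx) hg
      simpa [mul_assoc] using this
  · intro hd
    have : Fact (Nat.Prime 2) := ⟨Nat.prime_two⟩
    obtain ⟨x, hx⟩ := exists_prime_orderOf_dvd_card' (G := A) 2 hd
    have h1 := x.2.2
    rw [Subgroup.orderOf_coe, hx] at h1
    exact absurd h1 (by decide)
  · intro p hp hd
    -- `H / A` is a 2-group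
    have hn : (A.subgroupOf H).Normal := by
      refine ⟨fun x hx g => ?_⟩
      rw [Subgroup.mem_subgroupOf] at hx ⊢
      have h1 : orderOf ((g : S) * x * (g : S)⁻¹) = orderOf (x : S) := by
        have := orderOf_injective (MulAut.conj (g : S)).toMonoidHom (MulAut.conj (g : S)).injective (x : S)
        exact this
      exact ⟨(g * x * g⁻¹ : H).2, by
        show Odd (orderOf ((g : S) * x * (g : S)⁻¹))
        rw [h1]; exact hx.2⟩
    have hq : p ∣ Nat.card (H ⧸ A.subgroupOf H) := hd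
    have : Fact p.Prime := ⟨hp⟩
    obtain ⟨y, hy⟩ := exists_prime_orderOf_dvd_card' (G := H ⧸ A.subgroupOf H) p hq
    obtain ⟨x, rfl⟩ := QuotientGroup.mk_surjective y
    -- the odd part
    obtain ⟨k, m, hm, hkm⟩ := Nat.exists_eq_two_pow_mul_odd (orderOf_pos x).ne'
    have h2 : x ^ 2 ^ k ∈ A.subgroupOf H := by
      rw [Subgroup.mem_subgroupOf]
      refine ⟨(x ^ 2 ^ k).2, ?_⟩
      rw [Subgroup.orderOf_coe]
      exact odd_orderOf_of_pow hm (by rw [← pow_mul, ← hkm, pow_orderOf_eq_one])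
    have h3 : (x : H ⧸ A.subgroupOf H) ^ 2 ^ k = 1 := by
      rw [← QuotientGroup.mk_pow]
      exact (QuotientGroup.eq_one_iff _).mpr h2
    have h4 := orderOf_dvd_of_pow_eq_one h3
    rw [hy] at h4
    exact (Nat.prime_dvd_prime_iff_eq hp Nat.prime_two).mp (hp.dvd_of_dvd_pow h4)

theorem fhall_of_oddClosed {π : Set ℕ} {S : Type*} [Group S] [Finite S] {H : Subgroup S} (hH : IsPiHall π H)
    (hcl : OddClosed H) (hab : ∀ x ∈ H, ∀ y ∈ H, Odd (orderOf x) → Odd (orderOf y) → x * y = y * x) :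
    FHall π S :=
  (two_of_oddClosed hcl hab).fhall hH

/-- lifting the conditions through a surjective homomorphism with kernel of exponent two -/
theorem two_of_surj {S X : Type*} [Group S] [Finite S] [Group X] [Finite X] (φ : X →* S)
    (hφ : Function.Surjective φ) (hk : ∀ k, φ k = 1 → k * k = 1) {H : Subgroup S}
    (hcl : OddClosed (H.comap φ))
    (hab : ∀ x ∈ H.comap φ, ∀ y ∈ H.comap φ, Odd (orderOf x) → Odd (orderOf y) → x * y = y * x) :
    TwoAt H := by
  have key : ∀ x ∈ H, Odd (orderOf x) → ∃ x' ∈ H.comap φ, φ x' = x ∧ Odd (orderOf x') := by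
    intro x hxH hx
    obtain ⟨z, rfl⟩ := hφ x
    obtain ⟨k, hk'⟩ := hx
    have hz : φ (z ^ (orderOf (φ z) + 1)) = φ z := by
      rw [map_pow, pow_succ, pow_orderOf_eq_one, one_mul]
    refine ⟨z ^ (orderOf (φ z) + 1), ?_, hz, ?_⟩
    · show φ _ ∈ H
      rw [hz]; exact hxH
    · refine odd_orderOf_of_pow (n := orderOf (φ z)) ⟨k, hk'⟩ ?_
      have h1 : z ^ orderOf (φ z) * z ^ orderOf (φ z) = 1 := hk _ (by rw [map_pow, pow_orderOf_eq_one])
      have h2 : orderOf (φ z) + 1 = 2 * (k + 1) := by omega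
      rw [h2, ← pow_mul, mul_comm (2 * (k + 1)), ← mul_assoc, pow_mul, pow_mul, pow_two, h1, one_pow]
  refine two_of_oddClosed ?_ ?_
  · intro x y hx hy
    rw [← Subgroup.orderOf_coe] at hx hy ⊢
    obtain ⟨x', hx'H, hx', hx'o⟩ := key x x.2 hx
    obtain ⟨y', hy'H, hy', hy'o⟩ := key y y.2 hy
    rw [Subgroup.coe_mul, ← hx', ← hy', ← map_mul]
    refine Odd.of_dvd_nat ?_ (orderOf_map_dvd φ _)
    have h1 := hcl ⟨x', hx'H⟩ ⟨y', hy'H⟩ (by rwa [Subgroup.orderOf_mk]) (by rwa [Subgroup.orderOf_mk])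
    rw [← Subgroup.orderOf_coe] at h1
    exact h1
  · intro x hx y hy hxo hyo
    obtain ⟨x', hx'H, rfl, hx'o⟩ := key x hx hxo
    obtain ⟨y', hy'H, rfl, hy'o⟩ := key y hy hyo
    rw [← map_mul, ← map_mul, hab x' hx'H y' hy'H hx'o hy'o]

theorem fhall_of_surj {π : Set ℕ} {S X : Type*} [Group S] [Finite S] [Group X] [Finite X] (φ : X →* S)
    (hφ : Function.Surjective φ) (hk : ∀ k, φ k = 1 → k * k = 1) {H : Subgroup S} (hH : IsPiHall π H)
    (hcl : OddClosed (H.comap φ))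
    (hab : ∀ x ∈ H.comap φ, ∀ y ∈ H.comap φ, Odd (orderOf x) → Odd (orderOf y) → x * y = y * x) :
    FHall π S :=
  (two_of_surj φ hφ hk hcl hab).fhall hH

end Cfsg.Agent.H556.FH
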