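import Cfsg.Agent.H556.HallSmallCen
import Cfsg.Agent.H170.HL.RowForm

/-!
# The abstract case analysis for `SL` and `SU` (helper556)
-/

set_option autoImplicit false

namespace Cfsg.Agent.H556.HallRowAbs

open Module Cfsg.Agent.H167.OP Cfsg.Agent.H170.HL Cfsg.Agent.H556.HallSmallCen

variable {F : Type*} [Field F] {V : Type*} [AddCommGroup V] [Module F V] {K : Type*} [Group K]
  {G : Type*} [Group G]

/-- the pair generated by two conjugates of `z` -/
theorem isPGroup_pair_of_cen [Finite K] {t : ℕ} (ht : t.Prime) (z g : K) (hz : z ^ t = 1) (f : K →* G)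
    (hker : ∀ k, f k = 1 → ∀ x, k * x = x * k)
    (hsol : Group.IsSolvable ((Subgroup.closure {z, g * z * g⁻¹}).map f))
    (hcen : ∀ r : ℕ, r.Prime → r ≠ t → r ∣ Nat.card ((Subgroup.closure {z, g * z * g⁻¹}).map f) →
      ∀ y ∈ Subgroup.closure {z, g * z * g⁻¹}, (∃ k : ℕ, y ^ t ^ k = 1) →
      ∀ R : Subgroup K, R ≤ Subgroup.closure {z, g * z * g⁻¹} → (∀ d ∈ R, ∃ k : ℕ, d ^ r ^ k = 1) →
      Nrm y R → Cen y R) : IsPGroup t ((Subgroup.closure {z, g * z * g⁻¹}).map f) := by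
  classical
  have htf : Fact t.Prime := ⟨ht⟩
  set L : Subgroup K := Subgroup.closure {z, g * z * g⁻¹} with hL
  have hC : CenH t L := by
    intro y hy r hrp hrt R hR hn
    by_cases hd : r ∣ Nat.card (L.map f)
    · have h1 := hcen r hrp hrt hd (y : K) y.2 (by
        obtain ⟨k, hk⟩ := hy
        exact ⟨k, congrArg Subtype.val hk⟩) (R.map L.subtype) (Subgroup.map_subtype_le _) (by
        rintro _ ⟨x, hx, rfl⟩
        obtain ⟨k, hk⟩ := hR ⟨x, hx⟩
        exact ⟨k, congrArg (fun z : R => ((z : L) : K)) hk⟩) (by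
        rintro _ ⟨x, hx, rfl⟩
        exact ⟨_, hn x hx, rfl⟩)
      intro d hd
      exact Subtype.ext (h1 d ⟨d, hd, rfl⟩)
    · intro d hdR
      have hfd : f (d : K) = 1 := by
        obtain ⟨k, hk⟩ := hR ⟨d, hdR⟩
        have h1 : (d : K) ^ r ^ k = 1 := congrArg (fun z : R => ((z : L) : K)) hk
        have h2 : f (d : K) ^ r ^ k = 1 := by rw [← map_pow, h1, map_one]
        have h3 : orderOf (f (d : K)) ∣ r ^ k := orderOf_dvd_of_pow_eq_one h2
        have h4 : orderOf (f (d : K)) ∣ Nat.card (L.map f) :=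
          Subgroup.orderOf_dvd_natCard _ ⟨d, d.2, rfl⟩
        have h5 : Nat.Coprime (r ^ k) (Nat.card (L.map f)) :=
          Nat.Coprime.pow_left _ ((Nat.Prime.coprime_iff_not_dvd hrp).mpr hd)
        have h6 : orderOf (f (d : K)) ∣ 1 := by
          rw [← h5]
          exact Nat.dvd_gcd h3 h4
        exact orderOf_eq_one_iff.mp (Nat.dvd_one.mp h6)
      exact Subtype.ext (hker _ hfd _).symm
  have hsolL : Group.IsSolvable L := by
    let φ : L →* L.map f := (f.comp L.subtype).codRestrict (L.map f) (fun x => ⟨x, x.2, rfl⟩)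
    have h1 : φ.ker ≤ Subgroup.center L := by
      intro x hx
      rw [Subgroup.mem_center_iff]
      intro w
      have h2 : f (x : K) = 1 := congrArg Subtype.val (MonoidHom.mem_ker.mp hx)
      exact Subtype.ext (hker _ h2 _).symm
    have h2 : Group.IsSolvable φ.ker := by
      have : ∀ a b : φ.ker, a * b = b * a := by
        intro a b
        have := Subgroup.mem_center_iff.mp (h1 a.2) b
        exact Subtype.ext this.symm
      exact Group.isSolvable_of_comm this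
    exact Group.isSolvable_of_ker_le_range (G' := φ.ker) φ.ker.subtype φ (by rw [Subgroup.range_subtype])
  have hgen : Subgroup.closure {x : L | ∃ k : ℕ, x ^ t ^ k = 1} = ⊤ := by
    rw [eq_top_iff, ← Subgroup.closure_closure_coe_preimage (k := ({z, g * z * g⁻¹} : Set K))]
    apply Subgroup.closure_mono
    rintro ⟨x, hx⟩ hxm
    refine ⟨1, Subtype.ext ?_⟩
    rw [pow_one]
    show x ^ t = 1
    rcases hxm with h | h
    · have h' : x = z := h
      rw [h', hz]
    · have h' : x = g * z * g⁻¹ := h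
      rw [h', conj_pow, hz, mul_one, mul_inv_cancel]
  exact (isPGroup_of_cenH hsolL hC hgen).map f

/-- the data of a linear or unitary group -/
structure RowDat [Finite K] (ρ : Representation F K V) (e : ℕ → ℕ) : Prop where
  inj : Function.Injective ρ
  lb : ∀ r : ℕ, r.Prime → Odd r → (r : F) ≠ 0 → ∀ D E : Subgroup K, E ≤ D →
    (∀ a ∈ D, ∀ b ∈ D, a * b = b * a) → (∀ a ∈ D, a ^ r = 1) → VE ρ E D ≠ ⊥ →
    e r ≤ finrank F (VE ρ E D)
  epos : ∀ r : ℕ, r.Prime → (r : F) ≠ 0 → 0 < e r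
  edvd : ∀ r : ℕ, r.Prime → (r : F) ≠ 0 → e r ∣ r - 1

/-- the primes below `t` -/
theorem cen_below [Finite K] [FiniteDimensional F V] {ρ : Representation F K V} {e : ℕ → ℕ}
    (h : RowDat ρ e) {t r : ℕ} (ht : t.Prime) (hr : r.Prime) (hr2 : Odd r) (hrt : r < t)
    (hrF : (r : F) ≠ 0) (he : 2 ≤ e r) (hbeta : BetaP ρ t) (L : Subgroup K)
    (hb : finrank F (CV ρ L) ≤ 2 * (t - 1)) {y : K}
    (hy : ∃ k : ℕ, y ^ t ^ k = 1) {R : Subgroup K} (hRL : R ≤ L)
    (hR : ∀ d ∈ R, ∃ k : ℕ, d ^ r ^ k = 1) (hn : Nrm y R) : Cen y R := by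
  classical
  by_contra hc
  obtain ⟨D, hDR, hD⟩ := exists_minD hr ht hrt.ne hR hy hn hc
  have hDL : D ≤ L := hDR.trans hRL
  have hDb : finrank F (CV ρ D) ≤ 2 * (t - 1) := (Submodule.finrank_mono (CV_mono ρ hDL)).trans hb
  have ht2 := ht.two_le
  by_cases hab : ∀ a ∈ D, ∀ b ∈ D, a * b = b * a
  · have hne : ∃ d ∈ D, ρ d ≠ 1 := by
      by_contra hcon
      push Not at hcon
      apply hD.ncen
      intro d hd
      have : d = 1 := h.inj (by rw [hcon d hd, map_one])
      rw [this, mul_one, one_mul]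
    obtain ⟨E, hE, hED, hV, hle⟩ := alpha2 ρ hD hrt hrF hab hne
    have h2 := h.lb r hr hr2 hrF D E hE.1 hab (fun a ha => hD.pow_eq_one hab ha) hV
    have h3 : t * 2 ≤ t * finrank F (VE ρ E D) := Nat.mul_le_mul_left t (he.trans h2)
    omega
  · push Not at hab
    have := hbeta r y D hr2 hD hrF hab
    omega

/-- a `3`-element acts trivially on a group of order `5` -/
theorem comm_five {y x : K} (hx : x ^ 5 = 1) (hy : ∃ k : ℕ, y ^ 3 ^ k = 1) {j : ℕ}
    (h : y * x * y⁻¹ = x ^ j) : y * x = x * y := by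
  have : Fact (Nat.Prime 5) := ⟨by norm_num⟩
  by_cases hx1 : x = 1
  · rw [hx1, mul_one, one_mul]
  obtain ⟨k, hk⟩ := hy
  have ho : orderOf x = 5 := orderOf_eq_prime hx hx1
  have h1 : ∀ n : ℕ, y ^ n * x * (y ^ n)⁻¹ = x ^ j ^ n := by
    intro n
    induction n with
    | zero => simp
    | succ n ih =>
      have h2 : y ^ (n + 1) * x * (y ^ (n + 1))⁻¹ = y * (y ^ n * x * (y ^ n)⁻¹) * y⁻¹ := by
        rw [pow_succ']; group
      rw [h2, ih, ← conj_pow, h, ← pow_mul, pow_succ']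
  have h2 := h1 (3 ^ k)
  rw [hk, one_mul, inv_one, mul_one] at h2
  have h3 : x ^ 1 = x ^ j ^ 3 ^ k := by rw [pow_one]; exact h2
  rw [pow_inj_mod, ho] at h3
  have h4 : ((j : ZMod 5)) ^ 3 ^ k = 1 := by
    have : (((j ^ 3 ^ k : ℕ)) : ZMod 5) = ((1 : ℕ) : ZMod 5) := by
      rw [ZMod.natCast_eq_natCast_iff']
      exact h3.symm
    push_cast at this
    exact this
  have h5 : (j : ZMod 5) = 1 := by
    have h6 : orderOf (j : ZMod 5) ∣ 3 ^ k := orderOf_dvd_of_pow_eq_one h4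
    have h7 : orderOf (j : ZMod 5) ∣ 4 := by
      apply orderOf_dvd_of_pow_eq_one
      have h8 : (j : ZMod 5) ≠ 0 := by
        intro h0
        rw [h0, zero_pow (by positivity)] at h4
        exact absurd h4 zero_ne_one
      exact ZMod.pow_card_sub_one_eq_one h8
    have h8 : orderOf (j : ZMod 5) ∣ 1 := by
      have h9 : Nat.Coprime (3 ^ k) 4 := Nat.Coprime.pow_left _ (by norm_num)
      rw [← h9]
      exact Nat.dvd_gcd h6 h7
    exact orderOf_eq_one_iff.mp (Nat.dvd_one.mp h8)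
  have h6 : x ^ j = x ^ 1 := by
    rw [pow_inj_mod, ho]
    have : ((j : ℕ) : ZMod 5) = ((1 : ℕ) : ZMod 5) := by push_cast; exact h5
    rw [ZMod.natCast_eq_natCast_iff'] at this
    exact this
  rw [h6, pow_one] at h
  exact mul_inv_eq_iff_eq_mul.mp h

/-- the case `t = 3` -/
theorem cen_three [Finite K] [FiniteDimensional F V] {ρ : Representation F K V} {e : ℕ → ℕ}
    (h : RowDat ρ e) {r : ℕ} (hr : r.Prime) (h5 : 5 ≤ r) (hrF : (r : F) ≠ 0) (he : e r = r - 1)
    (hbeta : BetaP ρ 3) (L : Subgroup K) (hb : finrank F (CV ρ L) ≤ 4) {y : K}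
    (hy : ∃ k : ℕ, y ^ 3 ^ k = 1) {R : Subgroup K} (hRL : R ≤ L)
    (hR : ∀ d ∈ R, ∃ k : ℕ, d ^ r ^ k = 1) (hn : Nrm y R) : Cen y R := by
  classical
  by_contra hc
  have hodd : Odd r := hr.odd_of_ne_two (by omega)
  obtain ⟨D, hDR, hD⟩ := exists_minD hr Nat.prime_three (by omega) hR hy hn hc
  have hDL : D ≤ L := hDR.trans hRL
  have hDb : finrank F (CV ρ D) ≤ 4 := (Submodule.finrank_mono (CV_mono ρ hDL)).trans hb
  by_cases hab : ∀ a ∈ D, ∀ b ∈ D, a * b = b * a
  · have hne : ∃ d ∈ D, ρ d ≠ 1 := by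
      by_contra hcon
      push Not at hcon
      apply hD.ncen
      intro d hd
      have : d = 1 := h.inj (by rw [hcon d hd, map_one])
      rw [this, mul_one, one_mul]
    have hcD := card_ne_zero_of_MinD hD hrF (le_refl D)
    have hexp : ∀ a ∈ D, a ^ r = 1 := fun a ha => hD.pow_eq_one hab ha
    obtain ⟨E, hE, hED, hV⟩ := exists_VE ρ hD.hs hrF hcD hab hexp hne
    have h1 := h.lb r hr hodd hrF D E hE.1 hab hexp hV
    have h2 : VE ρ E D ≤ CV ρ D := VE_le_CV ρ hcD
    have h3 := Submodule.finrank_mono h2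
    have hr5 : r = 5 := by
      rw [he] at h1
      omega
    subst hr5
    have h4 : VE ρ E D = CV ρ D := by
      apply Submodule.eq_of_le_of_finrank_eq h2
      omega
    have hE1 : ∀ x ∈ E, x = 1 := by
      intro x hx
      apply h.inj
      rw [map_one]
      refine eq_one_of_res ρ (hE.1 hx) (hexp x (hE.1 hx)) hrF ?_
      intro w hw
      rw [← h4] at hw
      exact hw.1 x hx
    obtain ⟨x, hx, hxE⟩ : ∃ x ∈ D, x ∉ E := by
      by_contra hcon
      push Not at hcon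
      exact hED (le_antisymm hE.1 hcon)
    have hDx : D ≤ Subgroup.zpowers x := by
      refine (hE.2 x hx hxE).trans ?_
      rw [sup_le_iff]
      refine ⟨fun w hw => ?_, le_refl _⟩
      rw [hE1 w hw]
      exact Subgroup.one_mem _
    have h6 : y * x * y⁻¹ ∈ Subgroup.zpowers x := hDx (hD.nrm x hx)
    have hfo : IsOfFinOrder x := isOfFinOrder_of_finite x
    rw [hfo.mem_zpowers_iff_mem_range_orderOf, Finset.mem_image] at h6
    obtain ⟨j, -, hj⟩ := h6
    have h7 := comm_five (hexp x hx) hy hj.symm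
    apply hD.ncen
    intro d hd
    obtain ⟨i, rfl⟩ := Subgroup.mem_zpowers_iff.mp (hDx hd)
    have h8 : Commute y x := h7
    exact h8.zpow_right i
  · push Not at hab
    have := hbeta r y D hodd hD hrF hab
    omega

/-- the noncentral elements of small rank -/
theorem exists_pz_abs [Finite K] [Finite G] [FiniteDimensional F V] {ρ : Representation F K V}
    {e : ℕ → ℕ} (h : RowDat ρ e) (φ : K →* G) (hφ : Function.Surjective φ)
    (hker : ∀ k, φ k = 1 → ∀ x, k * x = x * k)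
    (hbeta : ∀ t : ℕ, t.Prime → Odd t → (t : F) ≠ 0 → BetaP ρ t)
    (π : Set ℕ) (h2 : 2 ∉ π) (hp : ∀ r ∈ π, r.Prime → (r : F) ≠ 0)
    (hsm : ∀ t : ℕ, t.Prime → Odd t → (t : F) ≠ 0 → t ∣ Nat.card G →
      ∃ z : K, φ z ≠ 1 ∧ z ^ t = 1 ∧ rk ρ z ≤ max 2 (e t))
    (hne : ∃ r ∈ π, r.Prime ∧ r ∣ Nat.card G) :
    ∃ t ∈ π, t.Prime ∧ t ∣ Nat.card G ∧ ∃ z : G, z ≠ 1 ∧ z ^ t = 1 ∧ PZ t π z := by
  classical
  have hodd : ∀ r ∈ π, r.Prime → Odd r := by
    intro r hr hrp
    rcases hrp.eq_two_or_odd' with h | h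
    · exact absurd (h ▸ hr) h2
    · exact h
  have h3 : ∀ r ∈ π, r.Prime → 3 ≤ r := by
    intro r hr hrp
    have h4 := hrp.two_le
    have h5 : r ≠ 2 := fun h6 => h2 (h6 ▸ hr)
    omega
  have h5 : ∀ r ∈ π, r.Prime → r ≠ 3 → 5 ≤ r := by
    intro r hr hrp h4
    have h5 := h3 r hr hrp
    have h6 : r ≠ 4 := by
      rintro rfl
      exact absurd hrp (by norm_num)
    omega
  -- the reduction to a choice of `t`
  suffices hsuff : ∃ t ∈ π, t.Prime ∧ t ∣ Nat.card G ∧ ∀ z g : K, z ^ t = 1 → rk ρ z ≤ max 2 (e t) →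
      ∀ r ∈ π, r.Prime → r ≠ t → r ∣ Nat.card G → ∀ y ∈ Subgroup.closure {z, g * z * g⁻¹},
      (∃ k : ℕ, y ^ t ^ k = 1) →
      ∀ R : Subgroup K, R ≤ Subgroup.closure {z, g * z * g⁻¹} → (∀ d ∈ R, ∃ k : ℕ, d ^ r ^ k = 1) →
      Nrm y R → Cen y R by
    obtain ⟨t, htπ, ht, htd, hc⟩ := hsuff
    obtain ⟨z, hz1, hzt, hzr⟩ := hsm t ht (hodd t htπ ht) (hp t htπ ht) htd
    refine ⟨t, htπ, ht, htd, φ z, hz1, by rw [← map_pow, hzt, map_one], ?_⟩
    intro g hsol hpi
    obtain ⟨g, rfl⟩ := hφ g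
    have hmap : (Subgroup.closure {z, g * z * g⁻¹}).map φ =
        Subgroup.closure {φ z, φ g * φ z * (φ g)⁻¹} := by
      rw [MonoidHom.map_closure, Set.image_pair, map_mul, map_mul, map_inv]
    rw [← hmap] at hsol hpi ⊢
    refine isPGroup_pair_of_cen ht z g hzt φ hker hsol ?_
    intro r hr hrt hrd
    exact hc z g hzt hzr r (hpi r hr hrd) hr hrt (hrd.trans (Subgroup.card_subgroup_dvd_card _))
  have hdim : ∀ (t : ℕ) (z g : K), rk ρ z ≤ max 2 (e t) →
      finrank F (CV ρ (Subgroup.closure {z, g * z * g⁻¹})) ≤ 2 * max 2 (e t) := by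
    intro t z g hz
    refine (finrank_CV_pair ρ g z).trans ?_
    omega
  by_cases hA : ∃ t ∈ π, t.Prime ∧ t ∣ Nat.card G ∧ 5 ≤ t ∧ e t ≠ t - 1
  · obtain ⟨t, htπ, ht, htd, ht5, het⟩ := hA
    refine ⟨t, htπ, ht, htd, ?_⟩
    intro z g _ hzr r hrπ hr hrt _ y hyL hy R hRL hR hn
    refine small_cen ρ h.inj ht hr (fun h6 => h2 (h6 ▸ hrπ)) hrt (hp r hrπ hr) _ ?_ hyL hy hRL hR hn
    refine (hdim t z g hzr).trans_lt ?_
    have h6 := h.epos t ht (hp t htπ ht)
    obtain ⟨m, hm⟩ := h.edvd t ht (hp t htπ ht)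
    have h7 : m ≠ 1 := by
      rintro rfl
      rw [mul_one] at hm
      exact het hm.symm
    have h8 : m ≠ 0 := by
      rintro rfl
      rw [mul_zero] at hm
      omega
    have h9 : 2 ≤ m := by omega
    have h10 : e t * 2 ≤ e t * m := Nat.mul_le_mul_left _ h9
    rcases le_total 2 (e t) with h11 | h11
    · rw [max_eq_right h11]; omega
    · rw [max_eq_left h11]; omega
  · push Not at hA
    by_cases hC : 3 ∈ π ∧ 3 ∣ Nat.card G ∧ e 3 = 1
    · obtain ⟨h3π, h3d, he3⟩ := hC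
      refine ⟨3, h3π, Nat.prime_three, h3d, ?_⟩
      intro z g _ hzr r hrπ hr hrt hrd y hyL hy R hRL hR hn
      have hr5 := h5 r hrπ hr hrt
      refine cen_three h hr hr5 (hp r hrπ hr) (hA r hrπ hr hrd hr5)
        (hbeta 3 Nat.prime_three (by decide) (hp 3 h3π Nat.prime_three)) _ ?_ hy hRL hR hn
      refine (hdim 3 z g hzr).trans ?_
      rw [he3]
      norm_num
    · obtain ⟨t, htπ, ht, htd, hmax⟩ := exists_max_prime (G := G) π hne
      refine ⟨t, htπ, ht, htd, ?_⟩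
      have he3 : 3 ∈ π → 3 ∣ Nat.card G → e 3 = 2 := by
        intro h3π h3d
        have h6 := h.epos 3 Nat.prime_three (hp 3 h3π Nat.prime_three)
        have h7 := h.edvd 3 Nat.prime_three (hp 3 h3π Nat.prime_three)
        have h8 : e 3 ≤ 2 := Nat.le_of_dvd (by norm_num) h7
        have h9 : e 3 ≠ 1 := fun h10 => hC ⟨h3π, h3d, h10⟩
        omega
      have hmt : max 2 (e t) = t - 1 := by
        by_cases ht3 : t = 3
        · subst ht3
          rw [he3 htπ htd]
          rfl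
        · have ht5 := h5 t htπ ht ht3
          rw [hA t htπ ht htd ht5]
          exact max_eq_right (by omega)
      intro z g _ hzr r hrπ hr hrt hrd y hyL hy R hRL hR hn
      have hlt : r < t := lt_of_le_of_ne (hmax r hrπ hr hrd) hrt
      refine cen_below h ht hr (hodd r hrπ hr) hlt (hp r hrπ hr) ?_
        (hbeta t ht (hodd t htπ ht) (hp t htπ ht)) _ ?_ hy hRL hR hn
      · by_cases hr3 : r = 3
        · subst hr3
          rw [he3 hrπ hrd]
        · have hr5 := h5 r hrπ hr hr3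
          rw [hA r hrπ hr hrd hr5]
          omega
      · rw [← hmt]
        exact hdim t z g hzr

end Cfsg.Agent.H556.HallRowAbs
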