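import Cfsg.Agent.H556.HallRowAbs
import Cfsg.Agent.H556.HallOrd
import Cfsg.Agent.H556.HallLB

/-!
# `P(z)` for `PSL` in cross characteristic (helper556)
-/

set_option autoImplicit false

namespace Cfsg.Agent.H556.HallSLRow

open Module Matrix Cfsg.Agent.H167.OP Cfsg.Agent.H170.HL Cfsg.Agent.H556.HallRowAbs

variable {F : Type*} [Field F] {V : Type*} [AddCommGroup V] [Module F V] {K : Type*} [Group K]

theorem not_dvd_card [Fintype F] {r : ℕ} (hr : r.Prime) (hrF : (r : F) ≠ 0) :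
    ¬ r ∣ Fintype.card F := by
  intro h
  obtain ⟨n, hp, hn⟩ := FiniteField.card F (ringChar F)
  rw [hn] at h
  have h1 := (Nat.prime_dvd_prime_iff_eq hr hp).1 (hr.dvd_of_dvd_pow h)
  apply hrF
  rw [h1]
  exact ringChar.Nat.cast_ringChar

/-- some element of `D` acts nontrivially on `V_E` -/
theorem exists_act [Finite K] (ρ : Representation F K V) {D E : Subgroup K}
    (hD : (Nat.card D : F) ≠ 0) (hV : VE ρ E D ≠ ⊥) : ∃ d ∈ D, ∃ w ∈ VE ρ E D, ρ d w ≠ w := by
  by_contra hcon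
  push Not at hcon
  apply hV
  rw [eq_bot_iff]
  intro w hw
  have h1 : avg ρ D w = w := avg_fixed ρ D hD fun d hd => hcon d hd w hw
  rw [Submodule.mem_bot, ← h1]
  exact hw.2

theorem card_ne_zero_of_exp [Finite K] {r : ℕ} (hr : r.Prime) (hrF : (r : F) ≠ 0) {D : Subgroup K}
    (hexp : ∀ a ∈ D, a ^ r = 1) : (Nat.card D : F) ≠ 0 := by
  have hrf : Fact r.Prime := ⟨hr⟩
  have h1 : IsPGroup r D := fun x => ⟨1, Subtype.ext (by simpa using hexp x x.2)⟩
  obtain ⟨n, hn⟩ := IsPGroup.iff_card.mp h1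
  rw [hn, Nat.cast_pow]
  exact pow_ne_zero _ hrF

/-- the lower bound in linear groups -/
theorem lb_VE [Fintype F] [FiniteDimensional F V] [Finite K] (ρ : Representation F K V) {r : ℕ}
    (hr : r.Prime) (hrF : (r : F) ≠ 0) {D E : Subgroup K} (hED : E ≤ D)
    (hab : ∀ a ∈ D, ∀ b ∈ D, a * b = b * a) (hexp : ∀ a ∈ D, a ^ r = 1) (hV : VE ρ E D ≠ ⊥) :
    orderOf (Fintype.card F : ZMod r) ≤ finrank F (VE ρ E D) := by
  obtain ⟨d, hd, w, hw, hdw⟩ := exists_act ρ (card_ne_zero_of_exp hr hrF hexp) hV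
  let A : VE ρ E D →ₗ[F] VE ρ E D := (ρ d).restrict fun u hu => VE_inv ρ hED hab hd hu
  have hA : ∀ (i : ℕ) (u : VE ρ E D), (((A ^ i) u : VE ρ E D) : V) = ρ (d ^ i) u := by
    intro i
    induction i with
    | zero => intro u; rw [pow_zero, pow_zero, one_ap, Module.End.one_apply]
    | succ i ih =>
      intro u
      rw [pow_succ', Module.End.mul_apply, pow_succ', mul_ap, ← ih]
      rfl
  have h1 : A ^ r = 1 := by
    ext u
    rw [hA, hexp d hd, one_ap, Module.End.one_apply]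
  have h2 : A ≠ 1 := by
    intro h
    apply hdw
    have h3 := hA 1 ⟨w, hw⟩
    rw [pow_one, pow_one, h] at h3
    exact h3.symm
  exact (HallLB.lb_lin hr (not_dvd_card hr hrF) h1 h2).trans (Submodule.finrank_le _)

variable {n : ℕ}

/-- the inclusion of `SL_n` -/
def inc (n : ℕ) (F : Type*) [Field F] : SpecialLinearGroup (Fin n) F →* Matrix (Fin n) (Fin n) F where
  toFun A := A.1
  map_one' := rfl
  map_mul' _ _ := rfl

theorem inc_injective : Function.Injective (inc n F) := Subtype.val_injective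

/-- scalars of small rank -/
theorem eq_one_of_scalar {t : ℕ} (hn : 0 < n) (ht : t.Prime) {c : F} (hcn : c ^ n = 1)
    (hct : c ^ t = 1) (A : Module.End F (Fin n → F)) (hA : ∀ v, A v = c • v)
    (hr : finrank F (LinearMap.range (A - 1)) ≤ t - 1) : c = 1 := by
  by_contra hc
  have h1 : LinearMap.range (A - 1) = ⊤ := by
    rw [eq_top_iff]
    rintro v -
    have h2 : c - 1 ≠ 0 := sub_ne_zero.mpr hc
    refine ⟨(c - 1)⁻¹ • v, ?_⟩
    have h4 : c • (c - 1)⁻¹ • v - (c - 1)⁻¹ • v = (c - 1) • (c - 1)⁻¹ • v := by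
      rw [sub_smul, one_smul]
    rw [LinearMap.sub_apply, Module.End.one_apply, hA, h4, smul_smul, mul_inv_cancel₀ h2, one_smul]
  rw [h1, finrank_top, Module.finrank_fin_fun] at hr
  have ht2 := ht.two_le
  have h2 : Nat.Coprime n t := by
    rw [Nat.coprime_comm, ht.coprime_iff_not_dvd]
    intro h
    have := Nat.le_of_dvd hn h
    omega
  apply hc
  have h3 : orderOf c ∣ 1 := by
    rw [← h2]
    exact Nat.dvd_gcd (orderOf_dvd_of_pow_eq_one hcn) (orderOf_dvd_of_pow_eq_one hct)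
  exact orderOf_eq_one_iff.mp (Nat.dvd_one.mp h3)

theorem rowDat [Fintype F] (n : ℕ) :
    RowDat (rep (inc n F)) fun r => orderOf (Fintype.card F : ZMod r) where
  inj := rep_injective inc_injective
  lb r hr _ hrF D E hED hab hexp hV := lb_VE _ hr hrF hED hab hexp hV
  epos r hr hrF := HallOrd.order_pos hr (by
    rw [Ne, ZMod.natCast_eq_zero_iff]; exact not_dvd_card hr hrF)
  edvd r hr hrF := HallOrd.order_dvd hr (by
    rw [Ne, ZMod.natCast_eq_zero_iff]; exact not_dvd_card hr hrF)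

/-- **`P(z)` for `PSL`** -/
theorem exists_pz [Fintype F] {n : ℕ} (hn : 2 ≤ n) {G : Type*} [Group G] [Finite G]
    (e : G ≃* ProjectiveSpecialLinearGroup (Fin n) F)
    (hbeta : ∀ t : ℕ, t.Prime → Odd t → (t : F) ≠ 0 → BetaP (rep (inc n F)) t)
    (π : Set ℕ) (h2 : 2 ∉ π) (hp : ∀ r ∈ π, r.Prime → (r : F) ≠ 0)
    (hne : ∃ r ∈ π, r.Prime ∧ r ∣ Nat.card G) :
    ∃ t ∈ π, t.Prime ∧ t ∣ Nat.card G ∧ ∃ z : G, z ≠ 1 ∧ z ^ t = 1 ∧ PZ t π z := by
  let φ : SpecialLinearGroup (Fin n) F →* G :=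
    (e.symm : ProjectiveSpecialLinearGroup (Fin n) F →* G).comp
      (QuotientGroup.mk' (Subgroup.center (SpecialLinearGroup (Fin n) F)))
  have hφ : Function.Surjective φ :=
    e.symm.surjective.comp (QuotientGroup.mk'_surjective _)
  have hφ1 : ∀ k, φ k = 1 ↔ k ∈ Subgroup.center (SpecialLinearGroup (Fin n) F) := by
    intro k
    rw [← QuotientGroup.eq_one_iff]
    constructor
    · intro h
      exact e.symm.injective (h.trans (map_one e.symm).symm)
    · intro h
      show e.symm (QuotientGroup.mk' _ k) = 1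
      rw [QuotientGroup.mk'_apply, h, map_one]
  refine exists_pz_abs (rowDat n) φ hφ (fun k hk x => ?_) hbeta π h2 hp ?_ hne
  · exact (Subgroup.mem_center_iff.mp ((hφ1 k).mp hk) x).symm
  · intro t ht hodd htF htd
    have h1 : Nat.card G ∣ Nat.card (SpecialLinearGroup (Fin n) F) :=
      Subgroup.card_dvd_of_surjective φ hφ
    obtain ⟨z, hz1, hz2, hz3⟩ := HallOrd.small_SL hn ht (not_dvd_card ht htF) (htd.trans h1)
    refine ⟨z, fun h => hz2 ?_, hz1, hz3⟩
    rw [hφ1, Matrix.SpecialLinearGroup.mem_center_iff] at h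
    obtain ⟨c, hcn, hc⟩ := h
    rw [Fintype.card_fin] at hcn
    have hne : Nonempty (Fin n) := ⟨⟨0, by omega⟩⟩
    have hct : c ^ t = 1 := by
      have h3 : (scalar (Fin n) c) ^ t = 1 := by
        rw [hc]
        exact congrArg Subtype.val hz1
      rwa [← map_pow, ← map_one (scalar (Fin n)), scalar_inj] at h3
    have h4 := eq_one_of_scalar (by omega) ht hcn hct (z.1.mulVecLin) (fun v => by
      rw [mulVecLin_apply, ← hc, scalar_apply, ← smul_one_eq_diagonal, smul_mulVec, one_mulVec]) (hz3.trans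
        (HallOrd.mm_le ht (by rintro rfl; exact absurd hodd (by decide)) (by
          rw [Ne, ZMod.natCast_eq_zero_iff]; exact not_dvd_card ht htF)))
    apply Subtype.ext
    rw [← hc, h4, map_one]
    rfl

end Cfsg.Agent.H556.HallSLRow
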