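import Cfsg.Agent.H170.HL.PZ2
import Cfsg.Agent.H568.LinP

/-!
# `t`-elements centralise `r`-subgroups if `dim [V, L] < t` (helper556)
-/

set_option autoImplicit false

namespace Cfsg.Agent.H556.HallSmallCen

open Module Cfsg.Agent.H167.OP Cfsg.Agent.H170.HL

variable {F : Type*} [Field F] {V : Type*} [AddCommGroup V] [Module F V] {K : Type*} [Group K]

theorem CV_inv (ρ : Representation F K V) {L : Subgroup K} {g : K} (hg : g ∈ L) {w : V}
    (hw : w ∈ CV ρ L) : ρ g w ∈ CV ρ L := by
  have h1 : ρ g w = w + (ρ g w - w) := by abel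
  rw [h1]
  exact (CV ρ L).add_mem hw (sub_mem_CV ρ hg w)

/-- the action on `[V, L]` -/
noncomputable def res (ρ : Representation F K V) (L : Subgroup K) : L →* Module.End F (CV ρ L) where
  toFun g := (ρ g).restrict (fun _ hw => CV_inv ρ g.2 hw)
  map_one' := by
    ext w
    simp [LinearMap.restrict_apply]
  map_mul' a b := by
    ext w
    simp [LinearMap.restrict_apply]

theorem res_apply (ρ : Representation F K V) (L : Subgroup K) (g : L) (w : CV ρ L) :
    ((res ρ L g w : CV ρ L) : V) = ρ g w := rfl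

/-- an element of order prime to the characteristic which is trivial on `[V, L]` is trivial -/
theorem eq_one_of_res (ρ : Representation F K V) {L : Subgroup K} {g : K} (hg : g ∈ L) {n : ℕ}
    (hn : g ^ n = 1) (hnF : (n : F) ≠ 0) (h : ∀ w ∈ CV ρ L, ρ g w = w) : ρ g = 1 := by
  have h1 : ∀ (v : V) (i : ℕ), ρ (g ^ i) v = v + (i : F) • (ρ g v - v) := by
    intro v i
    induction i with
    | zero => simp
    | succ i ih =>
      rw [pow_succ', mul_ap, ih, map_add, map_smul, h _ (sub_mem_CV ρ hg v), Nat.cast_succ, add_smul,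
        one_smul]
      abel
  ext v
  have h2 := h1 v n
  rw [hn, one_ap, left_eq_add, smul_eq_zero, sub_eq_zero] at h2
  exact h2.resolve_left hnF

/-- the representation by matrices of `L` on `[V, L]` -/
noncomputable def resGL (ρ : Representation F K V) (L : Subgroup K) {d : ℕ}
    (b : Basis (Fin d) F (CV ρ L)) : L →* Matrix.GeneralLinearGroup (Fin d) F :=
  ((((LinearMap.toMatrixAlgEquiv b) : Module.End F (CV ρ L) ≃ₐ[F] Matrix (Fin d) (Fin d) F) :
    Module.End F (CV ρ L) →* Matrix (Fin d) (Fin d) F).comp (res ρ L)).toHomUnits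

theorem resGL_eq_one (ρ : Representation F K V) (L : Subgroup K) {d : ℕ}
    (b : Basis (Fin d) F (CV ρ L)) {g : L} (h : resGL ρ L b g = 1) : ∀ w ∈ CV ρ L, ρ g w = w := by
  intro w hw
  have h1 : (LinearMap.toMatrixAlgEquiv b) (res ρ L g) = 1 := congrArg Units.val h
  have h2 : res ρ L g = 1 := (LinearMap.toMatrixAlgEquiv b).injective (by rw [h1, map_one])
  have h3 := congrArg (fun A : Module.End F (CV ρ L) => ((A ⟨w, hw⟩ : CV ρ L) : V)) h2
  exact h3

/-- **`dim [V, L] < t`**: `t`-elements centralise the `r`-subgroups which they normalise. -/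
theorem small_cen [Finite K] [FiniteDimensional F V] (ρ : Representation F K V)
    (hρ : Function.Injective ρ) {t r : ℕ} (ht : t.Prime) (hr : r.Prime) (hr2 : r ≠ 2) (hrt : r ≠ t)
    (hrF : (r : F) ≠ 0) (L : Subgroup K) (hb : finrank F (CV ρ L) < t) {y : K} (hyL : y ∈ L)
    (hy : ∃ k : ℕ, y ^ t ^ k = 1) {R : Subgroup K} (hRL : R ≤ L)
    (hR : ∀ d ∈ R, ∃ k : ℕ, d ^ r ^ k = 1) (hn : Nrm y R) : Cen y R := by
  classical
  -- induction on the order of `y`
  obtain ⟨k, hk⟩ := hy
  induction k generalizing y with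
  | zero =>
    rw [pow_zero, pow_one] at hk
    intro d _
    rw [hk, one_mul, mul_one]
  | succ k ih =>
    have h1 : Cen (y ^ t) R := by
      refine ih (L.pow_mem hyL t) ?_ ?_
      · have h2 := nrm_pow hn t
        exact h2
      · rw [← pow_mul, ← pow_succ']
        exact hk
    let Q : Subgroup L := R.subgroupOf L
    have hQp : IsPGroup r Q := by
      rintro ⟨⟨x, hx⟩, hxR⟩
      obtain ⟨j, hj⟩ := hR x hxR
      exact ⟨j, Subtype.ext (Subtype.ext hj)⟩
    have hinj : ∀ x ∈ Q, resGL ρ L (finBasis F (CV ρ L)) x = 1 → x = 1 := by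
      intro x hx h
      obtain ⟨j, hj⟩ := hR x hx
      have h2 := eq_one_of_res ρ x.2 hj (by rw [Nat.cast_pow]; exact pow_ne_zero _ hrF)
        (resGL_eq_one ρ L _ h)
      exact Subtype.ext (hρ (by rw [h2, Subgroup.coe_one, map_one]))
    have hxn : (⟨y, hyL⟩ : L) ∈ Subgroup.normalizer (Q : Set L) := by
      have hfin : Finite L := inferInstance
      have h3 : ∀ x ∈ Q, (⟨y, hyL⟩ : L) * x * (⟨y, hyL⟩ : L)⁻¹ ∈ Q := fun x hx => hn x hx
      rw [Subgroup.mem_normalizer_iff]
      intro x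
      refine ⟨h3 x, fun hx => ?_⟩
      -- powers
      have hpow : ∀ (j : ℕ) (x : L), x ∈ Q → (⟨y, hyL⟩ : L) ^ j * x * ((⟨y, hyL⟩ : L) ^ j)⁻¹ ∈ Q := by
        intro j
        induction j with
        | zero => intro x hx; simpa using hx
        | succ j ih =>
          intro x hx
          have h4 := h3 _ (ih x hx)
          convert h4 using 1
          rw [pow_succ']
          group
      obtain ⟨m, hm0, hm⟩ : ∃ m : ℕ, 0 < m ∧ (⟨y, hyL⟩ : L) ^ m = 1 :=
        ⟨orderOf _, orderOf_pos _, pow_orderOf_eq_one _⟩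
      have h4 := hpow (m - 1) _ hx
      have h5 : (⟨y, hyL⟩ : L) ^ (m - 1) = (⟨y, hyL⟩ : L)⁻¹ := by
        rw [eq_inv_iff_mul_eq_one, ← pow_succ, Nat.sub_add_cancel hm0, hm]
      rw [h5] at h4
      convert h4 using 1
      group
    have hxl : ∀ x ∈ Q, (⟨y, hyL⟩ : L) ^ t * x = x * (⟨y, hyL⟩ : L) ^ t := by
      intro x hx
      exact Subtype.ext (h1 x hx)
    have h5 := Cfsg.Agent.H568.linP (resGL ρ L (finBasis F (CV ρ L))) hr hr2 ht hrt.symm hrF Q hQp
      hinj ⟨y, hyL⟩ hxn hxl (by rw [Fintype.card_fin]; exact hb)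
    intro d hd
    exact congrArg Subtype.val (h5 ⟨d, hRL hd⟩ hd)

end Cfsg.Agent.H556.HallSmallCen
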