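import Cfsg.Agent.H556.OddCoreC
import Cfsg.Agent.H556.OmHall

/-!
# Odd normal subgroups of orthogonal groups of odd index, IV (helper556): scaled frames and sign changes in `Omega`
-/

set_option autoImplicit false
set_option linter.unusedSectionVars false

namespace Cfsg.Agent.H556.OddCore

open Module QuadraticMap Cfsg.Agent.H556.Om Cfsg.Agent.H167.OP Cfsg.Agent.H170.HL Cfsg.Agent.H170.HL.OmRow

variable {F : Type*} [Field F] {ι : Type} [Fintype ι] [DecidableEq ι] {Q : QuadraticForm F (ι → F)}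
variable {J : Type*} [Fintype J] [DecidableEq J] {e : J → ι → F} {c : F}

theorem sc_apply (u v : ι → F) : (c⁻¹ • polarBilin Q) u v = c⁻¹ * polarBilin Q u v := rfl

theorem sc_symm (u v : ι → F) : (c⁻¹ • polarBilin Q) u v = (c⁻¹ • polarBilin Q) v u := by
  rw [sc_apply, sc_apply, polar_symm]

theorem sc_iso (g : Cfsg.Omega F (⇑Q)) (u v : ι → F) :
    (c⁻¹ • polarBilin Q) (rep (inc (⇑Q)) g u) (rep (inc (⇑Q)) g v) = (c⁻¹ • polarBilin Q) u v := by
  rw [sc_apply, sc_apply, polar_omega]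

theorem exists_iso' (h2 : (2 : F) ≠ 0) (hc : c ≠ 0) (hF : Frame (c⁻¹ • polarBilin Q) e) (s : J → F)
    (σ : Equiv.Perm J) (hs : ∀ j, s j * s j = 1) :
    ∃ g : Cfsg.isometryGroup F (⇑Q), rep (inc' (⇑Q)) g = mono (c⁻¹ • polarBilin Q) e s σ := by
  refine exists_of_iso (⇑Q) _ (mono (c⁻¹ • polarBilin Q) e (s ∘ σ.symm) σ.symm) ?_ ?_ (Q_eq_of h2 ?_)
  · rw [mono_mul hF h2]
    exact mono_one hF h2 (fun j => hs _) fun j => σ.apply_symm_apply j
  · rw [mono_mul hF h2]
    exact mono_one hF h2 (fun j => by simp [hs]) fun j => σ.symm_apply_apply j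
  · intro u v
    have h := mono_form (f := c⁻¹ • polarBilin Q) sc_symm hF h2 hs σ.injective u v
    rw [sc_apply, sc_apply] at h
    exact mul_left_cancel₀ (inv_ne_zero hc) h

theorem exists_sg' (hQ : GoodQ Q) (h2 : (2 : F) ≠ 0) (hc : c ≠ 0) (hF : Frame (c⁻¹ • polarBilin Q) e) {i j : J}
    (hij : i ≠ j) :
    ∃ g : Cfsg.Omega F (⇑Q), rep (inc (⇑Q)) g = mono (c⁻¹ • polarBilin Q) e (sg F i j) id := by
  let s : J → F := fun k => if k = i then -1 else 1
  have hs : ∀ k, s k * s k = 1 := by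
    intro k
    simp only [s]
    split_ifs <;> ring
  obtain ⟨g, hg⟩ := exists_iso' h2 hc hF s (Equiv.swap i j) hs
  refine ⟨⟨g * g, hQ.sq g⟩, ?_⟩
  have h1 : rep (inc (⇑Q)) ⟨g * g, hQ.sq g⟩ = rep (inc' (⇑Q)) (g * g) := rfl
  rw [h1, map_mul, hg, mono_mul hF h2]
  refine ext_frame hF h2 (fun k => ?_) fun w hw => ?_
  · rw [mono_e hF h2, mono_e hF h2]
    have h3 : s k * s (Equiv.swap i j k) = sg F i j k := by
      simp only [s, sg]
      by_cases h4 : k = i
      · subst h4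
        rw [Equiv.swap_apply_left, if_pos rfl, if_neg hij.symm, if_pos (Or.inl rfl), mul_one]
      · by_cases h5 : k = j
        · subst h5
          rw [Equiv.swap_apply_right, if_pos rfl, if_neg h4, if_pos (Or.inr rfl), one_mul]
        · rw [Equiv.swap_apply_of_ne_of_ne h4 h5, if_neg h4, if_neg (by tauto), one_mul]
    rw [h3]
    congr 1
    show e (Equiv.swap i j (Equiv.swap i j k)) = e k
    rw [Equiv.swap_apply_self]
  · rw [mono_orth hw, mono_orth hw]

theorem sgn_sq (I : Finset J) (k : J) : sgn F I k * sgn F I k = 1 := by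
  unfold sgn
  split_ifs <;> ring

/-- even sign changes are in `Omega` -/
theorem exists_sgn (hQ : GoodQ Q) (h2 : (2 : F) ≠ 0) (hc : c ≠ 0) (hF : Frame (c⁻¹ • polarBilin Q) e) (n : ℕ) :
    ∀ I : Finset J, I.card = 2 * n →
    ∃ g : Cfsg.Omega F (⇑Q), rep (inc (⇑Q)) g = mono (c⁻¹ • polarBilin Q) e (sgn F I) id := by
  induction n with
  | zero =>
    intro I hI
    have h1 : I = ∅ := Finset.card_eq_zero.mp hI
    subst h1
    refine ⟨1, ?_⟩
    rw [map_one]
    exact (mono_one hF h2 (fun j => by simp [sgn]) fun j => rfl).symm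
  | succ n ih =>
    intro I hI
    obtain ⟨i, hi, j, hj, hij⟩ := Finset.one_lt_card.mp (show 1 < I.card by omega)
    obtain ⟨g, hg⟩ := ih ((I.erase i).erase j) (by
      rw [Finset.card_erase_of_mem (Finset.mem_erase.mpr ⟨hij.symm, hj⟩), Finset.card_erase_of_mem hi]
      omega)
    obtain ⟨t, ht⟩ := exists_sg' hQ h2 hc hF hij
    refine ⟨g * t, ?_⟩
    rw [map_mul, hg, ht, mono_mul hF h2]
    congr 1
    funext k
    simp only [sgn, sg, id, Finset.mem_erase]
    by_cases hki : k = i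
    · subst hki
      simp [hi]
    · by_cases hkj : k = j
      · subst hkj
        simp [hj]
      · simp [hki, hkj]

/-- the group of sign changes -/
def DG (h2 : (2 : F) ≠ 0) (hF : Frame (c⁻¹ • polarBilin Q) e) : Subgroup (Cfsg.Omega F (⇑Q)) where
  carrier := {x | ∃ s : J → F, (∀ j, s j * s j = 1) ∧ rep (inc (⇑Q)) x = mono (c⁻¹ • polarBilin Q) e s id}
  one_mem' := ⟨fun _ => 1, fun _ => one_mul 1, by
    rw [map_one]
    exact (mono_one hF h2 (fun _ => rfl) fun _ => rfl).symm⟩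
  mul_mem' := by
    rintro x y ⟨s, hs, hx⟩ ⟨t, ht, hy⟩
    refine ⟨fun j => t j * s j, fun j => ?_, ?_⟩
    · calc t j * s j * (t j * s j) = (t j * t j) * (s j * s j) := by ring
        _ = 1 := by rw [hs, ht, one_mul]
    · rw [map_mul, hx, hy, mono_mul hF h2]
      rfl
  inv_mem' := by
    rintro x ⟨s, hs, hx⟩
    refine ⟨s, hs, ?_⟩
    have h1 : x * x = 1 := by
      apply rep_inj
      rw [map_mul, hx, mono_mul hF h2, map_one]
      exact mono_one hF h2 (fun j => hs j) fun _ => rfl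
    rw [← eq_inv_of_mul_eq_one_left h1, hx]

theorem DG_isPGroup (h2 : (2 : F) ≠ 0) (hF : Frame (c⁻¹ • polarBilin Q) e) : IsPGroup 2 (DG h2 hF) := by
  rintro ⟨x, s, hs, hx⟩
  refine ⟨1, Subtype.ext ?_⟩
  show x ^ 2 ^ 1 = 1
  rw [pow_one, pow_two]
  apply rep_inj
  rw [map_mul, hx, mono_mul hF h2, map_one]
  exact mono_one hF h2 (fun j => hs j) fun _ => rfl

/-- the translated sign changes in a subgroup of odd index -/
theorem exists_frame_in [Finite F] (hQ : GoodQ Q) (h2 : (2 : F) ≠ 0) (hc : c ≠ 0) (hF : Frame (c⁻¹ • polarBilin Q) e)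
    {H : Subgroup (Cfsg.Omega F (⇑Q))} (hH : ¬ 2 ∣ H.index) :
    ∃ e' : J → ι → F, Frame (c⁻¹ • polarBilin Q) e' ∧ ∀ I : Finset J, Even I.card →
      ∃ g ∈ H, rep (inc (⇑Q)) g = mono (c⁻¹ • polarBilin Q) e' (sgn F I) id := by
  have hfin : Finite (Cfsg.Omega F (⇑Q)) := inferInstance
  obtain ⟨g, hg⟩ := exists_conj hH (DG_isPGroup h2 hF)
  refine ⟨fun j => rep (inc (⇑Q)) g (e j), hF.map (sc_iso g), fun I hI => ?_⟩
  obtain ⟨n, hn⟩ := hI
  obtain ⟨x, hx⟩ := exists_sgn hQ h2 hc hF n I (by rw [hn, two_mul])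
  refine ⟨g * x * g⁻¹, hg x ⟨sgn F I, sgn_sq I, hx⟩, ?_⟩
  apply LinearMap.ext
  intro v
  rw [mono_comp (g := rep (inc (⇑Q)) g) (g' := rep (inc (⇑Q)) g⁻¹), mul_ap, mul_ap, hx]
  · intro u v
    rw [← sc_iso g u, ap_inv]
  · intro v
    exact ap_inv _ g v

/-- the dimension of the leftover space -/
theorem leftover_dim (h2 : (2 : F) ≠ 0) (hF : Frame (c⁻¹ • polarBilin Q) e) (W : Submodule F (ι → F))
    (hW : ∀ w, w ∈ W ↔ ∀ j, (c⁻¹ • polarBilin Q) (e j) w = 0) : finrank F W + Fintype.card J = Fintype.card ι := by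
  let Φ : (ι → F) →ₗ[F] (J → F) := LinearMap.pi fun j => (c⁻¹ • polarBilin Q) (e j)
  have h1 : W = LinearMap.ker Φ := by
    ext w
    rw [hW, LinearMap.mem_ker]
    constructor
    · intro h
      funext j
      exact h j
    · intro h j
      exact congrFun h j
  have h3 : LinearMap.range Φ = ⊤ := by
    rw [eq_top_iff]
    intro d _
    refine ⟨∑ j, ((2 : F)⁻¹ * d j) • e j, ?_⟩
    funext i
    show (c⁻¹ • polarBilin Q) (e i) (∑ j, ((2 : F)⁻¹ * d j) • e j) = d i
    rw [map_sum, Finset.sum_eq_single i]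
    · rw [map_smul, hF.self, smul_eq_mul]
      field_simp
    · intro j _ hj
      rw [map_smul, hF.orth i j hj.symm, smul_zero]
    · intro h
      exact absurd (Finset.mem_univ i) h
  have h4 := LinearMap.finrank_range_add_finrank_ker Φ
  rw [h3, finrank_top, Module.finrank_pi, Module.finrank_pi] at h4
  rw [h1]
  omega

end Cfsg.Agent.H556.OddCore
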