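import Cfsg.Agent.H556.OmMono
import Cfsg.Agent.H170.Fl.Defs
import Cfsg.Agent.H170.HL.OmRow

/-!
# Monomial elements of `Omega` (helper556)
-/

set_option autoImplicit false
set_option linter.unusedSectionVars false

namespace Cfsg.Agent.H556.Om

open Module QuadraticMap Cfsg.Agent.H167.OP Cfsg.Agent.H170.HL Cfsg.Agent.H170.HL.OmRow

variable {F : Type*} [Field F] {ι : Type} [Fintype ι] [DecidableEq ι] {Q : QuadraticForm F (ι → F)}
variable {J : Type*} [Fintype J] [DecidableEq J] {e : J → ι → F}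

theorem polar_symm (u v : ι → F) : polarBilin Q u v = polarBilin Q v u := by
  rw [polar_sym Q u v, one_mul]

theorem polar_self (v : ι → F) : polarBilin Q v v = 2 * Q v := by
  rw [polarBilin_apply_apply, QuadraticMap.polar_self, two_smul, two_mul]

theorem Q_eq_of (h2 : (2 : F) ≠ 0) {z : Module.End F (ι → F)}
    (hz : ∀ u v, polarBilin Q (z u) (z v) = polarBilin Q u v) (v : ι → F) : Q (z v) = Q v := by
  have h := hz v v
  rw [polar_self, polar_self] at h
  exact mul_left_cancel₀ h2 h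

theorem exists_iso (h2 : (2 : F) ≠ 0) (hF : Frame (polarBilin Q) e) (s : J → F) (σ : Equiv.Perm J)
    (hs : ∀ j, s j * s j = 1) :
    ∃ g : Cfsg.isometryGroup F (⇑Q), rep (inc' (⇑Q)) g = mono (polarBilin Q) e s σ := by
  refine exists_of_iso (⇑Q) _ (mono (polarBilin Q) e (s ∘ σ.symm) σ.symm) ?_ ?_
    (Q_eq_of h2 (mono_form polar_symm hF h2 hs σ.injective))
  · rw [mono_mul hF h2]
    exact mono_one hF h2 (fun j => hs _) fun j => σ.apply_symm_apply j
  · rw [mono_mul hF h2]
    exact mono_one hF h2 (fun j => by simp [hs]) fun j => σ.symm_apply_apply j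

/-- the permutation isometries -/
noncomputable def pm (h2 : (2 : F) ≠ 0) (hF : Frame (polarBilin Q) e) :
    Equiv.Perm J →* Cfsg.isometryGroup F (⇑Q) where
  toFun σ := Classical.choose (exists_iso h2 hF (fun _ => 1) σ fun _ => one_mul 1)
  map_one' := by
    apply rep_injective inc'_injective
    rw [Classical.choose_spec (exists_iso h2 hF (fun _ => 1) 1 fun _ => one_mul 1), map_one]
    exact mono_one hF h2 (fun _ => rfl) fun _ => rfl
  map_mul' σ τ := by
    apply rep_injective inc'_injective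
    rw [map_mul, Classical.choose_spec (exists_iso h2 hF (fun _ => 1) σ fun _ => one_mul 1),
      Classical.choose_spec (exists_iso h2 hF (fun _ => 1) τ fun _ => one_mul 1),
      Classical.choose_spec (exists_iso h2 hF (fun _ => 1) (σ * τ) fun _ => one_mul 1), mono_mul hF h2]
    simp only [mul_one]
    rfl

theorem rep_pm (h2 : (2 : F) ≠ 0) (hF : Frame (polarBilin Q) e) (σ : Equiv.Perm J) :
    rep (inc' (⇑Q)) (pm h2 hF σ) = mono (polarBilin Q) e (fun _ => 1) σ :=
  Classical.choose_spec (exists_iso h2 hF (fun _ => 1) σ fun _ => one_mul 1)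

theorem pm_mem (hQ : GoodQ Q) (h2 : (2 : F) ≠ 0) (hF : Frame (polarBilin Q) e) {σ : Equiv.Perm J}
    (hσ : Equiv.Perm.sign σ = 1) : pm h2 hF σ ∈ commutator (Cfsg.isometryGroup F (⇑Q)) := by
  have h1 : alternatingGroup J ≤ (commutator (Cfsg.isometryGroup F (⇑Q))).comap (pm h2 hF) := by
    rw [← Equiv.Perm.closure_three_cycles_eq_alternating, Subgroup.closure_le]
    intro τ hτ
    have h3 : τ ^ 3 = 1 := by
      have h4 : orderOf τ = 3 := Equiv.Perm.IsThreeCycle.orderOf hτ
      rw [← h4, pow_orderOf_eq_one]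
    have h5 : τ = (τ * τ) * (τ * τ) := by
      have : (τ * τ) * (τ * τ) = τ ^ 3 * τ := by
        rw [pow_succ, pow_two]
        simp only [mul_assoc]
      rw [this, h3, one_mul]
    show pm h2 hF τ ∈ commutator (Cfsg.isometryGroup F (⇑Q))
    rw [h5, map_mul]
    exact hQ.sq _
  exact h1 (Equiv.Perm.mem_alternatingGroup.mpr hσ)

theorem exists_perm (hQ : GoodQ Q) (h2 : (2 : F) ≠ 0) (hF : Frame (polarBilin Q) e) {σ : Equiv.Perm J}
    (hσ : Equiv.Perm.sign σ = 1) :
    ∃ g : Cfsg.Omega F (⇑Q), rep (inc (⇑Q)) g = mono (polarBilin Q) e (fun _ => 1) σ :=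
  ⟨⟨pm h2 hF σ, pm_mem hQ h2 hF hσ⟩, rep_pm h2 hF σ⟩

/-- the diagonal sign changes -/
def sg {J : Type*} [DecidableEq J] (F : Type*) [Field F] (i j k : J) : F := if k = i ∨ k = j then -1 else 1

theorem exists_sg (hQ : GoodQ Q) (h2 : (2 : F) ≠ 0) (hF : Frame (polarBilin Q) e) {i j : J} (hij : i ≠ j) :
    ∃ g : Cfsg.Omega F (⇑Q), rep (inc (⇑Q)) g = mono (polarBilin Q) e (sg F i j) id := by
  let s : J → F := fun k => if k = i then -1 else 1
  have hs : ∀ k, s k * s k = 1 := by
    intro k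
    simp only [s]
    split_ifs <;> ring
  obtain ⟨g, hg⟩ := exists_iso h2 hF s (Equiv.swap i j) hs
  refine ⟨⟨g * g, hQ.sq g⟩, ?_⟩
  have h1 : rep (inc (⇑Q)) ⟨g * g, hQ.sq g⟩ = rep (inc' (⇑Q)) (g * g) := rfl
  rw [h1, map_mul, hg, mono_mul hF h2]
  refine ext_frame hF h2 (fun k => ?_) fun w hw => ?_
  · rw [mono_e hF h2, mono_e hF h2]
    have h3 : s k * s (Equiv.swap i j k) = sg F i j k := by
      simp only [s, sg]
      by_cases h4 : k = i
      · subst h4
        rw [Equiv.swap_apply_left, if_pos rfl, if_neg hij.symm, if_pos (Or.inl rfl), mul_one]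
      · by_cases h5 : k = j
        · subst h5
          rw [Equiv.swap_apply_right, if_pos rfl, if_neg h4, if_pos (Or.inr rfl), one_mul]
        · rw [Equiv.swap_apply_of_ne_of_ne h4 h5, if_neg h4, if_neg (by tauto), one_mul]
    rw [h3]
    congr 1
    show e (Equiv.swap i j (Equiv.swap i j k)) = e k
    rw [Equiv.swap_apply_self]
  · rw [mono_orth hw, mono_orth hw]

/-- the index group -/
abbrev A4 := ZMod 2 × ZMod 2

/-- the group `2^{1+4}_+` attached to a 4-frame -/
def RG (Q : QuadraticForm F (ι → F)) (e : A4 → ι → F) : Subgroup (Cfsg.Omega F (⇑Q)) :=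
  Subgroup.closure ({x | ∃ a : A4, a ≠ 0 ∧ rep (inc (⇑Q)) x = mono (polarBilin Q) e (fun _ => 1) (a + ·)} ∪
    {x | ∃ i j : A4, i ≠ j ∧ rep (inc (⇑Q)) x = mono (polarBilin Q) e (sg F i j) id})

theorem polar_omega (g : Cfsg.Omega F (⇑Q)) (u v : ι → F) :
    polarBilin Q (rep (inc (⇑Q)) g u) (rep (inc (⇑Q)) g v) = polarBilin Q u v :=
  polar_apply Q (g : Cfsg.isometryGroup F (⇑Q)) u v

theorem rep_inj : Function.Injective (rep (inc (⇑Q))) := rep_injective inc_injective

/-- conjugates of monomial elements -/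
theorem conj_mono {g x : Cfsg.Omega F (⇑Q)} {s : J → F} {σ : J → J}
    (h : rep (inc (⇑Q)) x = mono (polarBilin Q) (fun j => rep (inc (⇑Q)) g (e j)) s σ) :
    rep (inc (⇑Q)) (g⁻¹ * x * g) = mono (polarBilin Q) e s σ := by
  apply LinearMap.ext
  intro v
  rw [mul_ap, mul_ap, h, mono_comp (g := rep (inc (⇑Q)) g) (g' := rep (inc (⇑Q)) g⁻¹), inv_ap, inv_ap]
  · intro u v
    rw [← polar_omega g u, ap_inv]
  · intro v
    exact ap_inv _ g v

theorem RG_conj (g : Cfsg.Omega F (⇑Q)) (e : A4 → ι → F) {H : Subgroup (Cfsg.Omega F (⇑Q))} 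
    (h : ∀ x ∈ RG Q e, g * x * g⁻¹ ∈ H) : RG Q (fun j => rep (inc (⇑Q)) g (e j)) ≤ H := by
  rw [RG, Subgroup.closure_le]
  intro x hx
  have key : g⁻¹ * x * g ∈ RG Q e := by
    apply Subgroup.subset_closure
    rcases hx with ⟨a, ha, hx⟩ | ⟨i, j, hij, hx⟩
    · exact Or.inl ⟨a, ha, conj_mono hx⟩
    · exact Or.inr ⟨i, j, hij, conj_mono hx⟩
  have := h _ key
  have h2 : g * (g⁻¹ * x * g) * g⁻¹ = x := by group
  rwa [h2] at this

/-! ### The 2-group attached to a family of frames -/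

variable {K : Type*} [Fintype K] [DecidableEq K]

/-- translation on the blocks -/
def blk (a : K → A4) (j : K × A4) : K × A4 := (j.1, a j.1 + j.2)

/-- the big 2-group -/
def BG (h2 : (2 : F) ≠ 0) {E : K × A4 → ι → F} (hF : Frame (polarBilin Q) E) : Subgroup (Cfsg.Omega F (⇑Q)) where
  carrier := {x | ∃ (s : K × A4 → F) (a : K → A4), (∀ j, s j * s j = 1) ∧
    rep (inc (⇑Q)) x = mono (polarBilin Q) E s (blk a)}
  one_mem' := ⟨fun _ => 1, 0, fun _ => one_mul 1, by
    rw [map_one]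
    exact (mono_one hF h2 (fun _ => rfl) fun j => by simp [blk]).symm⟩
  mul_mem' := by
    rintro x y ⟨s, a, hs, hx⟩ ⟨t, b, ht, hy⟩
    refine ⟨fun j => t j * s (blk b j), a + b, fun j => ?_, ?_⟩
    · have h3 := hs (blk b j)
      have h4 := ht j
      calc t j * s (blk b j) * (t j * s (blk b j)) = (t j * t j) * (s (blk b j) * s (blk b j)) := by ring
        _ = 1 := by rw [h3, h4, one_mul]
    · rw [map_mul, hx, hy, mono_mul hF h2]
      congr 1
      funext j
      simp [blk, add_assoc]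
  inv_mem' := by
    rintro x ⟨s, a, hs, hx⟩
    refine ⟨s ∘ blk a, a, fun j => hs _, ?_⟩
    have h3 : mono (polarBilin Q) E (s ∘ blk a) (blk a) * rep (inc (⇑Q)) x = 1 := by
      rw [hx, mono_mul hF h2]
      refine mono_one hF h2 (fun j => ?_) fun j => ?_
      · show s j * s (blk a (blk a j)) = 1
        have : blk a (blk a j) = j := by
          ext <;> simp [blk, ← add_assoc, CharTwo.add_self_eq_zero]
        rw [this, hs]
      · show blk a (blk a j) = j
        ext <;> simp [blk, ← add_assoc, CharTwo.add_self_eq_zero]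
    have h4 : rep (inc (⇑Q)) x * rep (inc (⇑Q)) x⁻¹ = 1 := by rw [← map_mul, mul_inv_cancel, map_one]
    calc rep (inc (⇑Q)) x⁻¹ = (mono (polarBilin Q) E (s ∘ blk a) (blk a) * rep (inc (⇑Q)) x) * rep (inc (⇑Q)) x⁻¹ := by
          rw [h3, one_mul]
      _ = _ := by rw [mul_assoc, h4, mul_one]

theorem BG_isPGroup (h2 : (2 : F) ≠ 0) {E : K × A4 → ι → F} (hF : Frame (polarBilin Q) E) :
    IsPGroup 2 (BG h2 hF) := by
  rintro ⟨x, s, a, hs, hx⟩
  refine ⟨2, Subtype.ext ?_⟩
  show x ^ 2 ^ 2 = 1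
  apply rep_inj
  have h3 : rep (inc (⇑Q)) (x * x) = mono (polarBilin Q) E (fun j => s j * s (blk a j)) id := by
    rw [map_mul, hx, mono_mul hF h2]
    congr 1
    funext j
    ext <;> simp [blk, ← add_assoc, CharTwo.add_self_eq_zero]
  have h4 : x ^ 2 ^ 2 = (x * x) * (x * x) := by
    rw [pow_succ, pow_one, pow_mul, pow_two, pow_two]
  rw [h4, map_mul, h3, mono_mul hF h2, map_one]
  refine mono_one hF h2 (fun j => ?_) fun j => rfl
  show s j * s (blk a j) * (s j * s (blk a j)) = 1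
  calc s j * s (blk a j) * (s j * s (blk a j)) = (s j * s j) * (s (blk a j) * s (blk a j)) := by ring
    _ = 1 := by rw [hs, hs, one_mul]

/-- the frame of a block -/
def Ek (E : K × A4 → ι → F) (k : K) : A4 → ι → F := fun a => E (k, a)

theorem Ek_frame {E : K × A4 → ι → F} (hF : Frame (polarBilin Q) E) (k : K) : Frame (polarBilin Q) (Ek E k) :=
  ⟨fun _ => hF.self _, fun _ _ h => hF.orth _ _ fun h' => h (congrArg Prod.snd h')⟩

theorem RG_le_BG (h2 : (2 : F) ≠ 0) {E : K × A4 → ι → F} (hF : Frame (polarBilin Q) E) (k : K) :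
    RG Q (Ek E k) ≤ BG h2 hF := by
  have hκ : Function.Injective fun a : A4 => ((k, a) : K × A4) := fun a b h => congrArg Prod.snd h
  have hEk : Ek E k = E ∘ fun a : A4 => ((k, a) : K × A4) := rfl
  have hout : ∀ j : K × A4, (∀ a : A4, j ≠ (k, a)) → j.1 ≠ k := by
    rintro ⟨l, b⟩ h rfl
    exact h b rfl
  rw [RG, Subgroup.closure_le]
  rintro x (⟨a, -, hx⟩ | ⟨i, j, -, hx⟩)
  · refine ⟨fun _ => 1, fun l => if l = k then a else 0, fun _ => one_mul 1, ?_⟩
    rw [hx, hEk]
    refine mono_sub hκ hF h2 (fun _ => rfl) (fun b => ?_) (fun _ _ => rfl) fun j hj => ?_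
    · simp [blk]
    · simp [blk, hout j hj]
  · refine ⟨fun l => if l.1 = k then sg F i j l.2 else 1, 0, fun l => ?_, ?_⟩
    · show (if l.1 = k then sg F i j l.2 else 1) * (if l.1 = k then sg F i j l.2 else 1) = 1
      unfold sg
      split_ifs <;> ring
    · rw [hx, hEk]
      refine mono_sub hκ hF h2 (fun b => ?_) (fun b => ?_) (fun l hl => ?_) fun l hl => ?_
      · simp
      · simp [blk]
      · simp [hout l hl]
      · simp [blk]

end Cfsg.Agent.H556.Om
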