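import Mathlib.LinearAlgebra.QuadraticForm.Basic
import Mathlib.GroupTheory.SpecificGroups.Alternating

/-!
# Monomial isometries attached to orthonormal families (helper556)

`Frame f e`: `f (e i) (e i) = 2` and `f (e i) (e j) = 0` for `i ≠ j`.  `mono f e s σ` maps `e j` to `s j • e (σ j)` and
is the identity on the orthogonal complement.
-/

set_option autoImplicit false
set_option linter.unusedSectionVars false

namespace Cfsg.Agent.H556.Om

open Module

variable {F : Type*} [Field F] {V : Type*} [AddCommGroup V] [Module F V] (f : V →ₗ[F] V →ₗ[F] F)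
variable {J : Type*} [Fintype J] [DecidableEq J]

/-- orthonormal families -/
structure Frame (e : J → V) : Prop where
  self : ∀ i, f (e i) (e i) = 2
  orth : ∀ i j, i ≠ j → f (e i) (e j) = 0

/-- monomial maps -/
noncomputable def mono (e : J → V) (s : J → F) (σ : J → J) : Module.End F V :=
  1 + ∑ j, (f (e j)).smulRight ((2 : F)⁻¹ • (s j • e (σ j) - e j))

variable {f} {e : J → V} {s t : J → F} {σ τ : J → J}

theorem mono_apply (v : V) : mono f e s σ v = v + ∑ j, f (e j) v • ((2 : F)⁻¹ • (s j • e (σ j) - e j)) := by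
  simp [mono, LinearMap.add_apply, LinearMap.sum_apply]

theorem mono_orth {v : V} (h : ∀ j, f (e j) v = 0) : mono f e s σ v = v := by
  rw [mono_apply, Finset.sum_eq_zero fun j _ => by rw [h j, zero_smul], add_zero]

theorem Frame.form (hF : Frame f e) (i j : J) : f (e i) (e j) = if i = j then 2 else 0 := by
  split_ifs with h
  · rw [h, hF.self]
  · exact hF.orth i j h

theorem mono_e (hF : Frame f e) (h2 : (2 : F) ≠ 0) (j : J) : mono f e s σ (e j) = s j • e (σ j) := by
  rw [mono_apply, Finset.sum_eq_single j]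
  · rw [hF.self, smul_smul, mul_inv_cancel₀ h2, one_smul]
    abel
  · intro i _ hi
    rw [hF.orth i j hi, zero_smul]
  · intro h
    exact absurd (Finset.mem_univ j) h

theorem exists_decomp (hF : Frame f e) (h2 : (2 : F) ≠ 0) (v : V) :
    ∃ (c : J → F) (w : V), (∀ j, f (e j) w = 0) ∧ v = ∑ j, c j • e j + w := by
  refine ⟨fun j => (2 : F)⁻¹ * f (e j) v, v - ∑ j, ((2 : F)⁻¹ * f (e j) v) • e j, ?_, ?_⟩
  · intro j
    rw [map_sub, map_sum, Finset.sum_eq_single j]
    · rw [map_smul, hF.self, smul_eq_mul, mul_comm, ← mul_assoc, mul_inv_cancel₀ h2, one_mul, sub_self]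
    · intro i _ hi
      rw [map_smul, hF.orth j i hi.symm, smul_zero]
    · intro h
      exact absurd (Finset.mem_univ j) h
  · abel

theorem ext_frame (hF : Frame f e) (h2 : (2 : F) ≠ 0) {φ ψ : Module.End F V} (h1 : ∀ j, φ (e j) = ψ (e j))
    (h3 : ∀ w, (∀ j, f (e j) w = 0) → φ w = ψ w) : φ = ψ := by
  apply LinearMap.ext
  intro v
  obtain ⟨c, w, hw, rfl⟩ := exists_decomp hF h2 v
  rw [map_add, map_add, map_sum, map_sum, h3 w hw]
  congr 1
  refine Finset.sum_congr rfl fun j _ => ?_
  rw [map_smul, map_smul, h1 j]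

theorem mono_mul (hF : Frame f e) (h2 : (2 : F) ≠ 0) :
    mono f e s σ * mono f e t τ = mono f e (fun j => t j * s (τ j)) (σ ∘ τ) := by
  refine ext_frame hF h2 (fun j => ?_) fun w hw => ?_
  · rw [Module.End.mul_apply, mono_e hF h2, map_smul, mono_e hF h2, mono_e hF h2, smul_smul]
    rfl
  · rw [Module.End.mul_apply, mono_orth hw, mono_orth hw, mono_orth hw]

theorem mono_one (hF : Frame f e) (h2 : (2 : F) ≠ 0) {s : J → F} {σ : J → J} (hs : ∀ j, s j = 1) (hσ : ∀ j, σ j = j) :
    mono f e s σ = 1 := by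
  refine ext_frame hF h2 (fun j => ?_) fun w hw => ?_
  · rw [mono_e hF h2, hs, hσ, one_smul, Module.End.one_apply]
  · rw [mono_orth hw, Module.End.one_apply]

theorem frame_smul (hF : Frame f e) (hs : ∀ j, s j * s j = 1) (hσ : Function.Injective σ) :
    Frame f (fun j => s j • e (σ j)) := by
  refine ⟨fun i => ?_, fun i j hij => ?_⟩
  · rw [map_smul, map_smul, LinearMap.smul_apply, hF.self, smul_eq_mul, smul_eq_mul, ← mul_assoc, hs, one_mul]
  · rw [map_smul, map_smul, LinearMap.smul_apply, hF.orth _ _ (fun h => hij (hσ h)), smul_zero, smul_zero]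

theorem frame_form (hsym : ∀ u v, f u v = f v u) (hF : Frame f e) (c d : J → F) {v w : V}
    (hv : ∀ j, f (e j) v = 0) (hw : ∀ j, f (e j) w = 0) :
    f (∑ j, c j • e j + v) (∑ j, d j • e j + w) = ∑ j, 2 * (c j * d j) + f v w := by
  have h1 : ∀ x : V, (∀ j, f (e j) x = 0) → f (∑ j, c j • e j) x = 0 := by
    intro x hx
    rw [map_sum, LinearMap.sum_apply, Finset.sum_eq_zero]
    intro j _
    rw [map_smul, LinearMap.smul_apply, hx j, smul_zero]
  have h2 : f v (∑ j, d j • e j) = 0 := by
    rw [map_sum, Finset.sum_eq_zero]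
    intro j _
    rw [map_smul, hsym, hv j, smul_zero]
  rw [map_add, map_add, LinearMap.add_apply, LinearMap.add_apply, h2, h1 w hw, add_zero, zero_add]
  congr 1
  rw [map_sum]
  refine Finset.sum_congr rfl fun i _ => ?_
  rw [map_smul, map_sum, LinearMap.sum_apply, Finset.sum_eq_single i]
  · rw [map_smul, LinearMap.smul_apply, hF.self, smul_eq_mul, smul_eq_mul]
    ring
  · intro j _ hj
    rw [map_smul, LinearMap.smul_apply, hF.orth j i hj, smul_zero]
  · intro h
    exact absurd (Finset.mem_univ i) h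

/-- monomial maps are isometries -/
theorem mono_form (hsym : ∀ u v, f u v = f v u) (hF : Frame f e) (h2 : (2 : F) ≠ 0) (hs : ∀ j, s j * s j = 1)
    (hσ : Function.Injective σ) (u v : V) : f (mono f e s σ u) (mono f e s σ v) = f u v := by
  have hbij : Function.Bijective σ := Finite.injective_iff_bijective.mp hσ
  obtain ⟨c, u', hu', rfl⟩ := exists_decomp hF h2 u
  obtain ⟨d, v', hv', rfl⟩ := exists_decomp hF h2 v
  have hF' := frame_smul hF hs hσ
  have h3 : ∀ (c : J → F) (w : V), (∀ j, f (e j) w = 0) → mono f e s σ (∑ j, c j • e j + w) =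
      ∑ j, c j • (s j • e (σ j)) + w := by
    intro c w hw
    rw [map_add, map_sum, mono_orth hw]
    congr 1
    refine Finset.sum_congr rfl fun j _ => ?_
    rw [map_smul, mono_e hF h2]
  have h4 : ∀ w : V, (∀ j, f (e j) w = 0) → ∀ j, f (s j • e (σ j)) w = 0 := by
    intro w hw j
    rw [map_smul, LinearMap.smul_apply, hw, smul_zero]
  rw [h3 c u' hu', h3 d v' hv', frame_form hsym hF' c d (h4 u' hu') (h4 v' hv'), frame_form hsym hF c d hu' hv']

/-- translates of frames -/
theorem mono_comp {g g' : Module.End F V} (hg : ∀ u v, f (g u) v = f u (g' v)) (hgg : ∀ v, g (g' v) = v) (v : V) :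
    mono f (fun j => g (e j)) s σ v = g (mono f e s σ (g' v)) := by
  rw [mono_apply, mono_apply, map_add, map_sum, hgg]
  congr 1
  refine Finset.sum_congr rfl fun j _ => ?_
  rw [hg, map_smul, map_smul, map_sub, map_smul]

theorem Frame.comp (hF : Frame f e) {K : Type*} [Fintype K] [DecidableEq K] {κ : K → J} (hκ : Function.Injective κ) :
    Frame f (e ∘ κ) :=
  ⟨fun _ => hF.self _, fun _ _ h => hF.orth _ _ fun h' => h (hκ h')⟩

theorem Frame.map (hF : Frame f e) {g : V → V} (hg : ∀ u v, f (g u) (g v) = f u v) : Frame f (fun j => g (e j)) :=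
  ⟨fun i => by rw [hg, hF.self], fun i j h => by rw [hg, hF.orth i j h]⟩

/-- a monomial map on part of a frame -/
theorem mono_sub {K : Type*} [Fintype K] [DecidableEq K] {κ : K → J} (hκ : Function.Injective κ)
    (hF : Frame f e) (h2 : (2 : F) ≠ 0) {s : K → F} {σ : K → K} {s' : J → F} {σ' : J → J}
    (hs : ∀ k, s' (κ k) = s k) (hσ : ∀ k, σ' (κ k) = κ (σ k)) (hs' : ∀ j, (∀ k, j ≠ κ k) → s' j = 1)
    (hσ' : ∀ j, (∀ k, j ≠ κ k) → σ' j = j) : mono f (e ∘ κ) s σ = mono f e s' σ' := by
  refine ext_frame hF h2 (fun j => ?_) fun w hw => ?_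
  · rw [mono_e hF h2]
    by_cases hj : ∃ k, j = κ k
    · obtain ⟨k, rfl⟩ := hj
      rw [hs, hσ]
      exact mono_e (hF.comp hκ) h2 k
    · push Not at hj
      rw [hs' j hj, hσ' j hj, one_smul]
      exact mono_orth (e := e ∘ κ) fun k => hF.orth _ _ (hj k).symm
  · rw [mono_orth hw]
    exact mono_orth (e := e ∘ κ) fun k => hw (κ k)

/-- coordinates -/
theorem Frame.eq_zero (hF : Frame f e) (h2 : (2 : F) ≠ 0) {c : J → F} (h : ∑ j, c j • e j = 0) (j : J) : c j = 0 := by
  have h1 := congrArg (f (e j)) h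
  rw [map_sum, map_zero, Finset.sum_eq_single j] at h1
  · rw [map_smul, hF.self, smul_eq_mul] at h1
    exact (mul_eq_zero.mp h1).resolve_right h2
  · intro i _ hi
    rw [map_smul, hF.orth j i hi.symm, smul_zero]
  · intro h
    exact absurd (Finset.mem_univ j) h

theorem Frame.linearIndependent (hF : Frame f e) (h2 : (2 : F) ≠ 0) : LinearIndependent F e := by
  rw [Fintype.linearIndependent_iff]
  exact fun c hc j => hF.eq_zero h2 hc j

end Cfsg.Agent.H556.Om
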