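import Cfsg.Agent.H556.OmGrp

/-!
# `RG Q e` satisfies `QR` (helper556)
-/

set_option autoImplicit false
set_option linter.unusedSectionVars false

namespace Cfsg.Agent.H556.Om

open Module QuadraticMap Cfsg.Agent.H167.OP Cfsg.Agent.H170.HL Cfsg.Agent.H170.HL.OmRow Cfsg.Agent.H170.Fl

variable {F : Type*} [Field F] {ι : Type} [Fintype ι] [DecidableEq ι] {Q : QuadraticForm F (ι → F)}
variable {e : A4 → ι → F}

theorem sign_addLeft (a : A4) : Equiv.Perm.sign (Equiv.addLeft a) = 1 := by
  revert a
  decide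

theorem exists_T (hQ : GoodQ Q) (h2 : (2 : F) ≠ 0) (hF : Frame (polarBilin Q) e) (a : A4) :
    ∃ x ∈ RG Q e, rep (inc (⇑Q)) x = mono (polarBilin Q) e (fun _ => 1) (a + ·) := by
  by_cases ha : a = 0
  · refine ⟨1, Subgroup.one_mem _, ?_⟩
    rw [map_one]
    exact (mono_one hF h2 (fun _ => rfl) fun j => by simp [ha]).symm
  · obtain ⟨x, hx⟩ := exists_perm hQ h2 hF (sign_addLeft a)
    exact ⟨x, Subgroup.subset_closure (Or.inl ⟨a, ha, hx⟩), hx⟩

theorem exists_D (hQ : GoodQ Q) (h2 : (2 : F) ≠ 0) (hF : Frame (polarBilin Q) e) {i j : A4} (hij : i ≠ j) :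
    ∃ x ∈ RG Q e, rep (inc (⇑Q)) x = mono (polarBilin Q) e (sg F i j) id := by
  obtain ⟨x, hx⟩ := exists_sg hQ h2 hF hij
  exact ⟨x, Subgroup.subset_closure (Or.inr ⟨i, j, hij, hx⟩), hx⟩

theorem prod_sg {i j : A4} (hij : i ≠ j) : ∏ k, sg F i j k = 1 := by
  have h1 : ∀ k, sg F i j k = (if k = i then -1 else 1) * (if k = j then -1 else 1) := by
    intro k
    unfold sg
    by_cases h3 : k = i
    · subst h3
      rw [if_pos (Or.inl rfl), if_pos rfl, if_neg hij, mul_one]
    · by_cases h4 : k = j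
      · subst h4
        rw [if_pos (Or.inr rfl), if_neg h3, if_pos rfl, one_mul]
      · rw [if_neg (by tauto), if_neg h3, if_neg h4, one_mul]
  rw [Finset.prod_congr rfl fun k _ => h1 k, Finset.prod_mul_distrib, Finset.prod_ite_eq', Finset.prod_ite_eq',
    if_pos (Finset.mem_univ _), if_pos (Finset.mem_univ _)]
  ring

/-- the shape of the elements -/
theorem shape (h2 : (2 : F) ≠ 0) (hF : Frame (polarBilin Q) e) {x : Cfsg.Omega F (⇑Q)} (hx : x ∈ RG Q e) :
    ∃ (s : A4 → F) (a : A4), (∀ j, s j * s j = 1) ∧ ∏ j, s j = 1 ∧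
      rep (inc (⇑Q)) x = mono (polarBilin Q) e s (a + ·) := by
  induction hx using Subgroup.closure_induction with
  | mem x hx =>
    rcases hx with ⟨a, -, hx⟩ | ⟨i, j, hij, hx⟩
    · exact ⟨fun _ => 1, a, fun _ => one_mul 1, by simp, hx⟩
    · refine ⟨sg F i j, 0, fun k => ?_, prod_sg hij, ?_⟩
      · unfold sg
        split_ifs <;> ring
      · rw [hx]
        congr 1
        funext k
        simp
  | one =>
    refine ⟨fun _ => 1, 0, fun _ => one_mul 1, by simp, ?_⟩
    rw [map_one]
    exact (mono_one hF h2 (fun _ => rfl) fun j => by simp).symm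
  | mul x y _ _ ihx ihy =>
    obtain ⟨s, a, hs, hs1, hx⟩ := ihx
    obtain ⟨t, b, ht, ht1, hy⟩ := ihy
    refine ⟨fun j => t j * s (b + j), a + b, fun j => ?_, ?_, ?_⟩
    · calc t j * s (b + j) * (t j * s (b + j)) = (t j * t j) * (s (b + j) * s (b + j)) := by ring
        _ = 1 := by rw [hs, ht, one_mul]
    · rw [Finset.prod_mul_distrib, ht1, one_mul, ← hs1]
      exact Equiv.prod_comp (Equiv.addLeft b) s
    · rw [map_mul, hx, hy, mono_mul hF h2]
      congr 1
      funext j
      simp [add_assoc]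
  | inv x _ ih =>
    obtain ⟨s, a, hs, hs1, hx⟩ := ih
    refine ⟨fun j => s (a + j), a, fun j => hs _, ?_, ?_⟩
    · rw [← hs1]
      exact Equiv.prod_comp (Equiv.addLeft a) s
    · have h3 : mono (polarBilin Q) e (fun j => s (a + j)) (a + ·) * rep (inc (⇑Q)) x = 1 := by
        rw [hx, mono_mul hF h2]
        refine mono_one hF h2 (fun j => ?_) fun j => ?_
        · show s j * s (a + (a + j)) = 1
          rw [← add_assoc, CharTwo.add_self_eq_zero, zero_add, hs]
        · show a + (a + j) = j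
          rw [← add_assoc, CharTwo.add_self_eq_zero, zero_add]
      have h4 : rep (inc (⇑Q)) x * rep (inc (⇑Q)) x⁻¹ = 1 := by rw [← map_mul, mul_inv_cancel, map_one]
      calc rep (inc (⇑Q)) x⁻¹ = (mono (polarBilin Q) e (fun j => s (a + j)) (a + ·) * rep (inc (⇑Q)) x) *
            rep (inc (⇑Q)) x⁻¹ := by rw [h3, one_mul]
        _ = _ := by rw [mul_assoc, h4, mul_one]

theorem exists_b : ∀ a : A4, a ≠ 0 → ∃ b : A4, b ≠ 0 ∧ b ≠ a ∧ ∀ j : A4, j = 0 ∨ j = a ∨ j = b ∨ j = a + b := by
  decide

theorem const_aux {s : A4 → F} (hs : ∀ j, s j * s j = 1) (hs1 : ∏ j, s j = 1) (a : A4) :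
    ∃ c : F, (c = 1 ∨ c = -1) ∧ ∀ j, s j * s (a + j) = c := by
  have hs' : ∀ j, s j = 1 ∨ s j = -1 := fun j => mul_self_eq_one_iff.mp (hs j)
  have hp : s (0, 0) * s (0, 1) * (s (1, 0) * s (1, 1)) = 1 := by
    rw [← hs1, Fintype.prod_prod_type]
    show _ = ∏ x : Fin 2, ∏ y : Fin 2, s (x, y)
    rw [Fin.prod_univ_two, Fin.prod_univ_two, Fin.prod_univ_two]
    rfl
  have h3 : ∀ i j : A4, s i * s j = 1 ∨ s i * s j = -1 := by
    intro i j
    apply mul_self_eq_one_iff.mp
    calc s i * s j * (s i * s j) = (s i * s i) * (s j * s j) := by ring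
      _ = 1 := by rw [hs, hs, one_mul]
  have h4 : ∀ x y z w : F, x * x = 1 → y * y = 1 → z * z = 1 → w * w = 1 → x * y * (z * w) = 1 → x * y = z * w := by
    intro x y z w hx hy hz hw h
    have h5 : x * y * (z * w) * (z * w) = z * w := by rw [h, one_mul]
    calc x * y = x * y * (z * z) * (w * w) := by rw [hz, hw]; ring
      _ = x * y * (z * w) * (z * w) := by ring
      _ = z * w := h5
  have h00 := hs (0, 0)
  have h01 := hs (0, 1)
  have h10 := hs (1, 0)
  have h11 := hs (1, 1)
  have e1 := h4 _ _ _ _ h00 h01 h10 h11 hp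
  have e2 := h4 _ _ _ _ h00 h10 h01 h11 (by rw [← hp]; ring)
  have e3 := h4 _ _ _ _ h00 h11 h01 h10 (by rw [← hp]; ring)
  refine ⟨s 0 * s a, h3 _ _, fun j => ?_⟩
  have key : ∀ a j : A4, s j * s (a + j) = s 0 * s a := by
    have k00 : ((0, 0) : A4) = 0 := rfl
    rintro ⟨a1, a2⟩ ⟨j1, j2⟩
    rw [← k00]
    fin_cases a1 <;> fin_cases a2 <;> fin_cases j1 <;> fin_cases j2
    all_goals
      first
      | exact (h00).trans h00.symm
      | exact (h01).trans h00.symm
      | exact (h10).trans h00.symm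
      | exact (h11).trans h00.symm
      | rfl
      | exact mul_comm _ _
      | exact e1.symm
      | exact (mul_comm _ _).trans e1.symm
      | exact e2.symm
      | exact (mul_comm _ _).trans e2.symm
      | exact e3.symm
      | exact (mul_comm _ _).trans e3.symm
  exact key a j

theorem CV_RG (hQ : GoodQ Q) (h2 : (2 : F) ≠ 0) (hF : Frame (polarBilin Q) e) :
    CV (rep (inc (⇑Q))) (RG Q e) = Submodule.span F (Set.range e) := by
  apply le_antisymm
  · refine CV_le fun x hx => ?_
    obtain ⟨s, a, -, -, hx⟩ := shape h2 hF hx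
    rintro _ ⟨v, rfl⟩
    have h3 : (rep (inc (⇑Q)) x - 1) v = ∑ j, polarBilin Q (e j) v • ((2 : F)⁻¹ • (s j • e (a + j) - e j)) := by
      show rep (inc (⇑Q)) x v - v = _
      rw [hx, mono_apply]
      abel
    rw [h3]
    refine Submodule.sum_mem _ fun j _ => Submodule.smul_mem _ _ (Submodule.smul_mem _ _ (Submodule.sub_mem _ ?_ ?_))
    · exact Submodule.smul_mem _ _ (Submodule.subset_span ⟨_, rfl⟩)
    · exact Submodule.subset_span ⟨_, rfl⟩
  · rw [Submodule.span_le]
    rintro _ ⟨i, rfl⟩
    obtain ⟨j, hj⟩ : ∃ j : A4, i ≠ j := by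
      obtain ⟨j, hj⟩ := exists_ne i
      exact ⟨j, hj.symm⟩
    obtain ⟨x, hx, hxr⟩ := exists_D hQ h2 hF hj
    have h3 := sub_mem_CV (rep (inc (⇑Q))) hx (e i)
    rw [hxr, mono_e hF h2] at h3
    have h4 : sg F i j i • e (id i) - e i = (-2 : F) • e i := by
      have : sg F i j i = -1 := if_pos (Or.inl rfl)
      rw [this]
      show (-1 : F) • e i - e i = _
      module
    rw [h4] at h3
    have h5 := (CV (rep (inc (⇑Q))) (RG Q e)).smul_mem (-2 : F)⁻¹ h3
    rwa [smul_smul, inv_mul_cancel₀ (neg_ne_zero.mpr h2), one_smul] at h5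

theorem D_sub (h2 : (2 : F) ≠ 0) {i j : A4} (hij : i ≠ j) (u : ι → F) :
    u - mono (polarBilin Q) e (sg F i j) id u = polarBilin Q (e i) u • e i + polarBilin Q (e j) u • e j := by
  rw [mono_apply]
  have h1 : ∀ k, polarBilin Q (e k) u • ((2 : F)⁻¹ • (sg F i j k • e (id k) - e k)) =
      (if k = i then -(polarBilin Q (e k) u • e k) else 0) + (if k = j then -(polarBilin Q (e k) u • e k) else 0) := by
    intro k
    have h3 : (2 : F)⁻¹ • ((-1 : F) • e k - e k) = -e k := by
      have : (-1 : F) • e k - e k = (2 : F) • (-e k) := by module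
      rw [this, smul_smul, inv_mul_cancel₀ h2, one_smul]
    by_cases h4 : k = i
    · subst h4
      have h5 : sg F k j k = -1 := if_pos (Or.inl rfl)
      rw [if_pos rfl, if_neg hij, h5, id, h3, add_zero, smul_neg]
    · by_cases h6 : k = j
      · subst h6
        have h5 : sg F i k k = -1 := if_pos (Or.inr rfl)
        rw [if_pos rfl, if_neg h4, h5, id, h3, zero_add, smul_neg]
      · have h5 : sg F i j k = 1 := if_neg (by tauto)
        rw [if_neg h4, if_neg h6, h5, id, one_smul, sub_self, smul_zero, smul_zero, add_zero]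
  rw [Finset.sum_congr rfl fun k _ => h1 k, Finset.sum_add_distrib, Finset.sum_ite_eq', Finset.sum_ite_eq',
    if_pos (Finset.mem_univ _), if_pos (Finset.mem_univ _)]
  abel

theorem exists_three (i : A4) : ∃ j k : A4, i ≠ j ∧ i ≠ k ∧ j ≠ k := by
  revert i
  decide

/-- the projections -/
theorem proj (h2 : (2 : F) ≠ 0) (hF : Frame (polarBilin Q) e) {i j k : A4} (hij : i ≠ j) (hik : i ≠ k) (hjk : j ≠ k)
    (u : ι → F) :
    (u - mono (polarBilin Q) e (sg F i j) id u) - mono (polarBilin Q) e (sg F i k) id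
      (u - mono (polarBilin Q) e (sg F i j) id u) = (2 * polarBilin Q (e i) u) • e i := by
  rw [D_sub h2 hik, D_sub h2 hij]
  have h3 : polarBilin Q (e i) (polarBilin Q (e i) u • e i + polarBilin Q (e j) u • e j) = 2 * polarBilin Q (e i) u := by
    rw [map_add, map_smul, map_smul, hF.self, hF.orth i j hij, smul_zero, add_zero, smul_eq_mul, mul_comm]
  have h4 : polarBilin Q (e k) (polarBilin Q (e i) u • e i + polarBilin Q (e j) u • e j) = 0 := by
    rw [map_add, map_smul, map_smul, hF.orth k i hik.symm, hF.orth k j hjk.symm, smul_zero, smul_zero, add_zero]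
  rw [h3, h4, zero_smul, add_zero]

theorem finrank_pair_le (x y : ι → F) : finrank F (Submodule.span F ({x, y} : Set (ι → F))) ≤ 2 := by
  classical
  have h1 := finrank_span_le_card (R := F) ({x, y} : Set (ι → F))
  refine h1.trans ?_
  rw [Set.toFinset_insert, Set.toFinset_singleton]
  exact Finset.card_le_two

/-- **the structure of `RG`** -/
theorem qr (hQ : GoodQ Q) (h2 : (2 : F) ≠ 0) (hF : Frame (polarBilin Q) e) : QR (rep (inc (⇑Q))) (RG Q e) where
  pg := by
    let E : Unit × A4 → ι → F := fun j => e j.2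
    have hE : Frame (polarBilin Q) E :=
      ⟨fun _ => hF.self _, fun i j h => hF.orth _ _ fun h' => h (Prod.ext rfl h')⟩
    exact (BG_isPGroup h2 hE).to_le (RG_le_BG h2 hE ())
  dim := by
    rw [CV_RG hQ h2 hF, finrank_span_eq_card (hF.linearIndependent h2)]
    rfl
  irr := by
    intro M hM hinv
    rw [CV_RG hQ h2 hF] at hM ⊢
    by_cases h0 : M = ⊥
    · exact Or.inl h0
    refine Or.inr (le_antisymm hM ?_)
    obtain ⟨m, hmM, hm0⟩ := Submodule.exists_mem_ne_zero_of_ne_bot h0
    obtain ⟨i, hi⟩ : ∃ i, polarBilin Q (e i) m ≠ 0 := by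
      by_contra hcon
      push Not at hcon
      apply hm0
      obtain ⟨c, hc⟩ := (Submodule.mem_span_range_iff_exists_fun F).mp (hM hmM)
      rw [← hc]
      refine Finset.sum_eq_zero fun j _ => ?_
      have h3 := hcon j
      rw [← hc, map_sum, Finset.sum_eq_single j] at h3
      · rw [map_smul, hF.self, smul_eq_mul] at h3
        rw [(mul_eq_zero.mp h3).resolve_right h2, zero_smul]
      · intro k _ hk
        rw [map_smul, hF.orth j k hk.symm, smul_zero]
      · intro h
        exact absurd (Finset.mem_univ j) h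
    obtain ⟨j, k, hij, hik, hjk⟩ := exists_three i
    obtain ⟨x, hx, hxr⟩ := exists_D hQ h2 hF hij
    obtain ⟨y, hy, hyr⟩ := exists_D hQ h2 hF hik
    have h4 : m - rep (inc (⇑Q)) x m ∈ M := M.sub_mem hmM (hinv x hx m hmM)
    have h5 : (m - rep (inc (⇑Q)) x m) - rep (inc (⇑Q)) y (m - rep (inc (⇑Q)) x m) ∈ M :=
      M.sub_mem h4 (hinv y hy _ h4)
    rw [hxr, hyr, proj h2 hF hij hik hjk] at h5
    have h6 : e i ∈ M := by
      have h7 := M.smul_mem (2 * polarBilin Q (e i) m)⁻¹ h5
      rwa [smul_smul, inv_mul_cancel₀ (mul_ne_zero h2 hi), one_smul] at h7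
    rw [Submodule.span_le]
    rintro _ ⟨l, rfl⟩
    obtain ⟨z, hz, hzr⟩ := exists_T hQ h2 hF (l - i)
    have h8 := hinv z hz _ h6
    rw [hzr, mono_e hF h2, one_smul] at h8
    simpa using h8
  sq := by
    intro x hx
    obtain ⟨s, a, hs, hs1, hx⟩ := shape h2 hF hx
    obtain ⟨c, hc, hcj⟩ := const_aux hs hs1 a
    have h3 : ∀ u ∈ CV (rep (inc (⇑Q))) (RG Q e), rep (inc (⇑Q)) (x * x) u = c • u := by
      intro u hu
      rw [CV_RG hQ h2 hF] at hu
      have h4 : rep (inc (⇑Q)) (x * x) = mono (polarBilin Q) e (fun _ => c) id := by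
        rw [map_mul, hx, mono_mul hF h2]
        congr 1
        · funext j
          exact hcj j
        · funext j
          show a + (a + j) = j
          rw [← add_assoc, CharTwo.add_self_eq_zero, zero_add]
      rw [h4]
      induction hu using Submodule.span_induction with
      | mem u hu =>
        obtain ⟨j, rfl⟩ := hu
        rw [mono_e hF h2, id]
      | zero => rw [map_zero, smul_zero]
      | add u v _ _ h5 h6 => rw [map_add, h5, h6, smul_add]
      | smul d u _ h5 => rw [map_smul, h5, smul_comm]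
    rcases hc with rfl | rfl
    · exact Or.inl fun u hu => by rw [h3 u hu, one_smul]
    · exact Or.inr fun u hu => by rw [h3 u hu, neg_smul, one_smul]
  gen := by
    refine ⟨_, rfl, ?_⟩
    rintro x (⟨a, ha, hx⟩ | ⟨i, j, hij, hx⟩)
    · constructor
      · apply rep_inj
        rw [map_mul, hx, mono_mul hF h2, map_one]
        refine mono_one hF h2 (fun _ => one_mul 1) fun j => ?_
        show a + (a + j) = j
        rw [← add_assoc, CharTwo.add_self_eq_zero, zero_add]
      · obtain ⟨b, hb0, hba, hb⟩ := exists_b a ha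
        refine le_trans (Submodule.finrank_mono (t := Submodule.span F {e a - e 0, e (a + b) - e b}) ?_)
          (finrank_pair_le _ _)
        rintro _ ⟨v, rfl⟩
        have h3 : (rep (inc (⇑Q)) x - 1) v =
            ∑ j, polarBilin Q (e j) v • ((2 : F)⁻¹ • ((1 : F) • e (a + j) - e j)) := by
          show rep (inc (⇑Q)) x v - v = _
          rw [hx, mono_apply]
          abel
        rw [h3]
        refine Submodule.sum_mem _ fun j _ => Submodule.smul_mem _ _ (Submodule.smul_mem _ _ ?_)
        rw [one_smul]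
        have m1 : e a - e 0 ∈ Submodule.span F {e a - e 0, e (a + b) - e b} := Submodule.subset_span (Or.inl rfl)
        have m2 : e (a + b) - e b ∈ Submodule.span F {e a - e 0, e (a + b) - e b} :=
          Submodule.subset_span (Or.inr rfl)
        rcases hb j with h | h | h | h
        · rw [h, add_zero]; exact m1
        · rw [h, CharTwo.add_self_eq_zero, ← neg_sub (e a) (e 0)]; exact Submodule.neg_mem _ m1
        · rw [h]; exact m2
        · rw [h, ← add_assoc, CharTwo.add_self_eq_zero, zero_add, ← neg_sub (e (a + b)) (e b)]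
          exact Submodule.neg_mem _ m2
    · constructor
      · apply rep_inj
        rw [map_mul, hx, mono_mul hF h2, map_one]
        refine mono_one hF h2 (fun k => ?_) fun j => rfl
        show sg F i j k * sg F i j k = 1
        unfold sg
        split_ifs <;> ring
      · refine le_trans (Submodule.finrank_mono (t := Submodule.span F {e i, e j}) ?_)
          (finrank_pair_le _ _)
        rintro _ ⟨v, rfl⟩
        have h3 : (rep (inc (⇑Q)) x - 1) v = -(v - rep (inc (⇑Q)) x v) := by
          show rep (inc (⇑Q)) x v - v = _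
          abel
        rw [h3, hx, D_sub h2 hij]
        exact Submodule.neg_mem _ (Submodule.add_mem _ (Submodule.smul_mem _ _ (Submodule.subset_span (Or.inl rfl)))
          (Submodule.smul_mem _ _ (Submodule.subset_span (Or.inr rfl))))
  scal := by
    intro φ hφ
    have hc : ∀ i, φ (e i) = ((2 : F)⁻¹ * polarBilin Q (e i) (φ (e i))) • e i := by
      intro i
      obtain ⟨j, k, hij, hik, hjk⟩ := exists_three i
      obtain ⟨x, hx, hxr⟩ := exists_D hQ h2 hF hij
      obtain ⟨y, hy, hyr⟩ := exists_D hQ h2 hF hik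
      have h4 := proj h2 hF hij hik hjk (e i)
      have h5 := proj h2 hF hij hik hjk (φ (e i))
      rw [← hxr, ← hyr] at h4 h5
      have h6 := congrArg φ h4
      rw [map_sub, map_sub, hφ x hx, hφ y hy, map_sub, hφ x hx, h5, map_smul, hF.self] at h6
      have h7 := congrArg (fun w => ((2 : F) * 2)⁻¹ • w) h6
      simp only [smul_smul] at h7
      rw [inv_mul_cancel₀ (mul_ne_zero h2 h2), one_smul] at h7
      refine h7.symm.trans ?_
      congr 1
      field_simp
    have hc' : ∀ i, φ (e i) = ((2 : F)⁻¹ * polarBilin Q (e 0) (φ (e 0))) • e i := by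
      intro i
      obtain ⟨z, hz, hzr⟩ := exists_T hQ h2 hF i
      have h3 := hφ z hz (e 0)
      rw [hzr, mono_e hF h2, one_smul, add_zero] at h3
      rw [h3]
      conv_lhs => rw [hc 0, map_smul, mono_e hF h2, one_smul, add_zero]
    refine ⟨(2 : F)⁻¹ * polarBilin Q (e 0) (φ (e 0)), fun u hu => ?_⟩
    rw [CV_RG hQ h2 hF] at hu
    induction hu using Submodule.span_induction with
    | mem u hu =>
      obtain ⟨j, rfl⟩ := hu
      exact hc' j
    | zero => rw [map_zero, smul_zero]
    | add u v _ _ h5 h6 => rw [map_add, h5, h6, smul_add]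
    | smul d u _ h5 => rw [map_smul, h5, smul_comm]

end Cfsg.Agent.H556.Om
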