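import Cfsg.Agent.H556.SLPair
import Cfsg.Agent.ClassicalGeometry.PSL2Basic

/-!
# `(SL(2,F) ∘ SL(2,F)).2`: order and classes of involutions

`Pair F Γ`: two commuting homomorphisms `φ`, `ψ` of `SL(2,F)` to `Γ` with `φ(-1) = ψ(-1) ≠ 1` and an
involution `d` acting on both images as the outer diagonal automorphism `delta ε`, `ε` not a square.
The subgroup `K = (im φ) (im ψ) ⟨d⟩` has order `|SL(2,F)|²` and at most three classes of involutions.
-/

set_option autoImplicit false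

namespace Cfsg.Agent.H556.SLPair

open Matrix
open Cfsg.Agent.GTwoOdd (M2 SL2 m2_ext sl2_ext m2_sq m2_sq_of_trace exists_sl_conj cancel_right
  trace_of_sq_scalar m2_mul_00 m2_mul_01 m2_mul_10 m2_mul_11 det_smul2)
open Cfsg.Agent.ChevalleyStructure.SL2Hom (up lo mem_closure_SL2)
open Cfsg.Agent.ClassificationK.GTwoSL (delta coe_delta)
open Cfsg.Agent.ClassificationK.GTwoChev (wsl coe_wsl wsl_sq wsl_up wsl_lo)

variable {F : Type*} [Field F] {Γ : Type*} [Group Γ]

theorem sl_mul_coe (a b : SL2 F) : ((a * b : SL2 F) : M2 F) = (a : M2 F) * (b : M2 F) := rfl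

theorem neg_one_coe : ((-1 : SL2 F) : M2 F) = -1 := by
  simp

/-- `a² = 1` in `SL(2,F)` -/
theorem eq_of_sq_one (h2 : (2 : F) ≠ 0) {a : SL2 F} (h : a * a = 1) : a = 1 ∨ a = -1 := by
  have hd := a.2
  rw [Matrix.det_fin_two] at hd
  have h' : (a : M2 F) * (a : M2 F) = 1 := congrArg Subtype.val h
  have e00 := congrFun (congrFun h' 0) 0
  have e01 := congrFun (congrFun h' 0) 1
  have e10 := congrFun (congrFun h' 1) 0
  have e11 := congrFun (congrFun h' 1) 1
  rw [m2_mul_00] at e00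
  rw [m2_mul_01] at e01
  rw [m2_mul_10] at e10
  rw [m2_mul_11] at e11
  simp only [Matrix.one_apply_eq, ne_eq, zero_ne_one, not_false_eq_true, Matrix.one_apply_ne,
    one_ne_zero] at e00 e01 e10 e11
  have hne : (a : M2 F) 0 0 + (a : M2 F) 1 1 ≠ 0 := by
    intro h0
    apply h2
    linear_combination ((a : M2 F) 0 0) * h0 - e00 - hd
  have h01 : (a : M2 F) 0 1 = 0 := by
    have : (a : M2 F) 0 1 * ((a : M2 F) 0 0 + (a : M2 F) 1 1) = 0 := by linear_combination e01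
    exact (mul_eq_zero.1 this).resolve_right hne
  have h10 : (a : M2 F) 1 0 = 0 := by
    have : (a : M2 F) 1 0 * ((a : M2 F) 0 0 + (a : M2 F) 1 1) = 0 := by linear_combination e10
    exact (mul_eq_zero.1 this).resolve_right hne
  have h3 : ((a : M2 F) 0 0 - 1) * ((a : M2 F) 0 0 + 1) = 0 := by
    rw [h01] at e00
    linear_combination e00
  rw [h01, zero_mul, sub_zero] at hd
  rcases mul_eq_zero.1 h3 with h4 | h4
  · left
    have h5 : (a : M2 F) 0 0 = 1 := by linear_combination h4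
    have h6 : (a : M2 F) 1 1 = 1 := by rw [h5, one_mul] at hd; exact hd
    apply sl2_ext <;> simp [h5, h6, h01, h10]
  · right
    have h5 : (a : M2 F) 0 0 = -1 := by linear_combination h4
    have h6 : (a : M2 F) 1 1 = -1 := by rw [h5] at hd; linear_combination -hd
    apply sl2_ext <;> simp [h5, h6, h01, h10]

/-- the centre of `SL(2,F)` -/
theorem eq_of_comm {a : SL2 F} (h : ∀ x : SL2 F, a * x = x * a) :
    a = 1 ∨ a = -1 := by
  have hd := a.2
  rw [Matrix.det_fin_two] at hd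
  have hu : (a : M2 F) * ((up 1 : SL2 F) : M2 F) = ((up 1 : SL2 F) : M2 F) * (a : M2 F) :=
    congrArg Subtype.val (h (up 1))
  have hl : (a : M2 F) * ((lo 1 : SL2 F) : M2 F) = ((lo 1 : SL2 F) : M2 F) * (a : M2 F) :=
    congrArg Subtype.val (h (lo 1))
  rw [coe_up] at hu
  rw [coe_lo] at hl
  have u00 := congrFun (congrFun hu 0) 0
  have u01 := congrFun (congrFun hu 0) 1
  have l00 := congrFun (congrFun hl 0) 0
  rw [m2_mul_00, m2_mul_00] at u00 l00
  rw [m2_mul_01, m2_mul_01] at u01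
  simp at u00 u01 l00
  have h10 : (a : M2 F) 1 0 = 0 := u00
  have h01 : (a : M2 F) 0 1 = 0 := l00
  have h11 : (a : M2 F) 0 0 = (a : M2 F) 1 1 := by linear_combination u01
  rw [h01, zero_mul, sub_zero, ← h11] at hd
  have h3 : ((a : M2 F) 0 0 - 1) * ((a : M2 F) 0 0 + 1) = 0 := by linear_combination hd
  rcases mul_eq_zero.1 h3 with h4 | h4
  · left
    have h5 : (a : M2 F) 0 0 = 1 := by linear_combination h4
    have h6 : (a : M2 F) 1 1 = 1 := by rw [← h11]; exact h5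
    apply sl2_ext <;> simp [h5, h6, h01, h10]
  · right
    have h5 : (a : M2 F) 0 0 = -1 := by linear_combination h4
    have h6 : (a : M2 F) 1 1 = -1 := by rw [← h11]; exact h5
    apply sl2_ext <;> simp [h5, h6, h01, h10]

theorem trace_of_sq_neg {a : SL2 F} (h : a * a = -1) : (a : M2 F).trace = 0 := by
  have h' : (a : M2 F) * (a : M2 F) = -1 := by
    have := congrArg Subtype.val h
    rw [neg_one_coe] at this
    exact this
  rw [m2_sq, a.2, one_smul] at h'
  have h3 : (a : M2 F).trace • (a : M2 F) = 0 := by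
    have := congrArg (· + (1 : M2 F)) h'
    simpa using this
  by_contra h0
  have h4 : (a : M2 F) = 0 := by
    rcases smul_eq_zero.1 h3 with h | h
    · exact absurd h h0
    · exact h
  have := a.2
  rw [h4] at this
  simp at this

/-- the matrix inducing `delta ε` -/
def dM (ε : Fˣ) : M2 F := !![0, -(ε : F); 1, 0]

theorem det_dM (ε : Fˣ) : (dM ε).det = ε := by
  simp [dM, Matrix.det_fin_two_of]

theorem trace_dM (ε : Fˣ) : (dM ε).trace = 0 := by
  simp [dM, Matrix.trace_fin_two_of]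

theorem dM_sq (ε : Fˣ) : dM ε * dM ε = (-(ε : F)) • (1 : M2 F) := by
  rw [m2_sq_of_trace (trace_dM ε), det_dM]

theorem dM_mul (ε : Fˣ) (a : SL2 F) : dM ε * (a : M2 F) = ((delta ε a : SL2 F) : M2 F) * dM ε := by
  have h2 : (ε : F) * ((ε⁻¹ : Fˣ) : F) = 1 := by simp
  have e : ((delta ε a : SL2 F) : M2 F) =
    !![(a : M2 F) 1 1, -((ε : F) * (a : M2 F) 1 0); -(((ε⁻¹ : Fˣ) : F) * (a : M2 F) 0 1), (a : M2 F) 0 0] :=
    coe_delta ε a
  rw [e]
  apply m2_ext
  · rw [m2_mul_00, m2_mul_00]; simp [dM]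
  · rw [m2_mul_01, m2_mul_01]; simp [dM]; ring
  · rw [m2_mul_10, m2_mul_10]; simp [dM]
  · rw [m2_mul_11, m2_mul_11]; simp [dM]; field_simp

/-- **Twisted conjugacy.** -/
theorem exists_tw (h2 : (2 : F) ≠ 0) [Finite F] (ε : Fˣ) (hns : ¬ IsSquare (ε : F)) {a : SL2 F}
    (h : a * delta ε a = 1 ∨ a * delta ε a = -1) : ∃ P : SL2 F, a * delta ε P = P := by
  set A : M2 F := (a : M2 F) * dM ε with hA
  have hdet : A.det = ε := by rw [hA, Matrix.det_mul, a.2, one_mul, det_dM]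
  have hAA : ∃ c : F, A * A = c • (1 : M2 F) := by
    have e1 : A * A = ((a * delta ε a : SL2 F) : M2 F) * (dM ε * dM ε) := by
      rw [hA, sl_mul_coe]
      calc (a : M2 F) * dM ε * ((a : M2 F) * dM ε) = (a : M2 F) * (dM ε * (a : M2 F)) * dM ε := by
            simp only [mul_assoc]
        _ = _ := by rw [dM_mul]; simp only [mul_assoc]
    rw [e1, dM_sq]
    rcases h with h | h
    · rw [h]
      exact ⟨-(ε : F), by simp⟩
    · rw [h, neg_one_coe]
      exact ⟨(ε : F), by simp⟩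
  obtain ⟨c, hc⟩ := hAA
  have htr : A.trace = 0 := by
    refine trace_of_sq_scalar hc fun b hb => hns ⟨b, ?_⟩
    rw [← hdet, hb, det_smul2]
    simp
  have hdM : (dM ε).det ≠ 0 := by rw [det_dM]; exact ε.ne_zero
  obtain ⟨P, hP⟩ := exists_sl_conj h2 hdM (trace_dM ε) htr (by rw [hdet, det_dM])
  refine ⟨P, ?_⟩
  apply Subtype.ext
  apply cancel_right hdM
  change (a : M2 F) * ((delta ε P : SL2 F) : M2 F) * dM ε = (P : M2 F) * dM ε
  rw [hP, hA, mul_assoc, mul_assoc, dM_mul]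

variable (F Γ) in
/-- two commuting homomorphisms of `SL(2,F)` and an involution inducing `delta ε` on both -/
structure Pair where
  /-- first factor -/
  φ : SL2 F →* Γ
  /-- second factor -/
  ψ : SL2 F →* Γ
  comm : ∀ a b, Commute (φ a) (ψ b)
  neg : φ (-1) = ψ (-1)
  ne : φ (-1) ≠ 1
  two : (2 : F) ≠ 0
  /-- a nonsquare -/
  ε : Fˣ
  nsq : ¬ IsSquare (ε : F)
  /-- the involution inducing the outer automorphism -/
  d : Γ
  dd : d * d = 1
  dφ : ∀ g, d * φ g = φ (delta ε g) * d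
  dψ : ∀ g, d * ψ g = ψ (delta ε g) * d

namespace Pair

variable (P : Pair F Γ)

theorem injφ : Function.Injective P.φ := injective_of_neg P.two P.φ P.ne

theorem injψ : Function.Injective P.ψ := injective_of_neg P.two P.ψ (by rw [← P.neg]; exact P.ne)

/-- the central involution -/
def z : Γ := P.φ (-1)

theorem z_sq : P.z * P.z = 1 := by
  rw [z, ← map_mul]
  simp

theorem ker {a b : SL2 F} (h : P.φ a * P.ψ b = 1) : (a = 1 ∧ b = 1) ∨ (a = -1 ∧ b = -1) := by
  have hc : ∀ x, a * x = x * a := by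
    intro x
    apply P.injφ
    rw [map_mul, map_mul, eq_inv_of_mul_eq_one_left h]
    exact ((P.comm x b).symm.inv_left).eq
  rcases eq_of_comm hc with ha | ha
  · left
    refine ⟨ha, ?_⟩
    rw [ha, map_one, one_mul] at h
    exact P.injψ (by rw [h, map_one])
  · right
    refine ⟨ha, ?_⟩
    rw [ha, P.neg, ← map_mul] at h
    have h3 : -1 * b = 1 := P.injψ (by rw [h, map_one])
    have h4 : b = (-1)⁻¹ := (inv_eq_of_mul_eq_one_right h3).symm
    rw [h4]
    simp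

theorem mul_form (a b c e : SL2 F) : P.φ a * P.ψ b * (P.φ c * P.ψ e) = P.φ (a * c) * P.ψ (b * e) := by
  rw [map_mul, map_mul]
  calc P.φ a * P.ψ b * (P.φ c * P.ψ e) = P.φ a * (P.ψ b * P.φ c) * P.ψ e := by simp only [mul_assoc]
    _ = P.φ a * (P.φ c * P.ψ b) * P.ψ e := by rw [(P.comm c b).eq]
    _ = _ := by simp only [mul_assoc]

theorem inv_form (a b : SL2 F) : (P.φ a * P.ψ b)⁻¹ = P.φ a⁻¹ * P.ψ b⁻¹ := by
  apply inv_eq_of_mul_eq_one_right
  rw [P.mul_form, mul_inv_cancel, mul_inv_cancel, map_one, map_one, one_mul]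

theorem d_form (a b : SL2 F) : P.d * (P.φ a * P.ψ b) = P.φ (delta P.ε a) * P.ψ (delta P.ε b) * P.d := by
  rw [← mul_assoc, P.dφ, mul_assoc, P.dψ, mul_assoc]

theorem form_eq_iff (a b c e : SL2 F) :
    P.φ a * P.ψ b = P.φ c * P.ψ e ↔ (a = c ∧ b = e) ∨ (a = -c ∧ b = -e) := by
  constructor
  · intro h
    have h3 : P.φ (c⁻¹ * a) * P.ψ (e⁻¹ * b) = 1 := by
      rw [← P.mul_form, ← P.inv_form, h, inv_mul_cancel]
    rcases P.ker h3 with ⟨h4, h5⟩ | ⟨h4, h5⟩
    · left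
      exact ⟨(inv_mul_eq_one.1 h4).symm, (inv_mul_eq_one.1 h5).symm⟩
    · right
      constructor
      · have := congrArg (c * ·) h4
        simpa using this
      · have := congrArg (e * ·) h5
        simpa using this
  · rintro (⟨rfl, rfl⟩ | ⟨rfl, rfl⟩)
    · rfl
    · have e1 : -c = -1 * c := by simp
      have e2 : -e = -1 * e := by simp
      rw [e1, e2, ← P.mul_form, ← P.neg]
      change P.z * P.z * _ = _
      rw [P.z_sq, one_mul]

/-- `L = (im φ)(im ψ)` -/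
def L : Subgroup Γ := P.φ.range ⊔ P.ψ.range

/-- the homomorphism `SL(2,F) × SL(2,F) → L` -/
def pr : SL2 F × SL2 F →* Γ := P.φ.noncommCoprod P.ψ P.comm

theorem pr_apply (a b : SL2 F) : P.pr (a, b) = P.φ a * P.ψ b := rfl

theorem range_pr : P.pr.range = P.L := MonoidHom.noncommCoprod_range _ _ _

theorem mem_L {g : Γ} : g ∈ P.L ↔ ∃ a b, g = P.φ a * P.ψ b := by
  rw [← P.range_pr]
  constructor
  · rintro ⟨⟨a, b⟩, rfl⟩
    exact ⟨a, b, rfl⟩
  · rintro ⟨a, b, rfl⟩
    exact ⟨(a, b), rfl⟩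

theorem form_mem_L (a b : SL2 F) : P.φ a * P.ψ b ∈ P.L := P.mem_L.2 ⟨a, b, rfl⟩

theorem d_notMem : P.d ∉ P.L := by
  intro h
  obtain ⟨a, b, hab⟩ := P.mem_L.1 h
  have key : ∀ g : SL2 F, a * g = delta P.ε g * a := by
    intro g
    apply P.injφ
    have h1 := P.dφ g
    rw [hab, mul_assoc, ← (P.comm g b).eq, ← mul_assoc, ← mul_assoc, ← map_mul, ← map_mul] at h1
    exact mul_right_cancel h1
  have hu : (a : M2 F) * ((up 1 : SL2 F) : M2 F) = ((delta P.ε (up 1) : SL2 F) : M2 F) * (a : M2 F) :=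
    congrArg Subtype.val (key (up 1))
  have hl : (a : M2 F) * ((lo 1 : SL2 F) : M2 F) = ((delta P.ε (lo 1) : SL2 F) : M2 F) * (a : M2 F) :=
    congrArg Subtype.val (key (lo 1))
  rw [Cfsg.Agent.ClassificationK.GTwoChev.delta_up, coe_up, coe_lo] at hu
  rw [Cfsg.Agent.ClassificationK.GTwoChev.delta_lo, coe_up, coe_lo] at hl
  have u01 := congrFun (congrFun hu 0) 1
  have l01 := congrFun (congrFun hl 0) 1
  have l00 := congrFun (congrFun hl 0) 0
  rw [m2_mul_01, m2_mul_01] at u01 l01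
  rw [m2_mul_00, m2_mul_00] at l00
  simp at u01 l01 l00
  have hd := a.2
  rw [Matrix.det_fin_two, u01, zero_mul, zero_sub] at hd
  apply P.nsq
  have hr : (a : M2 F) 1 0 ≠ 0 := by
    intro h0
    rw [h0] at hd
    simp at hd
  refine ⟨((a : M2 F) 1 0)⁻¹, ?_⟩
  field_simp
  linear_combination hd + (a : M2 F) 1 0 * l00

/-- `K = L⟨d⟩` -/
def K : Subgroup Γ where
  carrier := {g | g ∈ P.L ∨ ∃ x ∈ P.L, g = x * P.d}
  one_mem' := Or.inl (Subgroup.one_mem _)
  mul_mem' := by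
    have hd : ∀ x ∈ P.L, ∃ y ∈ P.L, P.d * x = y * P.d := by
      intro x hx
      obtain ⟨a, b, rfl⟩ := P.mem_L.1 hx
      exact ⟨_, P.form_mem_L _ _, P.d_form a b⟩
    rintro g h (hg | ⟨x, hx, rfl⟩) (hh | ⟨y, hy, rfl⟩)
    · exact Or.inl (Subgroup.mul_mem _ hg hh)
    · exact Or.inr ⟨g * y, Subgroup.mul_mem _ hg hy, (mul_assoc _ _ _).symm⟩
    · obtain ⟨y, hy, e⟩ := hd h hh
      exact Or.inr ⟨x * y, Subgroup.mul_mem _ hx hy, by rw [mul_assoc, e, mul_assoc]⟩
    · obtain ⟨y', hy', e⟩ := hd y hy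
      refine Or.inl ?_
      have : x * P.d * (y * P.d) = x * y' := by
        calc x * P.d * (y * P.d) = x * (P.d * y) * P.d := by simp only [mul_assoc]
          _ = x * y' * (P.d * P.d) := by rw [e]; simp only [mul_assoc]
          _ = _ := by rw [P.dd, mul_one]
      rw [this]
      exact Subgroup.mul_mem _ hx hy'
  inv_mem' := by
    rintro g (hg | ⟨x, hx, rfl⟩)
    · exact Or.inl (Subgroup.inv_mem _ hg)
    · obtain ⟨a, b, rfl⟩ := P.mem_L.1 hx
      refine Or.inr ⟨P.φ (delta P.ε a⁻¹) * P.ψ (delta P.ε b⁻¹), P.form_mem_L _ _, ?_⟩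
      rw [← P.d_form, _root_.mul_inv_rev, P.inv_form]
      congr 1
      exact inv_eq_of_mul_eq_one_right P.dd

theorem mem_K {g : Γ} : g ∈ P.K ↔ g ∈ P.L ∨ ∃ x ∈ P.L, g = x * P.d := Iff.rfl

theorem L_le_K : P.L ≤ P.K := fun _ h => Or.inl h

theorem d_mem_K : P.d ∈ P.K := Or.inr ⟨1, Subgroup.one_mem _, (one_mul _).symm⟩

theorem φ_mem_K (a : SL2 F) : P.φ a ∈ P.K := P.L_le_K ((le_sup_left : _ ≤ P.L) ⟨a, rfl⟩)

theorem ψ_mem_K (a : SL2 F) : P.ψ a ∈ P.K := P.L_le_K ((le_sup_right : _ ≤ P.L) ⟨a, rfl⟩)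

theorem K_le_iff {X : Subgroup Γ} : P.K ≤ X ↔ (∀ a, P.φ a ∈ X) ∧ (∀ a, P.ψ a ∈ X) ∧ P.d ∈ X := by
  constructor
  · intro h
    exact ⟨fun a => h (P.φ_mem_K a), fun a => h (P.ψ_mem_K a), h P.d_mem_K⟩
  · rintro ⟨h1, h3, h4⟩
    have hL : P.L ≤ X := sup_le (by rintro _ ⟨a, rfl⟩; exact h1 a) (by rintro _ ⟨a, rfl⟩; exact h3 a)
    rintro g (hg | ⟨x, hx, rfl⟩)
    · exact hL hg
    · exact X.mul_mem (hL hx) h4


end Pair

end Cfsg.Agent.H556.SLPair
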