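import Cfsg.Agent.ThreePrime.SzDataExists
import Cfsg.Agent.H167.OP.MinD

/-!
# Involutions of the Suzuki groups and elements of the torus (helper556)

`exists_pair` : every involution `t` of `L = Sz(q)` has a conjugate `t'` such that `t t'` has prime order `r ≥ 7` and
normalises but does not centralise some 2-subgroup.
-/

set_option autoImplicit false

namespace Cfsg.Agent.H556.SzDih

open Cfsg.Agent.ThreePrime.SzRel Cfsg.Agent.H167.OP

/-- a prime divisor of `2^(2m+1) - 1` -/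
theorem exists_prime {m : ℕ} (hm : 1 ≤ m) : ∃ r : ℕ, r.Prime ∧ 7 ≤ r ∧ r ∣ 2 ^ (2 * m + 1) - 1 := by
  have h8 : 8 ≤ 2 ^ (2 * m + 1) := by
    calc 8 = 2 ^ 3 := by norm_num
      _ ≤ 2 ^ (2 * m + 1) := Nat.pow_le_pow_right (by norm_num) (by omega)
  have h1 : 2 ^ (2 * m + 1) - 1 ≠ 1 := by omega
  obtain ⟨r, hr, hd⟩ := Nat.exists_prime_and_dvd h1
  refine ⟨r, hr, ?_, hd⟩
  have h4 : ∀ m : ℕ, 4 ^ m % 3 = 1 ∧ (4 ^ m % 5 = 1 ∨ 4 ^ m % 5 = 4) := by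
    intro m
    induction m with
    | zero => decide
    | succ m ih =>
      rw [pow_succ]
      omega
  have h5 : 2 ^ (2 * m + 1) = 2 * 4 ^ m := by
    rw [pow_succ, pow_mul]
    norm_num
    ring
  have h6 := h4 m
  by_contra hcon
  push Not at hcon
  have := hr.two_le
  rw [h5] at hd h8
  interval_cases r
  · omega
  · omega
  · exact absurd hr (by norm_num)
  · omega
  · exact absurd hr (by norm_num)

variable {L : Type*} [Group L] [Finite L]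

theorem exists_pair (hL : Cfsg.Lie.IsoSuzuki L) {t : L} (ht : t * t = 1) (ht1 : t ≠ 1) :
    ∃ (r : ℕ) (h : L) (T : Subgroup L), r.Prime ∧ 7 ≤ r ∧ (t * (h * t * h⁻¹)) ^ r = 1 ∧ IsPGroup 2 T ∧
      Nrm (t * (h * t * h⁻¹)) T ∧ ¬ Cen (t * (h * t * h⁻¹)) T := by
  have : Fact (Nat.Prime 2) := ⟨Nat.prime_two⟩
  obtain ⟨F, iF, iF', m, hm, hF, ⟨R⟩⟩ := exists_rel hL
  have h8 : 8 ≤ Nat.card F := by
    rw [Nat.card_eq_fintype_card, hF]
    exact Rel.eight_le hm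
  obtain ⟨P, hP⟩ := R.exists_sylow_eq hm hF
  obtain ⟨r, hr, hr7, hrd⟩ := exists_prime hm
  have hrf : Fact r.Prime := ⟨hr⟩
  -- a unit of order `r`
  obtain ⟨k, hk⟩ := exists_prime_orderOf_dvd_card' (G := Fˣ) r (by
    rw [Nat.card_units, Nat.card_eq_fintype_card, hF]
    exact hrd)
  have hkr : k ^ r = 1 := by rw [← hk, pow_orderOf_eq_one]
  have hk1 : k ≠ 1 := by
    rintro rfl
    rw [orderOf_one] at hk
    omega
  -- involutions are conjugate into `T`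
  have hinv : ∀ s : L, s * s = 1 → ∃ g : L, g * s * g⁻¹ ∈ R.T := by
    intro s hs
    have h1 : IsPGroup 2 (Subgroup.zpowers s) := by
      rintro ⟨x, j, rfl⟩
      refine ⟨1, Subtype.ext ?_⟩
      show (s ^ j) ^ 2 ^ 1 = 1
      rw [pow_one, pow_two, ← zpow_add, ← two_mul, zpow_mul]
      have : s ^ (2 : ℤ) = 1 := by rw [zpow_two, hs]
      rw [this, one_zpow]
    obtain ⟨P', hP'⟩ := h1.exists_le_sylow
    obtain ⟨g, hg⟩ := MulAction.exists_smul_eq L P' P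
    refine ⟨g, ?_⟩
    have h3 : g * s * g⁻¹ ∈ g • P' :=
      Subgroup.smul_mem_pointwise_smul s (MulAut.conj g) (P' : Subgroup L) (hP' (Subgroup.mem_zpowers s))
    rw [hg] at h3
    rw [← hP]
    exact h3
  have hw1 : R.w ≠ 1 := by
    intro h
    have := R.w_ne 0 0 1
    rw [R.u_zero, R.d_one, mul_one] at this
    exact this h
  -- `t` is conjugate to `w`
  obtain ⟨g1, hg1⟩ := hinv t ht
  obtain ⟨g2, hg2⟩ := hinv R.w R.w_mul_w
  have sqc : ∀ g s : L, s * s = 1 → g * s * g⁻¹ * (g * s * g⁻¹) = 1 := by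
    intro g s hs
    have : g * s * g⁻¹ * (g * s * g⁻¹) = g * (s * s) * g⁻¹ := by group
    rw [this, hs, mul_one, mul_inv_cancel]
  have nec : ∀ g s : L, s ≠ 1 → g * s * g⁻¹ ≠ 1 := by
    intro g s hs h
    apply hs
    have : s = g⁻¹ * (g * s * g⁻¹) * g := by group
    rw [this, h, mul_one, inv_mul_cancel]
  obtain ⟨d, -, hd⟩ := R.trans _ hg2 _ hg1 (nec _ _ hw1) (nec _ _ ht1) (sqc _ _ R.w_mul_w) (sqc _ _ ht)
  obtain ⟨g, hg⟩ : ∃ g : L, t = g * R.w * g⁻¹ := by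
    refine ⟨g1⁻¹ * d * g2, ?_⟩
    have : g1⁻¹ * d * g2 * R.w * (g1⁻¹ * d * g2)⁻¹ = g1⁻¹ * (d * (g2 * R.w * g2⁻¹) * d⁻¹) * g1 := by group
    rw [this, hd]
    group
  -- the element of the torus
  have hodd : Odd r := hr.odd_of_ne_two (by omega)
  obtain ⟨j, hj⟩ := hodd
  set m0 : Fˣ := k ^ (j + 1) with hm0
  have hm0k : m0 * m0 = k := by
    rw [hm0, ← pow_add]
    have : j + 1 + (j + 1) = r + 1 := by omega
    rw [this, pow_succ, hkr, one_mul]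
  have hwd : R.w * ((R.d m0)⁻¹ * R.w * R.d m0) = R.d k := by
    rw [R.d_inv, ← mul_assoc, ← mul_assoc, R.w_mul_d, inv_inv, mul_assoc (R.d m0), R.w_mul_w, mul_one, R.d_mul, hm0k]
  have hy : t * (g * (R.d m0)⁻¹ * g⁻¹ * t * (g * (R.d m0)⁻¹ * g⁻¹)⁻¹) = g * R.d k * g⁻¹ := by
    rw [hg, ← hwd]
    group
  have hdr : (R.d k) ^ r = 1 := by
    have : ∀ n : ℕ, (R.d k) ^ n = R.d (k ^ n) := by
      intro n
      induction n with
      | zero => rw [pow_zero, pow_zero, R.d_one]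
      | succ n ih => rw [pow_succ, pow_succ, ih, R.d_mul]
    rw [this, hkr, R.d_one]
  refine ⟨r, g * (R.d m0)⁻¹ * g⁻¹, R.T.map (MulAut.conj g).toMonoidHom, hr, hr7, ?_, R.isPGroup.map _, ?_, ?_⟩
  · rw [hy, conj_pow, hdr, mul_one, mul_inv_cancel]
  · rw [hy]
    rintro _ ⟨x, hx, rfl⟩
    have h1 : R.d k * x * (R.d k)⁻¹ ∈ R.T :=
      (Subgroup.mem_normalizer_iff.mp (R.D_le (R.d_mem k)) x).mp hx
    refine ⟨_, h1, ?_⟩
    show g * (R.d k * x * (R.d k)⁻¹) * g⁻¹ = g * R.d k * g⁻¹ * (g * x * g⁻¹) * (g * R.d k * g⁻¹)⁻¹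
    group
  · rw [hy]
    intro hc
    have h1 := hc (g * R.u 0 1 * g⁻¹) ⟨R.u 0 1, R.u_mem 0 1, rfl⟩
    have h2 : R.d k * R.u 0 1 * (R.d k)⁻¹ = R.u 0 1 := by
      have h3 : R.d k * R.u 0 1 * (R.d k)⁻¹ =
          g⁻¹ * (g * R.d k * g⁻¹ * (g * R.u 0 1 * g⁻¹)) * g * (R.d k)⁻¹ := by group
      rw [h3, h1]
      group
    rcases R.fpf h2 with h3 | h3
    · exact hk1 h3
    · exact one_ne_zero h3.2

/-- an element of order `r ≥ 7` normalising but not centralising a 2-subgroup -/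
theorem exists_single (hL : Cfsg.Lie.IsoSuzuki L) :
    ∃ (r : ℕ) (y : L) (T : Subgroup L), r.Prime ∧ 7 ≤ r ∧ y ^ r = 1 ∧ IsPGroup 2 T ∧ Nrm y T ∧ ¬ Cen y T := by
  obtain ⟨F, iF, iF', m, hm, hF, ⟨R⟩⟩ := exists_rel hL
  have hw1 : R.w ≠ 1 := by
    intro h
    have := R.w_ne 0 0 1
    rw [R.u_zero, R.d_one, mul_one] at this
    exact this h
  obtain ⟨r, h, T, h1, h2, h3, h4, h5, h6⟩ := exists_pair hL R.w_mul_w hw1
  exact ⟨r, _, T, h1, h2, h3, h4, h5, h6⟩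

end Cfsg.Agent.H556.SzDih
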