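import Cfsg.Agent.H556.SzPair
import Cfsg.Agent.H556.OmSmall
import Cfsg.Agent.H170.Fl.Claim

/-!
# The nonsolvable case of claim (B) (helper556)

`no_hyp` : the hypotheses `Hyp` of helper170 are contradictory, without assuming solvability.
-/

set_option autoImplicit false

namespace Cfsg.Agent.H556.SzEnd

open Module Cfsg.Agent.H167.OP Cfsg.Agent.H170.HL Cfsg.Agent.H170.Fl

universe u

variable {F : Type*} [Field F] {V : Type*} [AddCommGroup V] [Module F V] {G : Type u} [Group G]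
  {ρ : Representation F G V} {R R' : Subgroup G}

theorem exists_y [Finite G] (h : Hyp ρ R R') :
    ∃ (y : G) (r : ℕ) (D : Subgroup G), r.Prime ∧ 7 ≤ r ∧ y ^ r = 1 ∧ rk ρ y ≤ 4 ∧ IsPGroup 2 D ∧ Nrm y D ∧
      ¬ Cen y D := by
  classical
  have hfd := h.finDim
  let S := Sc ρ
  let π : G →* G ⧸ S := QuotientGroup.mk' S
  have hπ : Function.Surjective π := QuotientGroup.mk'_surjective S
  have hker : ∀ g, π g = 1 ↔ g ∈ S := fun g => QuotientGroup.eq_one_iff g
  have h3Q : ¬ 3 ∣ Nat.card (G ⧸ S) := fun hd => h.three (hd.trans (Subgroup.card_quotient_dvd_card S))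
  have hab : ∀ M : Subgroup (G ⧸ S), M.Normal → (∀ a ∈ M, ∀ b ∈ M, a * b = b * a) → M = ⊥ := by
    intro M hM hc
    have h1 : M.comap π ≤ S := by
      refine h.le_Sc (hM.comap π) fun a ha b hb => ?_
      rw [← hker, map_mul, map_mul, map_mul, map_inv, map_inv, hc _ ha _ hb, mul_inv_cancel_right, mul_inv_cancel]
    rw [eq_bot_iff]
    intro m hm
    obtain ⟨g, rfl⟩ := hπ m
    rw [Subgroup.mem_bot, hker]
    exact h1 hm
  have hne : (⊤ : Subgroup (G ⧸ S)) ≠ ⊥ := by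
    intro htb
    have hS : ∀ g : G, g ∈ S := by
      intro g
      rw [← hker, ← Subgroup.mem_bot, ← htb]
      trivial
    exact h.not_solvable (Group.isSolvable_of_comm fun a b => (Sc_comm h.inj (hS b) a))
  have hX : Subgroup.closure (π '' SI ρ) = ⊤ := by
    rw [← MonoidHom.map_closure, h.closure_SI, ← MonoidHom.range_eq_map, MonoidHom.range_eq_top.mpr hπ]
  obtain ⟨_, ⟨x, hx, rfl⟩, r, g, T, hr, hr7, hyr, hT, hn, hc⟩ :=
    Cfsg.Agent.H556.SzPair.exists_pair_of h3Q hab hne hX (by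
      rintro _ ⟨x, hx, rfl⟩
      rw [← map_mul, hx.1, map_one])
  obtain ⟨g, rfl⟩ := hπ g
  rw [← map_inv, ← map_mul, ← map_mul, ← map_mul] at hyr hn hc
  set w := x * (g * x * g⁻¹) with hw
  have hodd : Odd r := hr.odd_of_ne_two (by omega)
  have hwS : w ^ r ∈ S := by rw [← hker, map_pow, hyr]
  have hπy : π (w ^ (r + 1)) = π w := by rw [map_pow, pow_succ, hyr, one_mul]
  refine ⟨w ^ (r + 1), r, T.comap π, hr, hr7, ?_, ?_, ?_, ?_, ?_⟩
  · obtain ⟨j, hj⟩ := hodd
    have h1 : (w ^ (r + 1)) ^ r = (w ^ r * w ^ r) ^ (j + 1) := by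
      rw [← pow_add, ← pow_mul, ← pow_mul]
      congr 1
      rw [hj]
      ring
    rw [h1, Sc_sq h.inj hwS, one_pow]
  · refine (rk_pow_le ρ w (r + 1)).trans ?_
    have h1 := rk_mul_le ρ x (g * x * g⁻¹)
    have h2 := rk_conj_le ρ g x
    have h4 := hx.2
    rw [← hw] at h1
    omega
  · refine hT.comap_of_ker_isPGroup π ?_
    rintro ⟨s, hs⟩
    refine ⟨1, Subtype.ext ?_⟩
    show s ^ 2 ^ 1 = 1
    rw [pow_one, pow_two]
    exact Sc_sq h.inj ((hker s).mp hs)
  · intro d hd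
    show π (w ^ (r + 1) * d * (w ^ (r + 1))⁻¹) ∈ T
    rw [map_mul, map_mul, map_inv, hπy]
    exact hn _ hd
  · intro hcen
    apply hc
    intro t ht
    obtain ⟨t, rfl⟩ := hπ t
    have h1 := congrArg π (hcen t ht)
    rw [map_mul, map_mul, hπy] at h1
    exact h1

/-- noncommuting elements anticommute -/
theorem neg_of [Finite G] [FiniteDimensional F V] {r : ℕ} {y : G} {D : Subgroup G} (hρ : Function.Injective ρ)
    (h2 : (2 : F) ≠ 0) (hdim : finrank F V ≤ 8) (h7 : 7 ≤ r) (h : MinD 2 r y D) {a b : G} (ha : a ∈ D) (hb : b ∈ D)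
    (hab : a * b ≠ b * a) : finrank F V = 8 ∧ ρ (a * b * a⁻¹ * b⁻¹) = -1 := by
  have h1 : ρ (a * b * a⁻¹ * b⁻¹) ≠ 1 := by
    intro h0
    apply hab
    have h3 : a * b * a⁻¹ * b⁻¹ = 1 := hρ (by rw [h0, map_one])
    calc a * b = (a * b * a⁻¹ * b⁻¹) * (b * a) := by group
      _ = b * a := by rw [h3, one_mul]
  obtain ⟨δ, h3, h4, ⟨k, hk⟩, h6⟩ := beta_gen ρ h (by exact_mod_cast h2) ha hb h1
  have h7' : finrank F (LinearMap.range (ρ (a * b * a⁻¹ * b⁻¹) - 1)) ≤ finrank F V := Submodule.finrank_le _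
  have h8 : δ ≤ 8 := by omega
  have hd : r ∣ δ ^ 2 - 1 := (Nat.modEq_iff_dvd' (Nat.one_le_pow _ _ (by omega))).mp h6.symm
  have hpow : ∀ n : ℕ, n = 2 ^ k → n = 1 ∨ n = 2 ∨ n = 4 ∨ n = 8 ∨ n = 16 ∨ n = 32 ∨ ∃ m, n = 64 * m := by
    intro n hn
    rcases k with _ | _ | _ | _ | _ | _ | k
    · simp at hn; omega
    · simp at hn; omega
    · simp at hn; omega
    · simp at hn; omega
    · simp at hn; omega
    · simp at hn; omega
    · right; right; right; right; right; right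
      exact ⟨2 ^ k, by rw [hn, show k + 1 + 1 + 1 + 1 + 1 + 1 = k + 6 by ring, pow_add]; norm_num; ring⟩
  have hδ : δ = 8 := by
    have h10 := hpow _ hk
    interval_cases δ
    · exfalso
      have := Nat.le_of_dvd (by norm_num) hd
      omega
    · exfalso; norm_num at h10; omega
    · exfalso
      have h11 : r ∣ 5 * 3 := by simpa using hd
      rcases (Nat.Prime.dvd_mul h.ht).mp h11 with h12 | h12
      · have := Nat.le_of_dvd (by norm_num) h12
        omega
      · have := Nat.le_of_dvd (by norm_num) h12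
        omega
    · exfalso; norm_num at h10; omega
    · exfalso; norm_num at h10; omega
    · exfalso; norm_num at h10; omega
    · rfl
  subst hδ
  have h9 : finrank F V = 8 := by omega
  have h10 : LinearMap.range (ρ (a * b * a⁻¹ * b⁻¹) - 1) = ⊤ := by
    apply Submodule.eq_top_of_finrank_eq
    omega
  refine ⟨h9, ?_⟩
  apply LinearMap.ext
  intro v
  have hv : v ∈ LinearMap.range (ρ (a * b * a⁻¹ * b⁻¹) - 1) := by rw [h10]; trivial
  obtain ⟨w, rfl⟩ := hv
  show ρ (a * b * a⁻¹ * b⁻¹) (ρ (a * b * a⁻¹ * b⁻¹) w - w) = -(ρ (a * b * a⁻¹ * b⁻¹) w - w)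
  rw [map_sub, ← mul_ap, Cfsg.Agent.H556.OmSmall.comm_sq h ha hb hab, one_ap]
  abel

/-- **the contradiction** -/
theorem no_hyp [Finite G] (h : Hyp ρ R R') : False := by
  classical
  have hfd := h.finDim
  have hnt := h.nontriv
  have hf2 : Fact (Nat.Prime 2) := ⟨Nat.prime_two⟩
  obtain ⟨y, r, D₀, hr, hr7, hyr, hrk, hD₀, hn₀, hc₀⟩ := exists_y h
  obtain ⟨D, -, hmin⟩ := exists_minD (s := 2) (t := r) Nat.prime_two hr (by omega) (y := y) (B := D₀) (by
      intro d hd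
      obtain ⟨k, hk⟩ := hD₀ ⟨d, hd⟩
      exact ⟨k, by simpa using congrArg Subtype.val hk⟩) ⟨1, by rw [pow_one, hyr]⟩ hn₀ hc₀
  have h2F : ((2 : ℕ) : F) ≠ 0 := by exact_mod_cast h.two
  by_cases hab : ∀ a ∈ D, ∀ b ∈ D, a * b = b * a
  · -- abelian
    obtain ⟨a, ha, hya⟩ := hmin.exists_ncomm
    have h1 : ρ a ≠ 1 := by
      intro h0
      have : a = 1 := h.inj (by rw [h0, map_one])
      rw [this, mul_one, one_mul] at hya
      exact hya rfl
    obtain ⟨E, -, -, hV, hle⟩ := Cfsg.Agent.H167.OP.alpha ρ hmin (by omega) h2F hab ⟨a, ha, h1⟩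
    have h3 : 0 < finrank F (VE ρ E D) := by
      rw [Nat.pos_iff_ne_zero]
      intro h0
      exact hV (Submodule.finrank_eq_zero.mp h0)
    have h4 : r - 1 ≤ (r - 1) * finrank F (VE ρ E D) := Nat.le_mul_of_pos_right _ h3
    omega
  -- nonabelian
  push Not at hab
  obtain ⟨a₀, ha₀, b₀, hb₀, hab₀⟩ := hab
  have hcomm : ∀ a ∈ D, ∀ b ∈ D, a * b * a⁻¹ * b⁻¹ ∈ Sc ρ := by
    intro a ha b hb
    by_cases hab : a * b = b * a
    · rw [hab, mul_inv_cancel_right, mul_inv_cancel]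
      exact Subgroup.one_mem _
    · right
      intro v
      rw [(neg_of h.inj h.two h.eight hr7 hmin ha hb hab).2]
      rfl
  have hd := (neg_of h.inj h.two h.eight hr7 hmin ha₀ hb₀ hab₀).1
  have hScn : Nrm y (D ⊓ Sc ρ) := fun d hd => ⟨hmin.nrm d hd.1, (inferInstance : (Sc ρ).Normal).conj_mem d hd.2 y⟩
  have hScc : ∀ a ∈ D, ∀ b ∈ D, a * b * a⁻¹ * b⁻¹ ∈ D ⊓ Sc ρ := fun a ha b hb =>
    ⟨D.mul_mem (D.mul_mem (D.mul_mem ha hb) (D.inv_mem ha)) (D.inv_mem hb), hcomm a ha b hb⟩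
  have hcen : ∀ a ∈ D, (∀ b ∈ D, a * b = b * a) → a ∈ Sc ρ := by
    intro a ha hab
    have h1 := hmin.cen_center ⟨a₀, ha₀, b₀, hb₀, hab₀⟩ ha hab
    have h3 : y * a * y⁻¹ * a⁻¹ ∈ D ⊓ Sc ρ := by
      rw [h1, mul_inv_cancel_right, mul_inv_cancel]
      exact Subgroup.one_mem _
    exact (hmin.mem_of_comm_mem hScn hScc ha h3).2
  have hgr : Gr ρ D := ⟨h.inj, h.two, h.card_ne D, hcomm, hcen⟩
  have : Fintype D := Fintype.ofFinite D
  have : Fintype (Gr.QQ ρ D) := Fintype.ofFinite _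
  have hQ2 : IsPGroup 2 (Gr.QQ ρ D) := hmin.isPGroup.to_quotient _
  have hdim := hgr.finrank_end
  -- the automorphism
  have hyn : ∀ m, m ∈ D ↔ y * m * y⁻¹ ∈ D := by
    intro m
    constructor
    · exact hmin.nrm m
    · intro hm
      have := nrm_inv hmin.nrm hm
      convert this using 1
      group
  let e : D ≃* D :=
    { toFun := fun d => ⟨y * d * y⁻¹, (hyn d).mp d.2⟩
      invFun := fun d => ⟨y⁻¹ * d * y, nrm_inv hmin.nrm d.2⟩
      left_inv := fun d => Subtype.ext (by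
        show y⁻¹ * (y * d * y⁻¹) * y = d
        group)
      right_inv := fun d => Subtype.ext (by
        show y * (y⁻¹ * d * y) * y⁻¹ = d
        group)
      map_mul' := fun a b => Subtype.ext (by
        show y * (a * b) * y⁻¹ = y * a * y⁻¹ * (y * b * y⁻¹)
        group) }
  let σ : MulAut (Gr.QQ ρ D) := QuotientGroup.congr _ _ e (by
    apply le_antisymm
    · rintro _ ⟨n, hn, rfl⟩
      rw [SetLike.mem_coe, Subgroup.mem_subgroupOf] at hn
      rw [Subgroup.mem_subgroupOf]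
      exact (inferInstance : (Sc ρ).Normal).conj_mem _ hn y
    · intro n hn
      refine ⟨e.symm n, ?_, e.apply_symm_apply n⟩
      rw [Subgroup.mem_subgroupOf] at hn
      rw [SetLike.mem_coe, Subgroup.mem_subgroupOf]
      have := (inferInstance : (Sc ρ).Normal).conj_mem _ hn y⁻¹
      rw [inv_inv] at this
      exact this)
  have hσ : ∀ d : D, σ (QuotientGroup.mk d) = QuotientGroup.mk (e d) := fun _ => rfl
  have hσk : ∀ (k : ℕ) (d : D), (σ ^ k) (QuotientGroup.mk d) =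
      QuotientGroup.mk ⟨y ^ k * d * (y ^ k)⁻¹, (Gr.norm_pow hyn k d).mp d.2⟩ := by
    intro k
    induction k with
    | zero =>
      intro d
      rw [pow_zero, MulAut.one_apply]
      congr 1
      apply Subtype.ext
      simp
    | succ k ih =>
      intro d
      rw [pow_succ', MulAut.mul_apply, ih, hσ]
      congr 1
      apply Subtype.ext
      show y * (y ^ k * d * (y ^ k)⁻¹) * y⁻¹ = y ^ (k + 1) * d * (y ^ (k + 1))⁻¹
      rw [pow_succ']
      group
  have hσr : σ ^ r ^ 1 = 1 := by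
    apply MulEquiv.ext
    intro q
    obtain ⟨d, rfl⟩ := QuotientGroup.mk_surjective q
    rw [pow_one, hσk, MulAut.one_apply]
    congr 1
    apply Subtype.ext
    show y ^ r * (d : G) * (y ^ r)⁻¹ = d
    rw [hyr]
    simp
  have hσ1 : σ ≠ 1 := by
    intro h1
    -- then `y` centralises `D`
    apply hmin.ncen
    intro d hd
    have h3 := DFunLike.congr_fun h1 (QuotientGroup.mk ⟨d, hd⟩ : Gr.QQ ρ D)
    rw [hσ, MulAut.one_apply, eq_comm, QuotientGroup.eq, Subgroup.mem_subgroupOf] at h3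
    have h4 : d⁻¹ * (y * d * y⁻¹) ∈ Sc ρ := h3
    have h5 : y * d * y⁻¹ * d⁻¹ ∈ D ⊓ Sc ρ := by
      refine ⟨hmin.comm_mem hd, ?_⟩
      have h6 := (inferInstance : (Sc ρ).Normal).conj_mem _ h4 d
      have h8 : d * (d⁻¹ * (y * d * y⁻¹)) * d⁻¹ = y * d * y⁻¹ * d⁻¹ := by group
      rwa [h8] at h6
    have h6 := hmin.mem_of_comm_mem hScn hScc hd h5
    exact Sc_comm h.inj h6.2 y
  obtain ⟨T, hT4, hT⟩ := exists_reps hQ2 hr (by omega) σ (a := 1) hσr hσ1
  have hle := hgr.finrank_Cy_le (y := y) hyn (Gr.rp ρ D '' T) (by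
      rintro _ ⟨q, _, rfl⟩
      exact Gr.rp_mem q) ((Set.toFinite T).image _) (by
      intro n hn
      obtain ⟨t, ht, j, hj⟩ := hT (QuotientGroup.mk ⟨n, hn⟩)
      refine ⟨_, ⟨t, ht, rfl⟩, j, ?_⟩
      rw [← Gr.mk_rp t, hσk, QuotientGroup.eq, Subgroup.mem_subgroupOf] at hj
      exact hj)
  have hTc : (Gr.rp ρ D '' T).ncard ≤ T.ncard := Set.ncard_image_le (Set.toFinite T)
  have hy1 : ρ y ≠ 1 := by
    intro h1
    apply hmin.ncen
    have : y = 1 := h.inj (by rw [h1, map_one])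
    intro d _
    rw [this, mul_one, one_mul]
  have hge := le_finrank_Cy ρ (h.card_ne (Subgroup.zpowers y)) hy1
  rw [hd] at hge hdim
  have h16 : 4 * finrank F (Gr.Cy ρ y) ≤ 64 := by
    have h1 : 4 * finrank F (Gr.Cy ρ y) ≤ 4 * (T.ncard * finrank F (Cm ρ D)) :=
      Nat.mul_le_mul_left _ (hle.trans (Nat.mul_le_mul_right _ hTc))
    have h3 : 4 * (T.ncard * finrank F (Cm ρ D)) = 4 * T.ncard * finrank F (Cm ρ D) := by ring
    rw [h3] at h1
    refine h1.trans ((Nat.mul_le_mul_right _ hT4).trans ?_)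
    rw [Nat.card_eq_fintype_card, ← hdim]
  have h17 : 4 * 4 ≤ (8 - rk ρ y) * (8 - rk ρ y) := Nat.mul_le_mul (by omega) (by omega)
  omega

end Cfsg.Agent.H556.SzEnd
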