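import Cfsg.Agent.H556.SzDih
import Cfsg.Agent.ThreePrime.Main
import Cfsg.Agent.SignalizersComponents.ComponentExists
import Cfsg.Agent.SignalizersComponents.OddFixed
import Cfsg.Agent.SignalizersComponents.ComponentNormalize

/-!
# Products of two conjugate involutions in groups of order prime to 3 (helper556)

`exists_pair_of` : `Q` a nontrivial finite group of order prime to 3 without nontrivial abelian normal subgroups,
generated by a set `X` of elements of order at most two. Then some `x ∈ X` has a conjugate `x'` such that `x x'` has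
prime order `r ≥ 7` and normalises but does not centralise some 2-subgroup of `Q`.
-/

set_option autoImplicit false

namespace Cfsg.Agent.H556.SzPair

open Subgroup Cfsg Cfsg.Agent.SignalizersComponents Cfsg.Agent.H167.OP Cfsg.Agent.H556.SzDih
open scoped commutatorElement

universe u

variable {Q : Type u} [Group Q] [Finite Q]

theorem solvable_eq_bot (hab : ∀ M : Subgroup Q, M.Normal → (∀ a ∈ M, ∀ b ∈ M, a * b = b * a) → M = ⊥)
    {N : Subgroup Q} (hN : N.Normal) (hs : Group.IsSolvable N) : N = ⊥ := by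
  by_contra hne
  obtain ⟨M, hM⟩ := Set.Finite.exists_minimal
    (s := {M : Subgroup Q | M.Normal ∧ Group.IsSolvable M ∧ M ≠ ⊥}) (Set.toFinite _) ⟨N, hN, hs, hne⟩
  obtain ⟨hM1, hMs, hM3⟩ := hM.prop
  have hlt : ⁅M, M⁆ < M := by
    have : Nontrivial M := (Subgroup.nontrivial_iff_ne_bot M).2 hM3
    have h1 := Group.IsSolvable.commutator_lt_top_of_nontrivial M
    have h2 := (Subgroup.map_subtype_lt_map_subtype (G' := M)).2 h1
    rwa [Subgroup.map_subtype_commutator, ← MonoidHom.range_eq_map, Subgroup.range_subtype] at h2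
  have hbot : ⁅M, M⁆ = ⊥ := by
    by_contra h
    have h1 : ⁅M, M⁆ ∈ {M : Subgroup Q | M.Normal ∧ Group.IsSolvable M ∧ M ≠ ⊥} :=
      ⟨inferInstance, ComponentExists.isSolvable_of_le hlt.le hMs, h⟩
    exact hlt.not_ge (hM.le_of_le h1 hlt.le)
  apply hM3
  refine hab M hM1 fun a ha b hb => ?_
  have h1 : ⁅a, b⁆ ∈ ⁅M, M⁆ := Subgroup.commutator_mem_commutator ha hb
  rw [hbot, Subgroup.mem_bot, commutatorElement_def, mul_assoc, mul_eq_one_iff_eq_inv] at h1
  rw [h1]
  group

/-- a simple component of Suzuki type -/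
theorem exists_comp (h3 : ¬ 3 ∣ Nat.card Q)
    (hab : ∀ M : Subgroup Q, M.Normal → (∀ a ∈ M, ∀ b ∈ M, a * b = b * a) → M = ⊥) (hne : (⊤ : Subgroup Q) ≠ ⊥) :
    ∃ K : Subgroup Q, IsComponent K ∧ center K = ⊥ ∧ Cfsg.Lie.IsoSuzuki K := by
  have hF : fittingSubgroup Q = ⊥ := by
    rw [fittingSubgroup, sSup_eq_bot]
    rintro N ⟨hN, hnil⟩
    have : Group.IsNilpotent N := hnil
    exact solvable_eq_bot hab hN inferInstance
  have hns : ¬ Group.IsSolvable (⊤ : Subgroup Q) := fun hs => hne (solvable_eq_bot hab inferInstance hs)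
  obtain ⟨K, hK, -⟩ := ComponentExists.exists_isComponent_le (C := (⊤ : Subgroup Q)) Subgroup.IsSubnormal.top hns (by
    rw [hF]
    intro x _
    rw [mem_centralizer_iff]
    intro y hy
    have : y = 1 := hy
    rw [this, one_mul, mul_one])
  have hcK : center K = ⊥ := by
    have hsub : ((center K).map K.subtype).IsSubnormal :=
      (inferInstance : (center K).Normal).isSubnormal.trans' hK.1
    obtain ⟨N, hN1, hN2, hN3⟩ := ComponentExists.exists_normal_isSolvable_of_isSubnormal hsub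
      (ComponentExists.isSolvable_map (Group.isSolvable_of_comm fun a b =>
        Subtype.ext (mem_center_iff.mp b.2 a)) _)
    rw [solvable_eq_bot hab hN1 hN2, le_bot_iff, Subgroup.map_eq_bot_iff_of_injective _ K.subtype_injective] at hN3
    exact hN3
  have hsim : IsSimpleGroup (K ⧸ center K) := hK.2.2
  have hnt : Nontrivial K := by
    have h1 : Nontrivial (K ⧸ center K) := hsim.toNontrivial
    exact (QuotientGroup.mk'_surjective (center K)).nontrivial
  let e : K ⧸ center K ≃* K := (QuotientGroup.quotientMulEquivOfEq hcK).trans QuotientGroup.quotientBot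
  have hKs : IsSimpleGroup K := e.symm.isSimpleGroup
  have hna : ∃ a b : K, a * b ≠ b * a := by
    by_contra hcon
    push Not at hcon
    obtain ⟨a, ha⟩ := exists_ne (1 : K)
    have h1 : a ∈ center K := mem_center_iff.mpr fun g => hcon g a
    rw [hcK] at h1
    exact ha h1
  exact ⟨K, hK, hcK, Cfsg.Agent.ThreePrime.Main.isoSuzuki hna fun hd => h3 (hd.trans (card_subgroup_dvd_card K))⟩

/-- see the header -/
theorem exists_pair_of (h3 : ¬ 3 ∣ Nat.card Q)
    (hab : ∀ M : Subgroup Q, M.Normal → (∀ a ∈ M, ∀ b ∈ M, a * b = b * a) → M = ⊥) (hne : (⊤ : Subgroup Q) ≠ ⊥)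
    {X : Set Q} (hX : closure X = ⊤) (hX2 : ∀ x ∈ X, x * x = 1) :
    ∃ x ∈ X, ∃ (r : ℕ) (g : Q) (T : Subgroup Q), r.Prime ∧ 7 ≤ r ∧ (x * (g * x * g⁻¹)) ^ r = 1 ∧ IsPGroup 2 T ∧
      Nrm (x * (g * x * g⁻¹)) T ∧ ¬ Cen (x * (g * x * g⁻¹)) T := by
  classical
  obtain ⟨K, hK, hcK, hSz⟩ := exists_comp h3 hab hne
  have : Fact (Nat.Prime 2) := ⟨Nat.prime_two⟩
  have hnt : ∃ k ∈ K, ∃ k' ∈ K, k * k' ≠ k' * k := by
    by_contra hcon
    push Not at hcon
    have h1 : center K = ⊤ := by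
      rw [eq_top_iff]
      rintro ⟨a, ha⟩ -
      exact mem_center_iff.mpr fun g => Subtype.ext (hcon g g.2 a ha)
    have h2 : IsSimpleGroup (K ⧸ center K) := hK.2.2
    have h4 : Nontrivial (K ⧸ center K) := h2.toNontrivial
    rw [h1] at h4
    exact not_subsingleton _ (QuotientGroup.subsingleton_quotient_top (G := K))
  -- an element of `X` not centralising `K`
  obtain ⟨x, hx, hxK⟩ : ∃ x ∈ X, ∃ k ∈ K, x * k * x⁻¹ ≠ k := by
    by_contra hcon
    push Not at hcon
    have h1 : (⊤ : Subgroup Q) ≤ centralizer (K : Set Q) := by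
      rw [← hX, closure_le]
      intro x hx
      rw [SetLike.mem_coe, mem_centralizer_iff]
      intro k hk
      have h2 := hcon x hx k hk
      calc k * x = (x * k * x⁻¹) * x := by rw [h2]
        _ = x * k := by group
    obtain ⟨k, hk, k', hk', hne'⟩ := hnt
    exact hne' (mem_centralizer_iff.mp (h1 (mem_top k')) k hk)
  have hxx := hX2 x hx
  have hxi : x⁻¹ = x := inv_eq_of_mul_eq_one_left hxx
  refine ⟨x, hx, ?_⟩
  by_cases hnorm : ∀ k ∈ K, x * k * x⁻¹ ∈ K
  · -- `x` normalises `K`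
    let φ : MulAut K :=
      { toFun := fun k => ⟨x * k * x⁻¹, hnorm k k.2⟩
        invFun := fun k => ⟨x * k * x⁻¹, hnorm k k.2⟩
        left_inv := fun k => Subtype.ext (by
          show x * (x * k * x⁻¹) * x⁻¹ = k
          calc x * (x * k * x⁻¹) * x⁻¹ = (x * x) * k * (x * x)⁻¹ := by group
            _ = k := by rw [hxx]; simp)
        right_inv := fun k => Subtype.ext (by
          show x * (x * k * x⁻¹) * x⁻¹ = k
          calc x * (x * k * x⁻¹) * x⁻¹ = (x * x) * k * (x * x)⁻¹ := by group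
            _ = k := by rw [hxx]; simp)
        map_mul' := fun a b => Subtype.ext (by
          show x * (a * b) * x⁻¹ = x * a * x⁻¹ * (x * b * x⁻¹)
          group) }
    have hφ : ∀ k : K, ((φ k : K) : Q) = x * k * x⁻¹ := fun _ => rfl
    have hφ2 : φ ^ 2 ^ 1 = 1 := by
      rw [pow_one, pow_two]
      ext k
      show x * (x * k * x⁻¹) * x⁻¹ = k
      calc x * (x * k * x⁻¹) * x⁻¹ = (x * x) * k * (x * x)⁻¹ := by group
        _ = k := by rw [hxx]; simp
    obtain ⟨P⟩ : Nonempty (Sylow 2 K) := inferInstance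
    obtain ⟨D, hD⟩ := Cfsg.Agent.ThreePrime.SzRel.exists_szData hSz P
    obtain ⟨j, hj⟩ := hD.inner φ ⟨1, hφ2⟩
    have hjk : ∀ k : K, x * k * x⁻¹ = ((j * k * j⁻¹ : K) : Q) := by
      intro k
      rw [← hφ, hj]
      rfl
    have hj1 : j ≠ 1 := by
      rintro rfl
      obtain ⟨k, hk, hkne⟩ := hxK
      apply hkne
      rw [hjk ⟨k, hk⟩]
      simp
    have hjj : j * j = 1 := by
      have h1 : j * j ∈ center K := by
        rw [mem_center_iff]
        intro g
        have h2 : φ (φ g) = g := by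
          have := DFunLike.congr_fun hφ2 g
          rw [pow_one, pow_two] at this
          exact this
        rw [hj] at h2
        have h4 : j * (j * g * j⁻¹) * j⁻¹ = g := h2
        calc g * (j * j) = (j * (j * g * j⁻¹) * j⁻¹) * (j * j) := by rw [h4]
          _ = j * j * g := by group
      rw [hcK, mem_bot] at h1
      exact h1
    obtain ⟨r, h, T, hr, hr7, hyr, hT, hn, hc⟩ := exists_pair hSz hjj hj1
    have hji : j⁻¹ = j := inv_eq_of_mul_eq_one_left hjj
    have hy : x * ((h : Q) * x * (h : Q)⁻¹) = ((j * (h * j * h⁻¹) : K) : Q) := by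
      have h1 : x * ((h : Q) * x * (h : Q)⁻¹) = (x * h * x⁻¹) * (h : Q)⁻¹ := by
        rw [hxi]; group
      rw [h1, hjk]
      push_cast
      have h2 : ((j⁻¹ : K) : Q) = (j : Q) := by rw [hji]
      rw [← Subgroup.coe_inv, h2]
      group
    refine ⟨r, h, T.map K.subtype, hr, hr7, ?_, hT.map _, ?_, ?_⟩
    · rw [hy, ← Subgroup.coe_pow, hyr, Subgroup.coe_one]
    · rw [hy]
      rintro _ ⟨t, ht, rfl⟩
      exact ⟨_, hn t ht, rfl⟩
    · rw [hy]
      intro hcen
      apply hc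
      intro t ht
      exact Subtype.ext (hcen t ⟨t, ht, rfl⟩)
  · -- `x` moves `K`
    push Not at hnorm
    obtain ⟨k₀, hk₀, hk₀n⟩ := hnorm
    have hK' : IsComponent (K.map (MulAut.conj x).toMonoidHom) := Components.isComponent_conj x hK
    have hneK : K.map (MulAut.conj x).toMonoidHom ≠ K := by
      intro h
      apply hk₀n
      rw [← h]
      exact ⟨k₀, hk₀, rfl⟩
    have hcomm : ∀ a ∈ K, ∀ b ∈ K, (x * a * x⁻¹) * b = b * (x * a * x⁻¹) := by
      intro a ha b hb
      exact (OddFixed.commute_of_ne hK' hK hneK ⟨a, ha, rfl⟩ hb : Commute _ _)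
    obtain ⟨r, k, T, hr, hr7, hyr, hT, hn, hc⟩ := exists_single hSz
    have hy : x * ((k⁻¹ : Q) * x * (k⁻¹ : Q)⁻¹) = (x * (k : Q)⁻¹ * x⁻¹) * k := by
      rw [hxi]; group
    have hki : (k : Q)⁻¹ ∈ K := K.inv_mem k.2
    have hact : ∀ t ∈ K, ((x * (k : Q)⁻¹ * x⁻¹) * k) * t * ((x * (k : Q)⁻¹ * x⁻¹) * k)⁻¹ = k * t * (k : Q)⁻¹ := by
      intro t ht
      have h1 := hcomm _ hki _ (K.mul_mem (K.mul_mem k.2 ht) hki)
      calc ((x * (k : Q)⁻¹ * x⁻¹) * k) * t * ((x * (k : Q)⁻¹ * x⁻¹) * k)⁻¹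
          = (x * (k : Q)⁻¹ * x⁻¹) * (k * t * (k : Q)⁻¹) * (x * (k : Q)⁻¹ * x⁻¹)⁻¹ := by group
        _ = _ := by rw [h1, mul_inv_cancel_right]
    refine ⟨r, (k⁻¹ : Q), T.map K.subtype, hr, hr7, ?_, hT.map _, ?_, ?_⟩
    · rw [hy]
      have h1 : Commute (x * (k : Q)⁻¹ * x⁻¹) (k : Q) := hcomm _ hki _ k.2
      have h2 : (k : Q) ^ r = 1 := by rw [← Subgroup.coe_pow, hyr, Subgroup.coe_one]
      rw [h1.mul_pow, conj_pow, inv_pow, h2, inv_one, mul_one, mul_one, mul_inv_cancel]
    · rw [hy]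
      rintro _ ⟨t, ht, rfl⟩
      show ((x * (k : Q)⁻¹ * x⁻¹) * k) * (t : Q) * ((x * (k : Q)⁻¹ * x⁻¹) * k)⁻¹ ∈ _
      rw [hact t t.2]
      exact ⟨_, hn t ht, rfl⟩
    · rw [hy]
      intro hcen
      apply hc
      intro t ht
      have h1 := hcen t ⟨t, ht, rfl⟩
      have h2 := hact t t.2
      have h4 : ((x * (k : Q)⁻¹ * x⁻¹) * k) * (t : Q) * ((x * (k : Q)⁻¹ * x⁻¹) * k)⁻¹ = t := by
        rw [h1, mul_inv_cancel_right]
      rw [h4] at h2
      apply Subtype.ext
      show (k : Q) * t = t * k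
      calc (k : Q) * t = (k * t * (k : Q)⁻¹) * k := by group
        _ = t * k := by rw [← h2]

end Cfsg.Agent.H556.SzPair
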